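import Cfsg.Agent.H572.ExcE
import Cfsg.Agent.H566.WeylST
import Cfsg.Agent.H169.ExcOrd
import Cfsg.Agent.S1092
import Cfsg.Agent.S1093

/-!
# `PairN` for the exceptional groups, the full case (S4350)

* `f4_three`, `e7_three`, `e8_three`, `e6_three_one`, `twE6_three_two`;
* `e8_five`, `e7_five`.
-/

set_option autoImplicit false
set_option linter.unusedSectionVars false

namespace Cfsg.Agent.H572.ExcF

open CoxeterSystem Cfsg Cfsg.Lie Cfsg.Lie.ChevalleyDatum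
open Cfsg.Agent.ChevalleyStructure Cfsg.Agent.ChevalleyStructure.Elts Cfsg.Agent.ChevalleyStructure.CoxeterGeom
  Cfsg.Agent.ChevalleyStructure.CoxeterGeomTypes Cfsg.Agent.ChevalleyStructure.NPerm
open Cfsg.Agent.Tits.Roots Cfsg.Agent.Tits.Core Cfsg.Agent.Nodes Cfsg.Agent.Nodes.Reps Cfsg.Agent.Nodes.BNOf
  Cfsg.Agent.Nodes.RGDChev Cfsg.Agent.Nodes.Bruhat
open Cfsg.Agent.H572.ExcA Cfsg.Agent.H572.ExcB Cfsg.Agent.H572.ExcC Cfsg.Agent.H572.ExcD Cfsg.Agent.H572.ExcE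
open Cfsg.Agent.H129.TorusChar Cfsg.Agent.H795.NotAbRows Cfsg.Agent.H795.NotAbData Cfsg.Agent.BpExc.RowsUntw
  Cfsg.Agent.H129.WData
open Cfsg.Agent.H553.OddHall Cfsg.Agent.H566.WeylST Cfsg.Agent.H169.ExcOrd

universe u

theorem prime_le_of_dvd {t n B : ℕ} (ht : t.Prime) (h : t ∣ n) (hB : ∀ p ∈ n.primeFactors, p ≤ B) (hn : n ≠ 0) :
    t ≤ B := hB t (Nat.mem_primeFactors.2 ⟨ht, h, hn⟩)

theorem not_dvd_of_card {W : Type*} [Group W] [Finite W] {t n : ℕ} (hn : Nat.card W = n) (h : ¬ t ∣ n)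
    (H : Subgroup W) : ¬ t ∣ Nat.card H := fun h1 => h (hn ▸ h1.trans H.card_subgroup_dvd_card)

theorem dvd_cases {t : ℕ} (ht : t.Prime) {n : ℕ} (hn : n = 2 ^ 7 * 3 ^ 2 ∨ n = 2 ^ 7 * 3 ^ 4 * 5 ∨
    n = 2 ^ 10 * 3 ^ 4 * 5 * 7 ∨ n = 2 ^ 14 * 3 ^ 5 * 5 ^ 2 * 7) (h : t ∣ n) : t = 2 ∨ t = 3 ∨ (t = 5 ∧ 5 ∣ n) ∨ (t = 7 ∧ 7 ∣ n) := by
  have h2 : t ∣ 2 ^ 14 * 3 ^ 5 * 5 ^ 2 * 7 := by
    rcases hn with rfl | rfl | rfl | rfl
    · exact h.trans ⟨2 ^ 7 * 3 ^ 3 * 5 ^ 2 * 7, by norm_num⟩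
    · exact h.trans ⟨2 ^ 7 * 3 * 5 * 7, by norm_num⟩
    · exact h.trans ⟨2 ^ 4 * 3 * 5, by norm_num⟩
    · exact h
  rcases (ht.dvd_mul).1 h2 with h3 | h3
  · rcases (ht.dvd_mul).1 h3 with h4 | h4
    · rcases (ht.dvd_mul).1 h4 with h5 | h5
      · exact Or.inl ((Nat.prime_dvd_prime_iff_eq ht Nat.prime_two).1 (ht.dvd_of_dvd_pow h5))
      · exact Or.inr (Or.inl ((Nat.prime_dvd_prime_iff_eq ht Nat.prime_three).1 (ht.dvd_of_dvd_pow h5)))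
    · have h5 := (Nat.prime_dvd_prime_iff_eq ht Nat.prime_five).1 (ht.dvd_of_dvd_pow h4)
      exact Or.inr (Or.inr (Or.inl ⟨h5, h5 ▸ h⟩))
  · have h5 := (Nat.prime_dvd_prime_iff_eq ht (by norm_num : Nat.Prime 7)).1 h3
    exact Or.inr (Or.inr (Or.inr ⟨h5, h5 ▸ h⟩))

theorem card_F4 : Nat.card CoxeterMatrix.F₄.Group = 1152 := S1092.result (⟨4, CoxeterMatrix.F₄⟩, 1152) (by simp)
theorem card_E6 : Nat.card CoxeterMatrix.E₆.Group = 51840 := S1093.result (⟨6, CoxeterMatrix.E₆⟩, 51840) (by simp)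
theorem card_E7 : Nat.card CoxeterMatrix.E₇.Group = 2903040 := S1093.result (⟨7, CoxeterMatrix.E₇⟩, 2903040) (by simp)
theorem card_E8 : Nat.card CoxeterMatrix.E₈.Group = 696729600 :=
  S1093.result (⟨8, CoxeterMatrix.E₈⟩, 696729600) (by simp)

variable {F : Type u} [Field F] [Fintype F]

/-- `q ≡ ±1` -/
theorem exists_eps {s : ℕ} (q : ℕ) (h : (s : ℤ) ∣ (q : ℤ) - 1 ∨ (s : ℤ) ∣ (q : ℤ) - (-1 : ℤ)) :
    ∃ ε : ℤ, (ε = 1 ∨ ε = -1) ∧ (s : ℤ) ∣ (q : ℤ) - ε := by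
  rcases h with h | h
  · exact ⟨1, Or.inl rfl, h⟩
  · exact ⟨-1, Or.inr rfl, h⟩

theorem three_cases (h3 : (3 : F) ≠ 0) : ((3 : ℕ) : ℤ) ∣ (Fintype.card F : ℤ) - 1 ∨
    ((3 : ℕ) : ℤ) ∣ (Fintype.card F : ℤ) - (-1 : ℤ) := by
  have h0 : ¬ 3 ∣ Fintype.card F := by
    intro h
    have h1 : ((Fintype.card F : ℕ) : F) = 0 := FiniteField.cast_card_eq_zero F
    obtain ⟨p, n, hp, hn⟩ := FiniteField.card' F
    obtain ⟨hpp, hc⟩ := hn
    rw [hc] at h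
    have h2 := Nat.prime_three.dvd_of_dvd_pow h
    have h3' := (Nat.prime_dvd_prime_iff_eq Nat.prime_three hpp).1 h2
    subst h3'
    exact h3 (by exact_mod_cast CharP.cast_eq_zero F 3)
  omega

section Neg

variable {D : ChevalleyDatum} {l : ℕ} {M : CoxeterMatrix (Fin l)} (hp : IsType D l M)

/-- `ε` is realised if `-1` is -/
theorem exists_w {w : M.Group} (hw : ∀ x, rep M.toCoxeterSystem hp.isCartan w x = (-1 : ℤ) • x) {ε : ℤ}
    (hε : ε = 1 ∨ ε = -1) : ∃ w : M.Group, ∀ x, rep M.toCoxeterSystem hp.isCartan w x = ε • x := by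
  rcases hε with rfl | rfl
  · exact ⟨1, fun x => by rw [map_one, Module.End.one_apply, one_smul]⟩
  · exact ⟨w, hw⟩

end Neg

theorem negF4 (x : Fin 4 → ℤ) : rep CoxeterMatrix.F₄.toCoxeterSystem f4T.isCartan F4.c6 x = (-1 : ℤ) • x :=
  eps_of_mat (hp := f4T) (g := AddEquiv.refl _) (w := F4.c6) refl_mat (F4.is_c6 f4T) (by decide +kernel) x

set_option maxRecDepth 100000 in
theorem negE7 (x : Fin 7 → ℤ) : rep CoxeterMatrix.E₇.toCoxeterSystem e7T.isCartan E7.c9 x = (-1 : ℤ) • x :=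
  eps_of_mat (hp := e7T) (g := AddEquiv.refl _) (w := E7.c9) refl_mat (E7.is_c9 e7T) (by decide +kernel) x

set_option maxRecDepth 100000 in
theorem negE8 (x : Fin 8 → ℤ) : rep CoxeterMatrix.E₈.toCoxeterSystem e8T.isCartan E8.c15 x = (-1 : ℤ) • x :=
  eps_of_mat (hp := e8T) (g := AddEquiv.refl _) (w := E8.c15) refl_mat (E8.is_c15 e8T) (by decide +kernel) x

/-- `F₄(q)`, `s = 3` -/
theorem f4_three (h3 : (3 : F) ≠ 0) {t : ℕ} (ht : t.Prime) (ht2 : t ≠ 2) (ht3 : t ≠ 3) :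
    PairN t 3 ↥(chevF4.group F) := by
  have : Fact t.Prime := ⟨ht⟩
  have hWf : Finite CoxeterMatrix.F₄.Group := finite_W f4T CoxeterMatrix.F₄.toCoxeterSystem
  obtain ⟨ε, hε, hq⟩ := exists_eps _ (three_cases h3)
  obtain ⟨w, hw⟩ := exists_w f4T negF4 hε
  refine three_untw f4T datF4 h3 hε w hw hq (c₀ := 0) (N₂ := 2) (fun a => ?_) ?_ (fun a ha h1 h2 => ?_) ht2 ht3 ?_
  · rw [card_KA invC_F4 (Nat.coprime_one_left _)]
    exact one_dvd _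
  · rw [card_F4]; norm_num
  · have h3 := F4_three (F := F) rfl ha h1 h2
    have h4 : a * 4 - 0 + 2 + 1 = 4 * a + 3 := by omega
    rw [h4]
    exact h3
  · intro H _ _
    refine not_dvd_of_card card_F4 (fun h => ?_) H
    rcases dvd_cases ht (Or.inl (by norm_num)) h with h | h | h | h
    · exact ht2 h
    · exact ht3 h
    · exact absurd h.2 (by norm_num)
    · exact absurd h.2 (by norm_num)

/-- `E₇(q)`, `s = 3` -/
theorem e7_three (h3 : (3 : F) ≠ 0) {t : ℕ} (ht : t.Prime) (ht2 : t ≠ 2) (ht3 : t ≠ 3) :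
    PairN t 3 ↥(chevE7.group F) := by
  have : Fact t.Prime := ⟨ht⟩
  have hWf : Finite CoxeterMatrix.E₇.Group := finite_W e7T CoxeterMatrix.E₇.toCoxeterSystem
  obtain ⟨ε, hε, hq⟩ := exists_eps _ (three_cases h3)
  obtain ⟨w, hw⟩ := exists_w e7T negE7 hε
  refine three_untw e7T datE7 h3 hε w hw hq (c₀ := 0) (N₂ := 4) (fun a => ?_) ?_ (fun a ha h1 h2 => ?_) ht2 ht3 ?_
  · rw [card_KA invC_E7 (Nat.Coprime.pow_right a (by norm_num))]
    exact one_dvd _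
  · rw [card_E7]; norm_num
  · have h3 := E7_three (F := F) rfl ha h1 h2
    have h4 : a * 7 - 0 + 4 + 1 = 7 * a + 5 := by omega
    rw [h4]
    exact h3
  · intro H hH h4 h
    rcases dvd_cases ht (Or.inr (Or.inr (Or.inl (by norm_num)))) (card_E7 ▸ h.trans H.card_subgroup_dvd_card) with
      h | h | h | h
    · exact ht2 h
    · exact ht3 h
    · obtain ⟨rfl, -⟩ := h
      exact wl_E7_35 H hH h4 ‹_›
    · obtain ⟨rfl, -⟩ := h
      exact wl_E7_37 H hH h4 ‹_›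

/-- `E₈(q)`, `s = 3` -/
theorem e8_three (h3 : (3 : F) ≠ 0) {t : ℕ} (ht : t.Prime) (ht2 : t ≠ 2) (ht3 : t ≠ 3) :
    PairN t 3 ↥(chevE8.group F) := by
  have : Fact t.Prime := ⟨ht⟩
  have hWf : Finite CoxeterMatrix.E₈.Group := finite_W e8T CoxeterMatrix.E₈.toCoxeterSystem
  obtain ⟨ε, hε, hq⟩ := exists_eps _ (three_cases h3)
  obtain ⟨w, hw⟩ := exists_w e8T negE8 hε
  refine three_untw e8T datE8 h3 hε w hw hq (c₀ := 0) (N₂ := 5) (fun a => ?_) ?_ (fun a ha h1 h2 => ?_) ht2 ht3 ?_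
  · rw [card_KA invC_E8 (Nat.coprime_one_left _)]
    exact one_dvd _
  · rw [card_E8]; norm_num
  · have h3 := E8_three (F := F) rfl ha h1 h2
    have h4 : a * 8 - 0 + 5 + 1 = 8 * a + 6 := by omega
    rw [h4]
    exact h3
  · intro H hH h4 h
    rcases dvd_cases ht (Or.inr (Or.inr (Or.inr (by norm_num)))) (card_E8 ▸ h.trans H.card_subgroup_dvd_card) with
      h | h | h | h
    · exact ht2 h
    · exact ht3 h
    · obtain ⟨rfl, -⟩ := h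
      exact wl_E8_35 H hH h4 ‹_›
    · obtain ⟨rfl, -⟩ := h
      exact wl_E8_37 H hH h4 ‹_›

/-- `E₆(q)`, `s = 3`, `q ≡ 1` -/
theorem e6_three_one (h3 : (3 : F) ≠ 0) (hq3 : Fintype.card F % 3 = 1) {t : ℕ} (ht : t.Prime) (ht2 : t ≠ 2)
    (ht3 : t ≠ 3) : PairN t 3 ↥(chevE6.group F) := by
  have : Fact t.Prime := ⟨ht⟩
  have hWf : Finite CoxeterMatrix.E₆.Group := finite_W e6T CoxeterMatrix.E₆.toCoxeterSystem
  have hq : (3 : ℤ) ∣ (Fintype.card F : ℤ) - 1 := by omega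
  refine three_untw e6T datE6 h3 (Or.inl rfl) 1 (fun x => by rw [map_one, Module.End.one_apply, one_smul]) hq
    (c₀ := 1) (N₂ := 4) (fun a => ?_) ?_ (fun a ha h1 h2 => ?_) ht2 ht3 ?_
  · rw [pow_one]
    exact card_KA_E6 a
  · rw [card_E6]; norm_num
  · have h3 := E6_three_one (F := F) rfl ha h1 h2 hq3
    have h4 : a * 6 - 1 + 4 + 1 = 6 * a + 4 := by omega
    rw [h4]
    exact h3
  · intro H hH h4 h
    rcases dvd_cases ht (Or.inr (Or.inl (by norm_num))) (card_E6 ▸ h.trans H.card_subgroup_dvd_card) with h | h | h | h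
    · exact ht2 h
    · exact ht3 h
    · obtain ⟨rfl, -⟩ := h
      exact wl_E6_35 H hH h4 ‹_›
    · exact absurd h.2 (by norm_num)

/-- `²E₆(q)`, `s = 3`, `q ≡ 2` -/
theorem twE6_three_two {q : ℕ} (h3 : (3 : F) ≠ 0) (hq : IsPrimePow q) (hF : Fintype.card F = q ^ 2) (hq3 : q % 3 = 2)
    {t : ℕ} (ht : t.Prime) (ht2 : t ≠ 2) (ht3 : t ≠ 3) : PairN t 3 ↥(twistedE6 F q) := by
  have : Fact t.Prime := ⟨ht⟩
  refine three_twE6 h3 hq hF (by omega) (fun a ha h1 h2 => ?_) ht2 ht3 ?_ ?_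
  · have h3 := Cfsg.Agent.H169.ExcOrd.twE6_three_two (F := F) hq hF ha h1 h2 hq3
    rw [mul_comm]
    exact h3
  · rw [card_E6]; norm_num
  · intro H hH h4 h
    rcases dvd_cases ht (Or.inr (Or.inl (by norm_num))) (card_E6 ▸ h.trans H.card_subgroup_dvd_card) with h | h | h | h
    · exact ht2 h
    · exact ht3 h
    · obtain ⟨rfl, -⟩ := h
      exact wl_E6_35 H hH h4 ‹_›
    · exact absurd h.2 (by norm_num)

/-- `E₈(q)`, `s = 5`, `5 ∣ q² - 1` -/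
theorem e8_five (h5 : (5 : F) ≠ 0) (hq : (5 : ℤ) ∣ (Fintype.card F : ℤ) - 1 ∨ (5 : ℤ) ∣ (Fintype.card F : ℤ) - (-1 : ℤ))
    {t : ℕ} (ht : t.Prime) (ht2 : t ≠ 2) (ht3 : t ≠ 3) (ht5 : t ≠ 5) : PairN t 5 ↥(chevE8.group F) := by
  have : Fact t.Prime := ⟨ht⟩
  have hWf : Finite CoxeterMatrix.E₈.Group := finite_W e8T CoxeterMatrix.E₈.toCoxeterSystem
  obtain ⟨ε, hε, hq⟩ := exists_eps (s := 5) _ hq
  obtain ⟨w, hw⟩ := exists_w e8T negE8 hε
  refine five_untw e8T datE8 le_rfl (by exact_mod_cast h5) hε w hw hq (N₂ := 2) (by decide +kernel) ?_ (fun a ha h1 h2 => ?_) ht2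
    (Ne.symm ht5) ?_
  · rw [card_E8]; norm_num
  · have h3 := E8_five (F := F) rfl ha h1 h2
    have h4 : a * 8 + 2 + 1 = 8 * a + 3 := by omega
    rw [h4]
    exact h3
  · intro H hH h4 h
    rcases dvd_cases ht (Or.inr (Or.inr (Or.inr (by norm_num)))) (card_E8 ▸ h.trans H.card_subgroup_dvd_card) with
      h | h | h | h
    · exact ht2 h
    · exact ht3 h
    · exact ht5 h.1
    · obtain ⟨rfl, -⟩ := h
      exact wl_E8_57 H hH h4 ‹_›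

/-- `E₇(q)`, `s = 5`, `5 ∣ q² - 1` -/
theorem e7_five (h5 : (5 : F) ≠ 0) (hq : (5 : ℤ) ∣ (Fintype.card F : ℤ) - 1 ∨ (5 : ℤ) ∣ (Fintype.card F : ℤ) - (-1 : ℤ))
    {t : ℕ} (ht : t.Prime) (ht2 : t ≠ 2) (ht3 : t ≠ 3) (ht5 : t ≠ 5) : PairN t 5 ↥(chevE7.group F) := by
  have : Fact t.Prime := ⟨ht⟩
  have hWf : Finite CoxeterMatrix.E₇.Group := finite_W e7T CoxeterMatrix.E₇.toCoxeterSystem
  obtain ⟨ε, hε, hq⟩ := exists_eps (s := 5) _ hq
  obtain ⟨w, hw⟩ := exists_w e7T negE7 hε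
  refine five_untw e7T datE7 le_rfl (by exact_mod_cast h5) hε w hw hq (N₂ := 1) (by decide +kernel) ?_ (fun a ha h1 h2 => ?_) ht2
    (Ne.symm ht5) ?_
  · rw [card_E7]; norm_num
  · have h3 := E7_five (F := F) rfl ha h1 h2
    have h4 : a * 7 + 1 + 1 = 7 * a + 2 := by omega
    rw [h4]
    exact h3
  · intro H hH h4 h
    rcases dvd_cases ht (Or.inr (Or.inr (Or.inl (by norm_num)))) (card_E7 ▸ h.trans H.card_subgroup_dvd_card) with
      h | h | h | h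
    · exact ht2 h
    · exact ht3 h
    · exact ht5 h.1
    · obtain ⟨rfl, -⟩ := h
      exact wl_E7_57 H hH h4 ‹_›

end Cfsg.Agent.H572.ExcF
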