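import Cfsg.Agent.H572.ExcD
import Cfsg.Agent.H795.NotAbRows

/-!
# The rows of the full case (S4350, exceptional groups)

* `Dat D l` : the combinatorial data; `datF4 datE6 datE7 datE8`;
* `three_untw`, `five_untw` : `PairN` for the untwisted groups;
-/

set_option autoImplicit false
set_option linter.unusedSectionVars false

namespace Cfsg.Agent.H572.ExcE

open CoxeterSystem Cfsg Cfsg.Lie Cfsg.Lie.ChevalleyDatum
open Cfsg.Agent.ChevalleyStructure Cfsg.Agent.ChevalleyStructure.Elts Cfsg.Agent.ChevalleyStructure.CoxeterGeom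
  Cfsg.Agent.ChevalleyStructure.CoxeterGeomTypes Cfsg.Agent.ChevalleyStructure.NPerm
open Cfsg.Agent.Tits.Roots Cfsg.Agent.Tits.Core Cfsg.Agent.Nodes Cfsg.Agent.Nodes.Reps Cfsg.Agent.Nodes.BNOf
  Cfsg.Agent.Nodes.RGDChev Cfsg.Agent.Nodes.Bruhat
open Cfsg.Agent.KFacts.RgdField Cfsg.Agent.KFacts.RgdChevCoord Cfsg.Agent.BpExc.TorCent Cfsg.Agent.BpExc.TorChev
open Cfsg.Agent.GpExc.Field Cfsg.Agent.BpExc.Tow Cfsg.Agent.BpExc.TowChev Cfsg.Agent.BpExc.Fr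
  Cfsg.Agent.BpExc.LangFr Cfsg.Agent.H129.TorusChar Cfsg.Agent.H129.TorusMain Cfsg.Agent.H123.ExcZ
open Cfsg.Agent.BpExc Cfsg.Agent.H795.LangT Cfsg.Agent.H795.Core Cfsg.Agent.H795.NotAbT
open Cfsg.Agent.H572.ExcA Cfsg.Agent.H572.ExcB Cfsg.Agent.H572.ExcC Cfsg.Agent.H572.ExcD Cfsg.Agent.H572.LatQ
  Cfsg.Agent.H572.LatForm
open Cfsg.Agent.H129.TorusUntw (phi isFrob_phi fr_phi phi_emb coe_phi fix_range fix_split exists_closure)
open Cfsg.Agent.H795.Untw Cfsg.Agent.H795.NotAbRows Cfsg.Agent.BpExc.RowsUntw Cfsg.Agent.PRankPar.CardW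
open Cfsg.Agent.H553.OddHall
open Subgroup

universe u v

/-- the combinatorial data of a type -/
structure Dat (D : ChevalleyDatum) (l : ℕ) where
  (d : ℕ) (Bi : Fin l → Fin l → ℤ) (hB : InvC D l d Bi) (hd : d = 1 ∨ d.Prime)
  (sym : Fin l → ℤ) (i0 : Fin l) (dep : Fin l → ℕ) (S : SymD (cartanOf D l) sym i0 dep)
  (m : ℕ) (ee : Fin m → (Fin l → ℤ)) (norm : ∀ i, nf (cartanOf D l) sym (ee i) (ee i) = 2)
  (span : ∀ j, sr j ∈ AddSubgroup.closure (Set.range ee))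
  (j0 : Fin m) (dp : Fin m → ℕ) (conn : ∀ i, i = j0 ∨ ∃ j, dp j < dp i ∧ nf (cartanOf D l) sym (ee i) (ee j) ≠ 0)
  (a b c : Fin l → ℤ) (ha : nf (cartanOf D l) sym a a = 2) (hb : nf (cartanOf D l) sym b b = 2)
  (hc : nf (cartanOf D l) sym c c = 2) (hab : nf (cartanOf D l) sym a b = -1) (hbc : nf (cartanOf D l) sym b c = -1)
  (hac : nf (cartanOf D l) sym a c = 0)
  (hsym : ∀ i, sym i = 1 ∨ sym i = 2)

variable {D : ChevalleyDatum} {l : ℕ}

theorem Dat.hspan (X : Dat D l) : AddSubgroup.closure (Set.range X.ee) = ⊤ := by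
  rw [eq_top_iff]
  intro x _
  rw [IsMC.eq_sum_sr x]
  exact sum_mem fun j _ => AddSubgroup.zsmul_mem _ (X.span j) _

theorem Dat.hd0 (X : Dat D l) : X.d ≠ 0 := by
  rcases X.hd with h | h
  · rw [h]; norm_num
  · exact h.ne_zero

theorem Dat.hds (X : Dat D l) {s : ℕ} (hs : s.Prime) (hs2 : s ≠ 2) (i : Fin l) : ¬ (s : ℤ) ∣ 2 * X.sym i := by
  intro h
  have h1 : (s : ℤ) ∣ 4 := by
    rcases X.hsym i with h2 | h2
    · rw [h2] at h
      exact h.trans ⟨2, by norm_num⟩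
    · rw [h2] at h
      exact h
  have h3 : s ∣ 2 ^ 2 := by exact_mod_cast h1
  have h4 := hs.dvd_of_dvd_pow h3
  exact hs2 ((Nat.prime_dvd_prime_iff_eq hs Nat.prime_two).1 h4)

/-- the kernel is trivial if `d` is a unit -/
theorem KA_eq_bot {d : ℕ} {Bi : Fin l → Fin l → ℤ} (hB : InvC D l d Bi) {n : ℕ} (hu : Nat.Coprime d n) :
    KA D l n = ⊥ := by
  rw [eq_bot_iff]
  intro m hm
  rw [AddSubgroup.mem_bot]
  let A' : Matrix (Fin l) (Fin l) (ZMod n) := fun j i => (cartanOf D l j i : ZMod n)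
  let B' : Matrix (Fin l) (Fin l) (ZMod n) := fun j i => (Bi j i : ZMod n)
  have h1 : B' * A' = (d : ZMod n) • (1 : Matrix (Fin l) (Fin l) (ZMod n)) := by
    ext i j
    rw [Matrix.mul_apply, Matrix.smul_apply, Matrix.one_apply]
    have h2 := congrArg (fun z : ℤ => (z : ZMod n)) (hB i j)
    simp only [Int.cast_sum, Int.cast_mul] at h2
    show ∑ k, (Bi i k : ZMod n) * (cartanOf D l k j : ZMod n) = _
    rw [h2]
    split_ifs <;> simp
  have hdu : IsUnit (d : ZMod n) := (ZMod.isUnit_iff_coprime d n).2 hu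
  obtain ⟨u, hu'⟩ := hdu
  have h3 : ((↑u⁻¹ : ZMod n) • B') * A' = 1 := by
    rw [Matrix.smul_mul, h1, smul_smul, ← hu', Units.inv_mul, one_smul]
  have h4 := mul_eq_one_comm.1 h3
  have h5 : Matrix.vecMul m A' = 0 := by
    funext i
    exact hm i
  calc m = Matrix.vecMul m 1 := (Matrix.vecMul_one m).symm
    _ = Matrix.vecMul (Matrix.vecMul m A') ((↑u⁻¹ : ZMod n) • B') := by rw [Matrix.vecMul_vecMul, h4]
    _ = 0 := by rw [h5, Matrix.zero_vecMul]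

theorem card_KA {d : ℕ} {Bi : Fin l → Fin l → ℤ} (hB : InvC D l d Bi) {n : ℕ} (hu : Nat.Coprime d n) :
    Nat.card (KA D l n) = 1 := by rw [KA_eq_bot hB hu, AddSubgroup.card_bot]

/-- the kernel for `E₆` -/
theorem card_KA_E6 (a : ℕ) : Nat.card (KA chevE6 6 (3 ^ a)) ∣ 3 := by
  have : NeZero (3 ^ a) := ⟨by positivity⟩
  have hA := cartan_E6
  -- the equations
  have heq : ∀ m ∈ KA chevE6 6 (3 ^ a), 3 * m 0 = 0 ∧ (m 0 = 0 → m = 0) := by
    intro m hm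
    have h0 := hm 0
    have h1 := hm 1
    have h2 := hm 2
    have h3 := hm 3
    have h4 := hm 4
    have h5 := hm 5
    rw [hA] at h0 h1 h2 h3 h4 h5
    simp only [Fin.sum_univ_six, AE6] at h0 h1 h2 h3 h4 h5
    simp at h0 h1 h2 h3 h4 h5
    have e1 : 3 * m 0 = 0 := by linear_combination 4 * h0 + 3 * h1 + 5 * h2 + 6 * h3 + 4 * h4 + 2 * h5
    refine ⟨e1, fun hm0 => ?_⟩
    have m2 : m 2 = 0 := by linear_combination (-1 : ZMod (3 ^ a)) * h0 + 2 * hm0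
    have m3 : m 3 = 0 := by linear_combination (-1 : ZMod (3 ^ a)) * h2 - hm0 + 2 * m2
    have e2 : 2 * m 1 = 0 := by linear_combination h1 + m3
    have e3 : m 1 = - m 4 := by linear_combination (-1 : ZMod (3 ^ a)) * h3 - m2 + 2 * m3
    have e4 : m 5 = 2 * m 4 := by linear_combination (-1 : ZMod (3 ^ a)) * h4 - m3
    have e5 : 3 * m 4 = 0 := by linear_combination h5 - 2 * e4
    have m4 : m 4 = 0 := by linear_combination e5 + e2 - 2 * e3
    have m1 : m 1 = 0 := by rw [e3, m4, neg_zero]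
    have m5 : m 5 = 0 := by rw [e4, m4, mul_zero]
    funext i
    fin_cases i
    · exact hm0
    · exact m1
    · exact m2
    · exact m3
    · exact m4
    · exact m5
  -- at most three elements
  have hle : Nat.card (KA chevE6 6 (3 ^ a)) ≤ 3 := by
    classical
    have h1 := IsAddCyclic.card_nsmul_eq_zero_le (α := ZMod (3 ^ a)) (n := 3) (by norm_num)
    rw [← Fintype.card_subtype, ← Nat.card_eq_fintype_card] at h1
    refine le_trans (Nat.card_le_card_of_injective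
      (fun m : KA chevE6 6 (3 ^ a) => (⟨(m : Fin 6 → ZMod (3 ^ a)) 0, by
        rw [nsmul_eq_mul]; exact_mod_cast (heq m m.2).1⟩ : {x : ZMod (3 ^ a) // 3 • x = 0})) ?_) h1
    intro x y hxy
    have h2 : (x : Fin 6 → ZMod (3 ^ a)) 0 = (y : Fin 6 → ZMod (3 ^ a)) 0 := congrArg Subtype.val hxy
    have h3 := (heq _ (x - y).2).2 (by
      show (x : Fin 6 → ZMod (3 ^ a)) 0 - (y : Fin 6 → ZMod (3 ^ a)) 0 = 0
      rw [h2, sub_self])
    apply Subtype.ext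
    have h4 : (x : Fin 6 → ZMod (3 ^ a)) - y = 0 := h3
    exact sub_eq_zero.1 h4
  have hdvd : Nat.card (KA chevE6 6 (3 ^ a)) ∣ 3 ^ (a * 6) := by
    have h1 := (KA chevE6 6 (3 ^ a)).card_addSubgroup_dvd_card
    have h2 : Nat.card (Fin 6 → ZMod (3 ^ a)) = 3 ^ (a * 6) := by
      rw [Nat.card_pi]
      simp [pow_mul]
    rwa [h2] at h1
  obtain ⟨j, -, hj⟩ := (Nat.dvd_prime_pow Nat.prime_three).1 hdvd
  rw [hj] at hle ⊢
  have : j ≤ 1 := by
    by_contra h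
    have h1 : 3 ^ 2 ≤ 3 ^ j := Nat.pow_le_pow_right (by norm_num) (by omega)
    omega
  exact pow_dvd_pow 3 this

/-! ### the data -/

def eeF4 : Fin 4 → (Fin 4 → ℤ) := ![![1, 0, 0, 0], ![0, 1, 0, 0], ![0, 1, 1, 0], ![0, 1, 1, 1]]

set_option backward.isDefEq.respectTransparency false in
def datF4 : Dat chevF4 4 where
  d := 1
  Bi := _
  hB := invC_F4
  hd := Or.inl rfl
  sym := ![1, 1, 2, 2]
  i0 := 0
  dep := ![0, 1, 2, 3]
  S := by
    rw [cartan_F4]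
    exact ⟨by decide +kernel, by decide +kernel, by decide +kernel⟩
  m := 4
  ee := eeF4
  norm := by
    rw [cartan_F4]
    decide +kernel
  span := by
    intro j
    have h : ∀ i, eeF4 i ∈ AddSubgroup.closure (Set.range eeF4) := fun i => AddSubgroup.subset_closure ⟨i, rfl⟩
    fin_cases j
    · convert h 0 using 1
      decide +kernel
    · convert h 1 using 1
      decide +kernel
    · have h1 := sub_mem (h 2) (h 1)
      convert h1 using 1
      decide +kernel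
    · have h1 := sub_mem (h 3) (h 2)
      convert h1 using 1
      decide +kernel
  j0 := 0
  dp := ![0, 1, 1, 1]
  conn := by
    rw [cartan_F4]
    decide +kernel
  a := ![0, 1, 0, 0]
  b := ![1, 0, 0, 0]
  c := ![0, 1, 1, 0]
  ha := by rw [cartan_F4]; decide +kernel
  hb := by rw [cartan_F4]; decide +kernel
  hc := by rw [cartan_F4]; decide +kernel
  hab := by rw [cartan_F4]; decide +kernel
  hbc := by rw [cartan_F4]; decide +kernel
  hac := by rw [cartan_F4]; decide +kernel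
  hsym := by decide +kernel

/-- simply laced types -/
def datADE {D : ChevalleyDatum} {l : ℕ} {A : Fin l → Fin l → ℤ} (hA : cartanOf D l = A) (d : ℕ)
    (Bi : Fin l → Fin l → ℤ) (hB : InvC D l d Bi) (hd : d = 1 ∨ d.Prime) (i0 : Fin l) (dep : Fin l → ℕ)
    (hsym : ∀ i j, A i j = A j i) (hconn : ∀ i, i = i0 ∨ ∃ j, dep j < dep i ∧ A i j ≠ 0)
    (hnorm : ∀ i, nf A (fun _ => 1) (sr i) (sr i) = 2)
    (hconn' : ∀ i, i = i0 ∨ ∃ j, dep j < dep i ∧ nf A (fun _ => 1) (sr i) (sr j) ≠ 0) (i j k : Fin l)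
    (hij : nf A (fun _ => 1) (sr i) (sr j) = -1) (hjk : nf A (fun _ => 1) (sr j) (sr k) = -1)
    (hik : nf A (fun _ => 1) (sr i) (sr k) = 0) : Dat D l where
  d := d
  Bi := Bi
  hB := hB
  hd := hd
  sym := fun _ => 1
  i0 := i0
  dep := dep
  S := by
    rw [hA]
    exact ⟨fun i j => by rw [hsym i j], fun _ => one_pos, hconn⟩
  m := l
  ee := sr
  norm := by rw [hA]; exact hnorm
  span := fun j => AddSubgroup.subset_closure ⟨j, rfl⟩
  j0 := i0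
  dp := dep
  conn := by rw [hA]; exact hconn'
  a := sr i
  b := sr j
  c := sr k
  ha := by rw [hA]; exact hnorm i
  hb := by rw [hA]; exact hnorm j
  hc := by rw [hA]; exact hnorm k
  hab := by rw [hA]; exact hij
  hbc := by rw [hA]; exact hjk
  hac := by rw [hA]; exact hik
  hsym := fun _ => Or.inl rfl

def datE6 : Dat chevE6 6 :=
  datADE cartan_E6 3 _ invC_E6 (Or.inr Nat.prime_three) 0 ![0, 3, 1, 2, 3, 4] (by decide +kernel) (by decide +kernel)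
    (by decide +kernel) (by decide +kernel) 0 2 3 (by decide +kernel) (by decide +kernel) (by decide +kernel)

def datE7 : Dat chevE7 7 :=
  datADE cartan_E7 2 _ invC_E7 (Or.inr Nat.prime_two) 0 ![0, 3, 1, 2, 3, 4, 5] (by decide +kernel) (by decide +kernel)
    (by decide +kernel) (by decide +kernel) 0 2 3 (by decide +kernel) (by decide +kernel) (by decide +kernel)

def datE8 : Dat chevE8 8 :=
  datADE cartan_E8 1 _ invC_E8 (Or.inl rfl) 0 ![0, 3, 1, 2, 3, 4, 5, 6] (by decide +kernel) (by decide +kernel)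
    (by decide +kernel) (by decide +kernel) 0 2 3 (by decide +kernel) (by decide +kernel) (by decide +kernel)

/-! ### the untwisted rows -/

section

variable {M : CoxeterMatrix (Fin l)} {hp : IsType D l M} {k : Type u} [Field k] [IsAlgClosed k] (hk : LocFin k)
  {r e : ℕ} [Fact r.Prime] [CharP k r] {G : Type v} [Group G] [Finite G] {f : G →* ↥(D.group k)}
  {σ : MulAut ↥(D.group k)} {g : (Fin l → ℤ) ≃+ (Fin l → ℤ)}

include hk in
/-- `s = 3`, the full case -/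
theorem three_full (X : Dat D l) (hf : Function.Injective f) (he : 0 < e) (hσ : IsFrob r e σ)
    (F : Fr M.toCoxeterSystem hp.isCartan (TT D k) (XX D l k) σ g) (hfix : ∀ x, σ (f x) = f x)
    (hfin : Finite {y : ↥(D.group k) // σ y = y})
    (hcm : ∀ a b, σ a = a → σ b = b → ∃ x, f x = a * b * a⁻¹ * b⁻¹) (w : M.Group) {ε : ℤ}
    (hε : ∀ x, rep M.toCoxeterSystem hp.isCartan w (g x) = ε • x) (h3r : 3 ≠ r) {t : ℕ} [ht : Fact t.Prime]
    (ht2 : t ≠ 2) (ht3 : t ≠ 3) {a c₀ N₂ : ℕ} (ha : 0 < a) (hq : ((3 ^ a : ℕ) : ℤ) ∣ (r : ℤ) ^ e - ε)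
    (hK : Nat.card (KA D l (3 ^ a)) ∣ 3 ^ c₀) (hN₂ : 3 ^ N₂ ∣ Nat.card M.Group)
    (hord : ¬ 3 ^ (a * l - c₀ + N₂ + 1) ∣ Nat.card G)
    (hWL : ∀ H : Subgroup M.Group, (∀ q, q.Prime → q ∣ Nat.card H → q = 3 ∨ q = t) →
      3 ^ N₂ ∣ Nat.card H → ¬ t ∣ Nat.card H) : PairN t 3 G := by
  obtain ⟨κ, τ, z, hE, hκ, hb⟩ := exists_emb (hp := hp) hk hf he hσ F hfix hfin w
  have hθ : ∀ x, (g.trans (repAut M.toCoxeterSystem hp.isCartan w)) x = ε • x := hε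
  have hcm' := fun a b => comm_of_comm (κ := κ) (τ := τ) hκ hb hcm a b
  obtain ⟨ζ, R⟩ := row_full (hp := hp) (hk := hk) (hs := ⟨Nat.prime_three⟩) (by norm_num) h3r hE X.hB X.hd0 hθ hcm' ha hq hK hN₂
    hord X.S X.norm X.hspan (X.hds Nat.prime_three (by norm_num))
  exact pairN_three ht2 ht3 hE X.hB X.hd0 R X.j0 X.dp X.conn X.hspan X.ha X.hb X.hc X.hab X.hbc X.hac
    (fun H _ => hWL H)

include hk in
/-- `s ≥ 5`, the full case -/
theorem five_full (X : Dat D l) (hf : Function.Injective f) (he : 0 < e) (hσ : IsFrob r e σ)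
    (F : Fr M.toCoxeterSystem hp.isCartan (TT D k) (XX D l k) σ g) (hfix : ∀ x, σ (f x) = f x)
    (hfin : Finite {y : ↥(D.group k) // σ y = y})
    (hcm : ∀ a b, σ a = a → σ b = b → ∃ x, f x = a * b * a⁻¹ * b⁻¹) (w : M.Group) {ε : ℤ}
    (hε : ∀ x, rep M.toCoxeterSystem hp.isCartan w (g x) = ε • x) {s : ℕ} [hs : Fact s.Prime] (hs5 : 5 ≤ s)
    (hsr : s ≠ r) {t : ℕ} [ht : Fact t.Prime] (ht2 : t ≠ 2) (hst : s ≠ t) {a c₀ N₂ : ℕ} (ha : 0 < a)
    (hq : ((s ^ a : ℕ) : ℤ) ∣ (r : ℤ) ^ e - ε)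
    (hK : Nat.card (KA D l (s ^ a)) ∣ s ^ c₀) (hN₂ : s ^ N₂ ∣ Nat.card M.Group)
    (hord : ¬ s ^ (a * l - c₀ + N₂ + 1) ∣ Nat.card G)
    (hWL : ∀ H : Subgroup M.Group, (∀ q, q.Prime → q ∣ Nat.card H → q = s ∨ q = t) →
      s ^ N₂ ∣ Nat.card H → ¬ t ∣ Nat.card H) : PairN t s G := by
  obtain ⟨κ, τ, z, hE, hκ, hb⟩ := exists_emb (hp := hp) hk hf he hσ F hfix hfin w
  have hθ : ∀ x, (g.trans (repAut M.toCoxeterSystem hp.isCartan w)) x = ε • x := hε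
  have hcm' := fun a b => comm_of_comm (κ := κ) (τ := τ) hκ hb hcm a b
  obtain ⟨ζ, R⟩ := row_full (hp := hp) (hk := hk) (by omega) hsr hE X.hB X.hd0 hθ hcm' ha hq hK hN₂
    hord X.S X.norm X.hspan (X.hds hs.out (by omega))
  exact pairN_five hs5 ht2 hst hE X.hB X.hd0 R (fun H _ => hWL H)

end

/-! ### arithmetic -/

theorem dvd_of_sq {s : ℕ} (hs : s.Prime) (hs2 : s ≠ 2) {q : ℕ} (hq1 : 1 ≤ q) {ε : ℤ} (hε : ε = 1 ∨ ε = -1)
    (h : (s : ℤ) ∣ q - ε) {a : ℕ} (ha : s ^ a ∣ q ^ 2 - 1) : ((s ^ a : ℕ) : ℤ) ∣ q - ε := by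
  have hεε : ε * ε = 1 := by rcases hε with h | h <;> rw [h] <;> norm_num
  have hsp : Prime (s : ℤ) := Nat.prime_iff_prime_int.1 hs
  have h1 : ¬ (s : ℤ) ∣ q + ε := by
    intro h2
    have h3 : (s : ℤ) ∣ 2 * ε := by
      have := dvd_sub h2 h
      have e : (q : ℤ) + ε - (q - ε) = 2 * ε := by ring
      rwa [e] at this
    rcases hsp.dvd_or_dvd h3 with h4 | h4
    · have h5 : s ∣ 2 := by exact_mod_cast h4
      exact hs2 ((Nat.prime_dvd_prime_iff_eq hs Nat.prime_two).1 h5)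
    · have h5 : (s : ℤ) ∣ 1 := by rw [← hεε]; exact h4.mul_right _
      exact hsp.not_isUnit (isUnit_of_dvd_one h5)
  have h2 : ((s ^ a : ℕ) : ℤ) ∣ (q - ε) * (q + ε) := by
    have h3 : ((s ^ a : ℕ) : ℤ) ∣ ((q ^ 2 - 1 : ℕ) : ℤ) := by exact_mod_cast ha
    have h4 : ((q ^ 2 - 1 : ℕ) : ℤ) = (q - ε) * (q + ε) := by
      rw [Nat.cast_sub (Nat.one_le_pow _ _ hq1)]
      push_cast
      linear_combination hεε
    rwa [h4] at h3
  push_cast at h2 ⊢
  exact (hsp.pow_dvd_of_dvd_mul_right a h1 h2)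

theorem exists_exp {s : ℕ} (hs : s.Prime) {q : ℕ} (hq1 : 2 ≤ q) {ε : ℤ} (hε : ε = 1 ∨ ε = -1)
    (h : (s : ℤ) ∣ q - ε) : ∃ a, 0 < a ∧ s ^ a ∣ q ^ 2 - 1 ∧ ¬ s ^ (a + 1) ∣ q ^ 2 - 1 := by
  have hεε : ε * ε = 1 := by rcases hε with h | h <;> rw [h] <;> norm_num
  have h0 : q ^ 2 - 1 ≠ 0 := by
    have : 2 ^ 2 ≤ q ^ 2 := Nat.pow_le_pow_left hq1 2
    omega
  refine ⟨(q ^ 2 - 1).factorization s, ?_, Nat.ordProj_dvd _ _, Nat.pow_succ_factorization_not_dvd h0 hs⟩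
  apply Nat.pos_of_ne_zero
  intro h1
  have h2 : s ∣ q ^ 2 - 1 := by
    have h3 : (s : ℤ) ∣ ((q ^ 2 - 1 : ℕ) : ℤ) := by
      have h4 : ((q ^ 2 - 1 : ℕ) : ℤ) = (q - ε) * (q + ε) := by
        rw [Nat.cast_sub (Nat.one_le_pow _ _ (by omega))]
        push_cast
        linear_combination hεε
      rw [h4]
      exact h.mul_right _
    exact_mod_cast h3
  have h3 := (hs.dvd_iff_one_le_factorization h0).1 h2
  omega

section Untw

variable {M : CoxeterMatrix (Fin l)} (hp : IsType D l M) {F : Type u} [Field F] [Fintype F]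

include hp in
/-- the set up for the untwisted groups -/
theorem setup_untw' (X : Dat D l) {r e : ℕ} [Fact r.Prime] [CharP (AlgebraicClosure F) r]
    (hk : LocFin (AlgebraicClosure F)) (he : 0 < e) (hq : Fintype.card F = r ^ e) :
    Function.Injective (emb hp.inList (algebraMap F (AlgebraicClosure F))) ∧
    IsFrob r e (phi D (AlgebraicClosure F) r e) ∧
    Fr M.toCoxeterSystem hp.isCartan (TT D (AlgebraicClosure F)) (XX D l (AlgebraicClosure F))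
      (phi D (AlgebraicClosure F) r e) (AddEquiv.refl (Fin l → ℤ)) ∧
    (∀ x, phi D (AlgebraicClosure F) r e (emb hp.inList (algebraMap F (AlgebraicClosure F)) x) =
      emb hp.inList (algebraMap F (AlgebraicClosure F)) x) ∧
    Finite {y : ↥(D.group (AlgebraicClosure F)) // phi D (AlgebraicClosure F) r e y = y} ∧
    ∀ a b, phi D (AlgebraicClosure F) r e a = a → phi D (AlgebraicClosure F) r e b = b →
      ∃ x, emb hp.inList (algebraMap F (AlgebraicClosure F)) x = a * b * a⁻¹ * b⁻¹ := by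
  obtain ⟨p, hp1, hp2⟩ : ∃ p : ℕ, p.Prime ∧ ¬ p ∣ X.d := by
    obtain ⟨p, hp1, hp2⟩ := Nat.exists_infinite_primes (X.d + 1)
    exact ⟨p, hp2, fun h => by
      have := Nat.le_of_dvd (Nat.pos_of_ne_zero X.hd0) h
      omega⟩
  have : Fact p.Prime := ⟨hp1⟩
  have hset := setup_untw hp hk (algebraMap F (AlgebraicClosure F)) he hq X.hB X.hd0 X.hd hp2
  exact ⟨hset.inj, hset.frob, hset.fr, hset.fix, hset.fin,
    comm_mem_of_split (TT_comm hp) hset.norm hset.fix (fun y hy => fix_split hp _ hq hy)⟩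

include hp in
/-- untwisted groups, `s = 3` -/
theorem three_untw (X : Dat D l) (h3 : (3 : F) ≠ 0) {ε : ℤ} (hε2 : ε = 1 ∨ ε = -1) (w : M.Group)
    (hε : ∀ x, rep M.toCoxeterSystem hp.isCartan w x = ε • x) (hq : (3 : ℤ) ∣ (Fintype.card F : ℤ) - ε)
    {c₀ N₂ : ℕ} (hK : ∀ a, Nat.card (KA D l (3 ^ a)) ∣ 3 ^ c₀) (hN₂ : 3 ^ N₂ ∣ Nat.card M.Group)
    (hord : ∀ a, 0 < a → 3 ^ a ∣ Fintype.card F ^ 2 - 1 → ¬ 3 ^ (a + 1) ∣ Fintype.card F ^ 2 - 1 →
      ¬ 3 ^ (a * l - c₀ + N₂ + 1) ∣ Nat.card (D.group F)) {t : ℕ} [ht : Fact t.Prime] (ht2 : t ≠ 2) (ht3 : t ≠ 3)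
    (hWL : ∀ H : Subgroup M.Group, (∀ q, q.Prime → q ∣ Nat.card H → q = 3 ∨ q = t) →
      3 ^ N₂ ∣ Nat.card H → ¬ t ∣ Nat.card H) : PairN t 3 ↥(D.group F) := by
  obtain ⟨r, e, hr, hrF, hrk, he, hqF, hk⟩ := exists_closure (F := F) rfl
  have h3r : 3 ≠ r := by
    rintro rfl
    exact h3 (by exact_mod_cast CharP.cast_eq_zero F 3)
  have hGf : Finite ↥(D.group F) := inferInstance
  have hset := setup_untw' hp X hk he hqF
  obtain ⟨a, ha, ha1, ha2⟩ := exists_exp Nat.prime_three (Fintype.one_lt_card (α := F)) hε2 hq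
  refine three_full (hp := hp) hk X hset.1 he hset.2.1 hset.2.2.1 hset.2.2.2.1 hset.2.2.2.2.1 hset.2.2.2.2.2 w
    (ε := ε) (fun x => hε x) h3r ht2 ht3 ha ?_ (hK a) hN₂ (hord a ha ha1 ha2) hWL
  have h1 := dvd_of_sq Nat.prime_three (by norm_num) (Fintype.card_pos) hε2 hq ha1
  rw [hqF] at h1
  push_cast at h1 ⊢
  exact h1

include hp in
/-- untwisted groups, `s ≥ 5` -/
theorem five_untw (X : Dat D l) {s : ℕ} [hs : Fact s.Prime] (hs5 : 5 ≤ s) (hsF : (s : F) ≠ 0) {ε : ℤ}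
    (hε2 : ε = 1 ∨ ε = -1) (w : M.Group)
    (hε : ∀ x, rep M.toCoxeterSystem hp.isCartan w x = ε • x) (hq : (s : ℤ) ∣ (Fintype.card F : ℤ) - ε)
    {N₂ : ℕ} (hd : ¬ s ∣ X.d) (hN₂ : s ^ N₂ ∣ Nat.card M.Group)
    (hord : ∀ a, 0 < a → s ^ a ∣ Fintype.card F ^ 2 - 1 → ¬ s ^ (a + 1) ∣ Fintype.card F ^ 2 - 1 →
      ¬ s ^ (a * l + N₂ + 1) ∣ Nat.card (D.group F)) {t : ℕ} [ht : Fact t.Prime] (ht2 : t ≠ 2) (hst : s ≠ t)
    (hWL : ∀ H : Subgroup M.Group, (∀ q, q.Prime → q ∣ Nat.card H → q = s ∨ q = t) →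
      s ^ N₂ ∣ Nat.card H → ¬ t ∣ Nat.card H) : PairN t s ↥(D.group F) := by
  obtain ⟨r, e, hr, hrF, hrk, he, hqF, hk⟩ := exists_closure (F := F) rfl
  have hsr : s ≠ r := by
    rintro rfl
    exact hsF (CharP.cast_eq_zero F s)
  have hGf : Finite ↥(D.group F) := inferInstance
  have hset := setup_untw' hp X hk he hqF
  obtain ⟨a, ha, ha1, ha2⟩ := exists_exp hs.out (Fintype.one_lt_card (α := F)) hε2 hq
  refine five_full (hp := hp) hk X hset.1 he hset.2.1 hset.2.2.1 hset.2.2.2.1 hset.2.2.2.2.1 hset.2.2.2.2.2 w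
    (ε := ε) (fun x => hε x) hs5 hsr ht2 hst (c₀ := 0) ha ?_ ?_ hN₂ (by rw [Nat.sub_zero]; exact hord a ha ha1 ha2) hWL
  · have h1 := dvd_of_sq hs.out (by omega) (Fintype.card_pos) hε2 hq ha1
    rw [hqF] at h1
    push_cast at h1 ⊢
    exact h1
  · rw [card_KA X.hB (Nat.Coprime.pow_right a ((Nat.Prime.coprime_iff_not_dvd hs.out).2 hd).symm)]
    exact one_dvd _

end Untw

/-! ### `²E₆(q)`, `3 ∣ q + 1` -/

/-- `²E₆(q)`, `3 ∣ q + 1` -/
theorem three_twE6 {F : Type u} [Field F] [Fintype F] {q : ℕ} (h3 : (3 : F) ≠ 0) (hq : IsPrimePow q)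
    (hF : Fintype.card F = q ^ 2) (hq3 : (3 : ℤ) ∣ (q : ℤ) - (-1 : ℤ))
    (hord : ∀ a, 0 < a → 3 ^ a ∣ q ^ 2 - 1 → ¬ 3 ^ (a + 1) ∣ q ^ 2 - 1 →
      ¬ 3 ^ (a * 6 + 4) ∣ Nat.card (twistedE6 F q)) {t : ℕ} [ht : Fact t.Prime] (ht2 : t ≠ 2) (ht3 : t ≠ 3)
    (hW : 3 ^ 4 ∣ Nat.card CoxeterMatrix.E₆.Group)
    (hWL : ∀ H : Subgroup CoxeterMatrix.E₆.Group, (∀ q, q.Prime → q ∣ Nat.card H → q = 3 ∨ q = t) →
      3 ^ 4 ∣ Nat.card H → ¬ t ∣ Nat.card H) : PairN t 3 ↥(twistedE6 F q) := by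
  obtain ⟨r, n, hr, hrF, hrk, hn0, hn, hk⟩ := Cfsg.Agent.H795.Tw.exists_closure_q two_ne_zero hq hF
  have hpr : 3 ≠ r := by
    rintro rfl
    exact h3 (by exact_mod_cast CharP.cast_eq_zero F 3)
  have hG : Finite ↥(twistedE6 F q) := inferInstance
  have : Fact (Nat.Prime 5) := ⟨by norm_num⟩
  have hset := Cfsg.Agent.H795.Tw.setup_six (algebraMap F (AlgebraicClosure F)) r hk hn0 hn hF (p := 5) (by norm_num)
  obtain ⟨a, ha, ha1, ha2⟩ := exists_exp Nat.prime_three hq.two_le (Or.inr rfl) hq3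
  have hcm := comm_mem_of_split (TT_comm Cfsg.Agent.H720.TwFr.hp6) hset.norm hset.fix (fun y hy => by
      have hφ : ∀ t : AlgebraicClosure F, iterateFrobenius (AlgebraicClosure F) r n t = t ^ q :=
        fun t => by rw [iterateFrobenius_def, hn]
      obtain ⟨x, hx, t, ht, e⟩ := EmbInst.twE6_split (f := algebraMap F (AlgebraicClosure F)) hq hF hφ y.2
        (by rw [← Cfsg.Agent.H720.TwFr.coe_sig6, hy])
      exact ⟨⟨x, hx⟩, ⟨t, diagonal_le_group Cfsg.Agent.H720.TwFr.hp6.inList _ ht⟩, ht, Subtype.ext e⟩)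
  refine three_full (hp := Cfsg.Agent.H720.TwFr.hp6) hk datE6 hset.inj hn0 hset.frob hset.fr hset.fix hset.fin hcm
    Cfsg.Agent.H795.NotAbData.E6.c6 (ε := -1) ?_ hpr ht2 ht3 (c₀ := 1) (N₂ := 4) ha ?_ ?_ hW ?_ hWL
  · exact eps_of_mat (hp := Cfsg.Agent.H720.TwFr.hp6) (w := Cfsg.Agent.H795.NotAbData.E6.c6)
      (U := Cfsg.Agent.H795.NotAbData.E6.c6M) perm6_mat
      (Cfsg.Agent.H795.NotAbData.E6.is_c6 Cfsg.Agent.H720.TwFr.hp6) (by decide +kernel)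
  · have h1 := dvd_of_sq Nat.prime_three (by norm_num) (le_trans (by norm_num) hq.two_le) (Or.inr rfl) hq3 ha1
    rw [hn] at h1
    push_cast at h1 ⊢
    exact h1
  · rw [pow_one]
    exact card_KA_E6 a
  · have h1 := hord a ha ha1 ha2
    have h2 : a * 6 - 1 + 4 + 1 = a * 6 + 4 := by omega
    rw [h2]
    exact h1

end Cfsg.Agent.H572.ExcE
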