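import Cfsg.Agent.H171.Odd.ConwayB
import Cfsg.Agent.CoFiveFour.Ker
import Cfsg.Agent.CoFiveC.Row
import Cfsg.Agent.Lib.ElemAbGL

/-!
# The 3-part of the centralizer of an element of order five of `Co₁` with 16 fixed points on `Λ / 2Λ` (helper572)
-/

set_option autoImplicit false

namespace Cfsg.Agent.H572.CoFiveThree

open Cfsg Subgroup Module
open Cfsg.Agent.MonsterU.Lam2 Cfsg.Agent.SporadicStructure.Co0Base
open Cfsg.Agent.SigZeroCo2.Rank (fix mem_fix)
open Cfsg.Agent.SigZeroCo2.Lin (rep Sp)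
open Cfsg.Agent.CoFive.FixRank (FX mem_FX)
open Cfsg.Spor (Co1)

/-- the action of the centralizer on the fixed points -/
noncomputable def actE (a : Co0) (c : ↥(centralizer ({a} : Set Co0))) : FX a ≃+ FX a where
  toFun x := ⟨(c : Co0) • (x : L2), by
    rw [mem_FX, ← mul_smul, ← mem_centralizer_singleton_iff.1 c.2, mul_smul, mem_FX.1 x.2]⟩
  invFun x := ⟨(c : Co0)⁻¹ • (x : L2), by
    have h1 : a * (c : Co0)⁻¹ = (c : Co0)⁻¹ * a := by
      have h2 := mem_centralizer_singleton_iff.1 c.2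
      rw [eq_inv_mul_iff_mul_eq, ← mul_assoc, h2, mul_inv_cancel_right]
    rw [mem_FX, ← mul_smul, h1, mul_smul, mem_FX.1 x.2]⟩
  left_inv x := Subtype.ext (inv_smul_smul _ _)
  right_inv x := Subtype.ext (smul_inv_smul _ _)
  map_add' x y := Subtype.ext (smul_add _ _ _)

/-- the homomorphism to the automorphism group of the fixed points -/
noncomputable def act (a : Co0) : ↥(centralizer ({a} : Set Co0)) →* MulAut (Multiplicative (FX a)) where
  toFun c := AddEquiv.toMultiplicative (actE a c)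
  map_one' := by
    refine MulEquiv.ext fun x => ?_
    exact congrArg Multiplicative.ofAdd (Subtype.ext (one_smul Co0 ((x.toAdd : FX a) : L2)) : actE a 1 x.toAdd = x.toAdd)
  map_mul' c d := by
    refine MulEquiv.ext fun x => ?_
    exact congrArg Multiplicative.ofAdd (Subtype.ext (mul_smul (c : Co0) (d : Co0) ((x.toAdd : FX a) : L2)) :
      actE a (c * d) x.toAdd = actE a c (actE a d x.toAdd))

theorem act_apply {a : Co0} (c : ↥(centralizer ({a} : Set Co0))) (x : FX a) :
    (((act a c (Multiplicative.ofAdd x)).toAdd : FX a) : L2) = (c : Co0) • (x : L2) := rfl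

theorem fix_of_ker {a : Co0} {c : ↥(centralizer ({a} : Set Co0))} (h : act a c = 1) {x : L2} (hx : a • x = x) :
    (c : Co0) • x = x := by
  have h1 := act_apply c ⟨x, hx⟩
  rw [h] at h1
  exact h1.symm

/-- **The 3-part of the centralizer in `Co0`.** -/
theorem cent_co0 {a : Co0} (ha : orderOf a = 5) (hfr : LThreeMB.fr (QuotientGroup.mk a : Co1) = 2 ^ 4) :
    ¬ 3 ^ 3 ∣ Nat.card ↥(centralizer ({a} : Set Co0)) := by
  intro hd
  have hfin := CoFive.Class.finite_co0
  have h3 : Fact (Nat.Prime 3) := ⟨Nat.prime_three⟩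
  have ha5 : a ^ 5 = 1 := by rw [← ha, pow_orderOf_eq_one]
  have h4 := CoFiveC.Main.finrank_of_fr ha hfr
  have hreg := CoFiveC.Main.reg_of_fr ha hfr
  have hcF : Nat.card (Multiplicative (FX a)) = 2 ^ 4 := hfr
  have h2 : Fact (Nat.Prime 2) := ⟨Nat.prime_two⟩
  obtain ⟨e⟩ := Lib.ElemAbGL.mulAut_equiv_GL (V := Multiplicative (FX a)) 2 4 (by
    intro x
    rw [pow_two]
    exact congrArg Multiplicative.ofAdd (Subtype.ext (add_self (x.toAdd : L2)) : x.toAdd + x.toAdd = 0)) hcF
  have hcA : Nat.card (MulAut (Multiplicative (FX a))) = 20160 := by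
    rw [Nat.card_congr e.toEquiv, Matrix.card_GL_field]
    simp [Fin.prod_univ_succ]
  have h5 : Nat.card ↥(act a).range ∣ 20160 := hcA ▸ card_subgroup_dvd_card _
  have h6 : Nat.card ↥(act a).ker * Nat.card ↥(act a).range = Nat.card ↥(centralizer ({a} : Set Co0)) := by
    rw [← Subgroup.index_ker, Subgroup.card_mul_index]
  have h7 : 3 ∣ Nat.card ↥(act a).ker := by
    by_contra hcon
    have h8 : (3 ^ 3).Coprime (Nat.card ↥(act a).ker) :=
      Nat.Coprime.pow_left 3 ((Nat.Prime.coprime_iff_not_dvd Nat.prime_three).2 hcon)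
    rw [← h6] at hd
    have h9 := (h8.dvd_of_dvd_mul_left hd).trans h5
    revert h9
    norm_num
  obtain ⟨y, hy⟩ := exists_prime_orderOf_dvd_card' 3 h7
  set z : Co0 := ((y : ↥(centralizer ({a} : Set Co0))) : Co0) with hz
  have hoz : orderOf z = 3 := by rw [hz, Subgroup.orderOf_coe, Subgroup.orderOf_coe, hy]
  have hz3 : z ^ 3 = 1 := by rw [← hoz, pow_orderOf_eq_one]
  have hcomm : Commute a z := (mem_centralizer_singleton_iff.1 (y : ↥(centralizer ({a} : Set Co0))).2).symm
  have hker : act a (y : ↥(centralizer ({a} : Set Co0))) = 1 := y.2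
  -- the product of order fifteen
  have h15 : (a * z) ^ 15 = 1 := by
    rw [hcomm.mul_pow, show (15 : ℕ) = 5 * 3 from rfl, pow_mul a, ha5, one_pow, one_mul, mul_comm 5 3, pow_mul, hz3,
      one_pow]
  have hfa : CoFive.FixRank.FX a ≤ CoFive.FixRank.FX (a * z) := by
    intro x hx
    rw [mem_FX] at hx ⊢
    rw [mul_smul, fix_of_ker hker hx, hx]
  have hge : 2 ^ 4 ≤ LThreeMB.fr (QuotientGroup.mk (a * z) : Co1) := by
    rw [← hfr, CoFive.FixRank.fr_mk, CoFive.FixRank.fr_mk]
    have : Finite (FX (a * z)) := by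
      have : Finite L2 := inferInstance
      infer_instance
    exact Nat.card_le_card_of_injective (AddSubgroup.inclusion hfa) (AddSubgroup.inclusion_injective hfa)
  rw [CoFive.FixRank.fr_eq (n := 15) (by decide) h15] at hge
  have h10 : 4 ≤ finrank ℚ (fix (rep (a * z))) := (Nat.pow_le_pow_iff_right (by norm_num)).1 hge
  have hsub : ∀ k : ℕ, fix (rep (a * z)) ≤ fix (rep ((a * z) ^ k)) := by
    intro k v hv
    rw [mem_fix] at hv ⊢
    rw [map_pow]
    induction k with
    | zero => rfl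
    | succ k ih => rw [pow_succ, Module.End.mul_apply, hv, ih]
  have h6a : (a * z) ^ 6 = a := by
    rw [hcomm.mul_pow, show (6 : ℕ) = 5 + 1 from rfl, pow_succ, ha5, one_mul, show (5 + 1 : ℕ) = 3 * 2 from rfl,
      pow_mul, hz3, one_pow, mul_one]
  have h10z : (a * z) ^ 10 = z := by
    rw [hcomm.mul_pow, show (10 : ℕ) = 5 * 2 from rfl, pow_mul, ha5, one_pow, one_mul,
      show (5 * 2 : ℕ) = 3 * 3 + 1 from rfl, pow_succ, pow_mul, hz3, one_pow, one_mul]
  have hA : fix (rep (a * z)) ≤ fix (rep a) := by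
    have := hsub 6
    rwa [h6a] at this
  have hZ : fix (rep (a * z)) ≤ fix (rep z) := by
    have := hsub 10
    rwa [h10z] at this
  have hEq : fix (rep (a * z)) = fix (rep a) := Submodule.eq_of_le_of_finrank_le hA (by rw [h4]; exact h10)
  exact CoFiveFour.Ker.not_three PreUniqCo.Facts.facts ha5 h4 hreg hcomm hoz (hEq ▸ hZ)

theorem cent_five_four {s : Co1} (hs : orderOf s = 5) (h : LThreeMB.fr s = 2 ^ 4) :
    ¬ 3 ^ 3 ∣ Nat.card ↥(centralizer ({s} : Set Co1)) := by
  intro hd
  obtain ⟨a, rfl, ha, hao⟩ := H55.CoOneBd.exists_lift (by norm_num) (by norm_num) hs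
  exact cent_co0 hao h (hd.trans (H55.CoOneBd.card_cent_dvd (by decide) ha))

end Cfsg.Agent.H572.CoFiveThree
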