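import Cfsg.Agent.H795.NotAbT
import Cfsg.Agent.H630.ExcCent

/-!
# The normaliser of a torus in a finite subgroup of `D.group k` (S4350, exceptional groups)

`κ : G →* D.group k` injective, `G` finite.
* `TG κ` : the elements in the torus, `NG κ` : the elements representing an element of the Weyl group;
* `im κ H` : the image of `H` in the Weyl group, `card_im` : `|H| = |H ∩ TG| |im H|` for `H ≤ NG`;
* `exists_rp_of_norm` : an element normalising a subgroup `A` of the torus on which no root is trivial is in `NG`;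
* `exists_sylow` : the Sylow subgroup in `NG`.
-/

set_option autoImplicit false
set_option linter.unusedSectionVars false

namespace Cfsg.Agent.H572.ExcA

open CoxeterSystem Cfsg Cfsg.Lie Cfsg.Lie.ChevalleyDatum
open Cfsg.Agent.ChevalleyStructure Cfsg.Agent.ChevalleyStructure.Elts Cfsg.Agent.ChevalleyStructure.CoxeterGeom
  Cfsg.Agent.ChevalleyStructure.CoxeterGeomTypes Cfsg.Agent.ChevalleyStructure.NPerm
open Cfsg.Agent.Tits.Roots Cfsg.Agent.Tits.Core Cfsg.Agent.Nodes Cfsg.Agent.Nodes.Reps Cfsg.Agent.Nodes.BNOf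
  Cfsg.Agent.Nodes.RGDChev Cfsg.Agent.Nodes.Bruhat
open Cfsg.Agent.KFacts.RgdField Cfsg.Agent.KFacts.RgdChevCoord Cfsg.Agent.BpExc.TorCent Cfsg.Agent.BpExc.TorChev
open Cfsg.Agent.GpExc.Field Cfsg.Agent.BpExc.Tow Cfsg.Agent.BpExc.TowChev Cfsg.Agent.BpExc.Fr
  Cfsg.Agent.BpExc.LangFr Cfsg.Agent.H129.TorusChar Cfsg.Agent.H129.TorusMain Cfsg.Agent.H123.ExcZ
open Cfsg.Agent.BpExc Cfsg.Agent.H795.LangT Cfsg.Agent.H795.Core Cfsg.Agent.H795.NotAbT
open Subgroup

universe u v

variable {D : ChevalleyDatum} {l : ℕ} {M : CoxeterMatrix (Fin l)} (hp : IsType D l M)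
  {k : Type u} [Field k] [IsAlgClosed k] (hk : LocFin k) (r : ℕ) [Fact r.Prime] [CharP k r]

/-- `c` represents `w` -/
def RP (w : M.Group) (c : ↥(D.group k)) : Prop := Rp M.toCoxeterSystem (tow hp M.toCoxeterSystem hk r).nsys w c

variable {hp hk r}

theorem RP.mul {v w : M.Group} {a b : ↥(D.group k)} (ha : RP hp hk r v a) (hb : RP hp hk r w b) :
    RP hp hk r (v * w) (a * b) := Rp.mul ha hb

theorem RP.inv {v : M.Group} {a : ↥(D.group k)} (ha : RP hp hk r v a) : RP hp hk r v⁻¹ a⁻¹ := Rp.inv ha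

variable (hp hk r) in
theorem RP.one : RP hp hk r 1 (1 : ↥(D.group k)) := rp_one

theorem RP.unique {v w : M.Group} {a : ↥(D.group k)} (hv : RP hp hk r v a) (hw : RP hp hk r w a) : v = w := by
  have hWf := finite_W hp (M.toCoxeterSystem)
  have h4 : ∀ (T' : Subgroup ↥(D.group k)) (_ : T' = TT D k) (h : NSys M T' (nc hp k)) (h' : NSys M (TT D k) (nc hp k))
      (v : M.Group), Rp M.toCoxeterSystem h v a → Rp M.toCoxeterSystem h' v a := by
    rintro _ rfl h h' v h5
    exact h5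
  have hN : NSys M (TT D k) (nc hp k) := by
    have := (tow hp M.toCoxeterSystem hk r (k := k)).nsys
    rwa [TL_eq hp hk] at this
  exact Cfsg.Agent.H630.Exc.rp_unique hp M.toCoxeterSystem hk r hN (h4 _ (TL_eq hp hk) _ hN v hv)
    (h4 _ (TL_eq hp hk) _ hN w hw)

theorem RP.mem_of_one {a : ↥(D.group k)} (ha : RP hp hk r 1 a) : a ∈ TT D k := by
  have h2 := Rp.mem_of_one ha
  rwa [TL_eq hp hk] at h2

variable (hp hk r) in
theorem RP.of_mem {a : ↥(D.group k)} (ha : a ∈ TT D k) : RP hp hk r 1 a := by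
  have h1 := (RP.one hp hk r (k := k))
  have h2 : RP hp hk r 1 (1 * a) := Rp.mul_mem_right h1 (by rw [TL_eq hp hk]; exact ha)
  rwa [one_mul] at h2

theorem RP.conj_mem {w : M.Group} {c : ↥(D.group k)} (hc : RP hp hk r w c) {t : ↥(D.group k)} (ht : t ∈ TT D k) :
    c * t * c⁻¹ ∈ TT D k := rp_conj_mem hp hk hc ht

theorem RP.char {w : M.Group} {c : ↥(D.group k)} (hc : RP hp hk r w c) {t : ↥(D.group k)} (ht : t ∈ TT D k)
    (x : Fin l → ℤ) : cX hp (c * t * c⁻¹) (rep M.toCoxeterSystem hp.isCartan w x) = cX hp t x :=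
  cX_rp' hp hk hc ht x

theorem RP.char_inv {w : M.Group} {c : ↥(D.group k)} (hc : RP hp hk r w c) {t : ↥(D.group k)} (ht : t ∈ TT D k)
    (x : Fin l → ℤ) : cX hp (c * t * c⁻¹) x = cX hp t (rep M.toCoxeterSystem hp.isCartan w⁻¹ x) := by
  rw [← hc.char ht, ← rep_mul_apply, mul_inv_cancel, map_one, Module.End.one_apply]

section

variable {G : Type v} [Group G] (κ : G →* ↥(D.group k))

/-- the elements in the torus -/
def TG : Subgroup G := (TT D k).comap κ

theorem mem_TG {x : G} : x ∈ TG κ ↔ κ x ∈ TT D k := Iff.rfl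

variable (hp hk r) in
/-- the elements representing elements of the Weyl group -/
def NG : Subgroup G where
  carrier := {x | ∃ w, RP hp hk r w (κ x)}
  one_mem' := ⟨1, by rw [map_one]; exact RP.one hp hk r⟩
  mul_mem' := by
    rintro a b ⟨v, hv⟩ ⟨w, hw⟩
    exact ⟨v * w, by rw [map_mul]; exact hv.mul hw⟩
  inv_mem' := by
    rintro a ⟨v, hv⟩
    exact ⟨v⁻¹, by rw [map_inv]; exact hv.inv⟩

theorem mem_NG {x : G} : x ∈ NG hp hk r κ ↔ ∃ w, RP hp hk r w (κ x) := Iff.rfl

variable (hp hk r) in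
theorem TG_le : TG κ ≤ NG hp hk r κ := fun _ hx => ⟨1, RP.of_mem hp hk r hx⟩

variable (hp hk r) in
/-- the image in the Weyl group -/
def im (H : Subgroup G) : Subgroup M.Group where
  carrier := {w | ∃ x ∈ H, RP hp hk r w (κ x)}
  one_mem' := ⟨1, one_mem _, by rw [map_one]; exact RP.one hp hk r⟩
  mul_mem' := by
    rintro v w ⟨a, ha, hv⟩ ⟨b, hb, hw⟩
    exact ⟨a * b, mul_mem ha hb, by rw [map_mul]; exact hv.mul hw⟩
  inv_mem' := by
    rintro v ⟨a, ha, hv⟩
    exact ⟨a⁻¹, inv_mem ha, by rw [map_inv]; exact hv.inv⟩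

theorem mem_im {H : Subgroup G} {w : M.Group} : w ∈ im hp hk r κ H ↔ ∃ x ∈ H, RP hp hk r w (κ x) := Iff.rfl

theorem im_mono {H K : Subgroup G} (h : H ≤ K) : im hp hk r κ H ≤ im hp hk r κ K := by
  rintro w ⟨x, hx, hw⟩
  exact ⟨x, h hx, hw⟩

theorem TG_comm (hinj : Function.Injective κ) (hp : IsType D l M) {a b : G} (ha : a ∈ TG κ) (hb : b ∈ TG κ) :
    a * b = b * a := by
  apply hinj
  rw [map_mul, map_mul]
  exact TT_comm hp _ ha _ hb

theorem conj_mem_TG {n a : G} (hn : n ∈ NG hp hk r κ) (ha : a ∈ TG κ) : n * a * n⁻¹ ∈ TG κ := by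
  obtain ⟨w, hw⟩ := hn
  rw [mem_TG, map_mul, map_mul, map_inv]
  exact hw.conj_mem ha

/-- the order of the image -/
theorem card_im {H : Subgroup G} (hH : H ≤ NG hp hk r κ) :
    Nat.card H = Nat.card (H ⊓ TG κ : Subgroup G) * Nat.card (im hp hk r κ H) := by
  classical
  have h1 : ∀ x : H, ∃ w, RP hp hk r w (κ x) := fun x => hH x.2
  choose w hw using h1
  let φ : H →* im hp hk r κ H :=
    { toFun := fun x => (⟨w x, x, x.2, hw x⟩ : im hp hk r κ H)
      map_one' := Subtype.ext (by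
        have h1 := hw 1
        have h2 : κ ((1 : H) : G) = 1 := map_one κ
        rw [h2] at h1
        exact h1.unique (RP.one hp hk r))
      map_mul' := fun x y => Subtype.ext (by
        have h1 := hw (x * y)
        have h2 : κ ((x * y : H) : G) = κ x * κ y := map_mul κ _ _
        rw [h2] at h1
        exact h1.unique ((hw x).mul (hw y))) }
  have hsurj : Function.Surjective φ := by
    rintro ⟨v, x, hx, hv⟩
    exact ⟨⟨x, hx⟩, Subtype.ext ((hw ⟨x, hx⟩).unique hv)⟩
  have hker : φ.ker = (TG κ).subgroupOf H := by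
    ext x
    rw [MonoidHom.mem_ker, Subgroup.mem_subgroupOf]
    constructor
    · intro h
      have h2 : w x = 1 := congrArg Subtype.val h
      have h3 := hw x
      rw [h2] at h3
      exact h3.mem_of_one
    · intro h
      exact Subtype.ext ((hw x).unique (RP.of_mem hp hk r h))
  have h2 := φ.ker.card_mul_index
  rw [Subgroup.index_ker, MonoidHom.range_eq_top.2 hsurj, Subgroup.card_top, hker] at h2
  rw [← h2]
  congr 1
  rw [← Subgroup.inf_subgroupOf_left (TG κ) H]
  exact Nat.card_congr (Subgroup.subgroupOfEquivOfLe (inf_le_left : H ⊓ TG κ ≤ H)).toEquiv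

/-- **Elements normalising a subgroup of the torus**, no root trivial on it. -/
theorem mem_NG_of_norm [Finite G] {A : Subgroup G} (hA : A ≤ TG κ)
    (hreg : ∀ a, IsRoot M.toCoxeterSystem hp.isCartan a → ∃ x ∈ A, cX hp (κ x) a ≠ 1) {y : G}
    (hy : y ∈ normalizer (A : Set G)) : y ∈ NG hp hk r κ := by
  classical
  have hWf := finite_W hp (M.toCoxeterSystem)
  have H := tow hp M.toCoxeterSystem hk r
  have C : Coords M.toCoxeterSystem hp.isCartan (TL (Tj hp (k := k))) (nc hp k) (XL (Xj hp)) (xc hp) (ch hp) := by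
    rw [TL_eq hp hk, XL_eq hp hk]
    exact coordsL hp M.toCoxeterSystem hk r
  have hGt := GG_eq_top hp M.toCoxeterSystem hk
  have hTL := TL_eq (k := k) hp hk
  have hyA : ∀ x : A, y * x * y⁻¹ ∈ A := fun x => (mem_normalizer_iff.1 hy x).1 x.2
  have hκA : ∀ x : A, κ x ∈ TT D k := fun x => hA x.2
  have hκt : ∀ x : A, κ (y * x * y⁻¹) ∈ TT D k := fun x => hA (hyA x)
  obtain ⟨m, hm, w, n, hn, hns, e⟩ := Cfsg.Agent.H123.ExcZ.exists_form' H C (ι := A) (s := fun x : A => κ x)
    (t := fun x : A => κ (y * x * y⁻¹))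
    (fun a => by rw [hTL]; exact hκA a) (fun a => by rw [hTL]; exact hκt a) (c := κ y)
    (by rw [hGt]; exact Subgroup.mem_top _) (fun a => by rw [map_mul, map_mul, map_inv]; group)
  have hSZ : SZ M.toCoxeterSystem hp.isCartan (ch hp) (fun x : A => κ (y * x * y⁻¹)) = ∅ := by
    rw [Set.eq_empty_iff_forall_notMem]
    intro a ha
    obtain ⟨x, hx, hxa⟩ := hreg a ha.1
    have hx' : y⁻¹ * x * y ∈ A := by
      have h1 := (mem_normalizer_iff.1 (inv_mem hy) x).1 hx
      rwa [inv_inv] at h1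
    apply hxa
    have h2 := ha.2 ⟨_, hx'⟩
    have h3 : y * (y⁻¹ * x * y) * y⁻¹ = x := by group
    rw [cX_root hp M.toCoxeterSystem (hA hx) ha.1]
    have h4 : ch hp a (κ (y * (y⁻¹ * x * y) * y⁻¹)) = 1 := h2
    rw [h3] at h4
    exact h4
  have hm1 : m = 1 := by
    have h1 : m ∈ (⊥ : Subgroup ↥(D.group k)) := by
      have h2 : MZ M.toCoxeterSystem hp.isCartan (XL (Xj hp (k := k))) (ch hp)
          (fun x : A => κ (y * x * y⁻¹)) ≤ ⊥ := by
        refine RGD.Sup_le fun a ha => ?_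
        rw [hSZ] at ha
        exact absurd ha (Set.notMem_empty a)
      exact h2 hm
    exact (Subgroup.mem_bot).1 h1
  refine ⟨w, ?_⟩
  rw [e, hm1, one_mul]
  exact hn

/-- **The Sylow subgroup.** -/
theorem exists_sylow [Finite G] {s : ℕ} [hs : Fact s.Prime] {N₁ N₂ : ℕ} (h1 : s ^ N₁ ∣ Nat.card (TG κ))
    (h2 : s ^ N₂ ∣ Nat.card (im hp hk r κ (NG hp hk r κ))) (h3 : ¬ s ^ (N₁ + N₂ + 1) ∣ Nat.card G) :
    ∃ S : Sylow s G, (S : Subgroup G) ≤ NG hp hk r κ ∧ s ^ N₂ ∣ Nat.card (im hp hk r κ (S : Subgroup G)) := by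
  have hWf : Finite M.Group := finite_W hp (M.toCoxeterSystem)
  have hc := card_im (hp := hp) (hk := hk) (r := r) κ (le_refl (NG hp hk r κ))
  rw [inf_eq_right.2 (TG_le hp hk r κ)] at hc
  obtain ⟨P⟩ := (inferInstance : Nonempty (Sylow s ↥(NG hp hk r κ)))
  set Q : Subgroup G := (P : Subgroup ↥(NG hp hk r κ)).map (NG hp hk r κ).subtype with hQ
  have hQN : Q ≤ NG hp hk r κ := Subgroup.map_subtype_le _
  have hQp : IsPGroup s Q := P.isPGroup'.map _
  have hQc : Nat.card Q = s ^ (Nat.card (NG hp hk r κ)).factorization s := by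
    rw [hQ, Subgroup.card_map_of_injective (Subgroup.subtype_injective _), P.card_eq_multiplicity]
  have hG0 : Nat.card G ≠ 0 := Nat.card_pos.ne'
  have hN0 : Nat.card (NG hp hk r κ) ≠ 0 := Nat.card_pos.ne'
  have hle : (Nat.card G).factorization s ≤ N₁ + N₂ := by
    by_contra hcon
    apply h3
    exact (hs.out.pow_dvd_iff_le_factorization hG0).2 (by omega)
  have hge : N₁ + N₂ ≤ (Nat.card (NG hp hk r κ)).factorization s := by
    rw [← hs.out.pow_dvd_iff_le_factorization hN0, hc, pow_add]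
    exact mul_dvd_mul h1 h2
  have hNG : (Nat.card (NG hp hk r κ)).factorization s ≤ (Nat.card G).factorization s :=
    (Nat.factorization_le_iff_dvd hN0 hG0).2 (Subgroup.card_subgroup_dvd_card _) s
  have hQG : Nat.card Q = s ^ (Nat.card G).factorization s := by
    rw [hQc]
    congr 1
    omega
  let S : Sylow s G := Sylow.ofCard Q hQG
  refine ⟨S, hQN, ?_⟩
  have hSQ : (S : Subgroup G) = Q := rfl
  rw [hSQ]
  have hcQ := card_im (hp := hp) (hk := hk) (r := r) κ hQN
  have h4 : (Nat.card (TG κ)).factorization s ≤ N₁ := by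
    have e1 : (Nat.card (NG hp hk r κ)).factorization s = (Nat.card (TG κ)).factorization s +
        (Nat.card (im hp hk r κ (NG hp hk r κ))).factorization s := by
      rw [hc, Nat.factorization_mul Nat.card_pos.ne' Nat.card_pos.ne']
      rfl
    have e2 : N₂ ≤ (Nat.card (im hp hk r κ (NG hp hk r κ))).factorization s :=
      (hs.out.pow_dvd_iff_le_factorization Nat.card_pos.ne').1 h2
    omega
  have h5 : (Nat.card (Q ⊓ TG κ : Subgroup G)).factorization s ≤ N₁ :=
    ((Nat.factorization_le_iff_dvd Nat.card_pos.ne' Nat.card_pos.ne').2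
      (Subgroup.card_dvd_of_le (inf_le_right : Q ⊓ TG κ ≤ TG κ)) s).trans h4
  have h6 : (Nat.card Q).factorization s = (Nat.card (Q ⊓ TG κ : Subgroup G)).factorization s +
      (Nat.card (im hp hk r κ Q)).factorization s := by
    rw [hcQ, Nat.factorization_mul Nat.card_pos.ne' Nat.card_pos.ne']
    rfl
  have h7 : (Nat.card Q).factorization s = (Nat.card (NG hp hk r κ)).factorization s := by
    rw [hQc, hs.out.factorization_pow, Finsupp.single_eq_same]
  rw [hs.out.pow_dvd_iff_le_factorization Nat.card_pos.ne']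
  omega

end

end Cfsg.Agent.H572.ExcA
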