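import Cfsg.Agent.H572.HallCore
import Cfsg.Agent.H553.OddHall

/-!
# From the core lemma to `PairN` (S4350)

`pairN_of_core` : a Sylow `s`-subgroup `S` of `G`, an abelian subgroup `A` normal in `S` with `QCond A S`, and `t` not dividing
`|X : C_X(A)|` for the `{s, t}`-subgroups `X` with `S ≤ X ≤ N(A)`: then `PairN t s G`.
-/

set_option autoImplicit false

namespace Cfsg.Agent.H572.HallPair

open Subgroup Cfsg Cfsg.Agent.H572.HallCore Cfsg.Agent.H553.OddHall Cfsg.Agent.H988.CPi
open scoped Pointwise commutatorElement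

variable {G : Type*} [Group G] [Finite G]

omit [Finite G] in
theorem qcond_subgroupOf {A S X : Subgroup G} (hAS : A ≤ S) (hSX : S ≤ X) (hQ : QCond A S) :
    QCond (A.subgroupOf X) (S.subgroupOf X) := by
  intro L hAL hLS hq hc hne
  have hAX : A ≤ X := hAS.trans hSX
  set L' : Subgroup G := L.map X.subtype with hL'
  have h1 : A ≤ L' := by
    intro a ha
    exact ⟨⟨a, hAX ha⟩, hAL (mem_subgroupOf.2 ha), rfl⟩
  have h2 : L' ≤ S := by
    rintro _ ⟨u, hu, rfl⟩
    exact mem_subgroupOf.1 (hLS hu)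
  have h3 : ∀ u ∈ L', ∀ a ∈ A, ⁅⁅a, u⁆, u⁆ = 1 := by
    rintro _ ⟨u, hu, rfl⟩ a ha
    have := congrArg X.subtype (hq u hu ⟨a, hAX ha⟩ (mem_subgroupOf.2 ha))
    simpa using this
  have h4 : ∀ u ∈ L', ∀ v ∈ L', ⁅u, v⁆ ∈ A := by
    rintro _ ⟨u, hu, rfl⟩ _ ⟨v, hv, rfl⟩
    exact mem_subgroupOf.1 (hc u hu v hv)
  have h5 : L' ≠ A := by
    intro h
    apply hne
    ext u
    rw [mem_subgroupOf, ← h]
    constructor
    · intro hu; exact ⟨u, hu, rfl⟩
    · rintro ⟨v, hv, e⟩
      have : v = u := Subtype.ext e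
      rwa [← this]
  have h6 := hQ L' h1 h2 h3 h4 h5
  have c1 : Nat.card L' = Nat.card L :=
    (Nat.card_congr (L.equivMapOfInjective X.subtype X.subtype_injective).toEquiv).symm
  have c2 : Nat.card (A.subgroupOf X) = Nat.card A := Nat.card_congr (subgroupOfEquivOfLe hAX).toEquiv
  have c3 : Nat.card (A.subgroupOf X ⊓ centralizer (L : Set X) : Subgroup X) =
      Nat.card (A ⊓ centralizer (L' : Set G) : Subgroup G) := by
    have h7 : (A.subgroupOf X ⊓ centralizer (L : Set X)) = (A ⊓ centralizer (L' : Set G)).subgroupOf X := by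
      ext u
      rw [mem_subgroupOf, mem_inf, mem_inf, mem_subgroupOf, mem_centralizer_iff, mem_centralizer_iff]
      refine and_congr_right fun _ => ?_
      constructor
      · rintro h _ ⟨v, hv, rfl⟩
        exact congrArg Subtype.val (h v hv)
      · intro h v hv
        exact Subtype.ext (h v ⟨v, hv, rfl⟩)
    rw [h7]
    exact Nat.card_congr (subgroupOfEquivOfLe (inf_le_left.trans hAX)).toEquiv
  rw [c2, c3, ← c1]
  exact h6

/-- the core lemma for an `{s, t}`-subgroup containing the Sylow `s`-subgroup `S` -/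
theorem ns_of_core {s t : ℕ} [hs : Fact s.Prime] [ht : Fact t.Prime] (hs2 : s ≠ 2) (ht2 : t ≠ 2) (hst : s ≠ t)
    (S : Sylow s G) {A : Subgroup G} (hAS : A ≤ S) (hA : ∀ a ∈ A, ∀ b ∈ A, a * b = b * a)
    (hSA : (S : Subgroup G) ≤ normalizer (A : Set G)) (hQ : QCond A (S : Subgroup G))
    (hW : ∀ X : Subgroup G, (∀ r, r.Prime → r ∣ Nat.card X → r = s ∨ r = t) → (S : Subgroup G) ≤ X →
      X ≤ normalizer (A : Set G) → ¬ t ∣ (centralizer (A : Set G)).relIndex X)
    {X : Subgroup G} (hX : ∀ r, r.Prime → r ∣ Nat.card X → r = s ∨ r = t) (hSX : (S : Subgroup G) ≤ X) : NS t X := by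
  have hodd : Odd (Nat.card X) := by
    rw [← Nat.not_even_iff_odd, even_iff_two_dvd]
    intro h
    rcases hX 2 Nat.prime_two h with h | h
    · exact hs2 h.symm
    · exact ht2 h.symm
  have hsol : Group.IsSolvable X := Cfsg.Agent.S0205.result hodd
  have hAX : A ≤ X := hAS.trans hSX
  obtain ⟨T, hT⟩ := core (X := X) hodd hst hX (S.subtype hSX) (A := A.subgroupOf X) (by
      rw [Sylow.coe_subtype]
      exact subgroupOf_mono X hAS) (by
      rintro ⟨a, _⟩ ha ⟨b, _⟩ hb
      exact Subtype.ext (hA a (mem_subgroupOf.1 ha) b (mem_subgroupOf.1 hb))) (by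
      rw [Sylow.coe_subtype]
      intro u hu
      rw [mem_subgroupOf] at hu
      have h1 := mem_normalizer_iff.1 (hSA hu)
      rw [mem_normalizer_iff]
      intro y
      rw [mem_subgroupOf, mem_subgroupOf]
      exact h1 y) (by
      rw [Sylow.coe_subtype]
      exact qcond_subgroupOf hAS hSX hQ) (by
      have h1 := hW (normalizer (A : Set G) ⊓ X) (fun r hr hd => hX r hr (hd.trans (card_dvd_of_le inf_le_right)))
        (le_inf hSA hSX) inf_le_left
      have e1 : centralizer ((A.subgroupOf X : Subgroup X) : Set X) = (centralizer (A : Set G)).subgroupOf X := by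
        ext u
        rw [mem_subgroupOf, mem_centralizer_iff, mem_centralizer_iff]
        constructor
        · intro h a ha
          exact congrArg Subtype.val (h ⟨a, hAX ha⟩ (mem_subgroupOf.2 ha))
        · rintro h ⟨a, _⟩ ha
          exact Subtype.ext (h a (mem_subgroupOf.1 ha))
      have e2 : normalizer ((A.subgroupOf X : Subgroup X) : Set X) = (normalizer (A : Set G) ⊓ X).subgroupOf X := by
        ext u
        rw [mem_subgroupOf, mem_inf, mem_normalizer_iff, mem_normalizer_iff]
        constructor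
        · intro h
          refine ⟨fun y => ?_, u.2⟩
          constructor
          · intro hy
            have := (h ⟨y, hAX hy⟩).1 (mem_subgroupOf.2 hy)
            exact mem_subgroupOf.1 this
          · intro hy
            have hyX : y ∈ X := by
              have h2 := mul_mem (mul_mem (inv_mem u.2) (hAX hy)) u.2
              have h3 : (u : G)⁻¹ * (u * y * (u : G)⁻¹) * u = y := by group
              rwa [h3] at h2
            have := (h ⟨y, hyX⟩).2 (mem_subgroupOf.2 hy)
            exact mem_subgroupOf.1 this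
        · rintro ⟨h, -⟩ y
          rw [mem_subgroupOf, mem_subgroupOf]
          exact h y
      rw [e1, e2, relIndex_subgroupOf inf_le_right]
      exact h1)
  exact ns_of_sylow T hT

theorem isPiHall_smul {π : Set ℕ} {X : Subgroup G} (hX : IsPiHall π X) (g : G) : IsPiHall π (MulAut.conj g • X) := by
  rw [isPiHall_iff] at *
  have h1 : Nat.card (MulAut.conj g • X : Subgroup G) = Nat.card X :=
    (Nat.card_congr (Subgroup.equivSMul (MulAut.conj g) X).toEquiv).symm
  have h2 : (MulAut.conj g • X : Subgroup G).index = X.index := by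
    have e1 := (MulAut.conj g • X : Subgroup G).card_mul_index
    have e2 := X.card_mul_index
    rw [h1] at e1
    exact Nat.eq_of_mul_eq_mul_left Nat.card_pos (e1.trans e2.symm)
  rw [h1, h2]
  exact hX

/-- **`PairN` from the core lemma.** -/
theorem pairN_of_core {s t : ℕ} [hs : Fact s.Prime] [ht : Fact t.Prime] (hs2 : s ≠ 2) (ht2 : t ≠ 2) (hst : s ≠ t)
    (S : Sylow s G) {A : Subgroup G} (hAS : A ≤ S) (hA : ∀ a ∈ A, ∀ b ∈ A, a * b = b * a)
    (hSA : (S : Subgroup G) ≤ normalizer (A : Set G)) (hQ : QCond A (S : Subgroup G))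
    (hW : ∀ X : Subgroup G, (∀ r, r.Prime → r ∣ Nat.card X → r = s ∨ r = t) → (S : Subgroup G) ≤ X →
      X ≤ normalizer (A : Set G) → ¬ t ∣ (centralizer (A : Set G)).relIndex X) : PairN t s G := by
  intro X hX
  -- a Sylow `s`-subgroup of `G` in `X`
  have hX' := isPiHall_iff.1 hX
  have hidx : ¬ s ∣ X.index := fun h => hX'.2 s hs.out (Or.inl rfl) h
  obtain ⟨Q⟩ : Nonempty (Sylow s X) := inferInstance
  have hQi : ¬ s ∣ ((Q : Subgroup X).map X.subtype).index := by
    have h1 : ((Q : Subgroup X).map X.subtype).index = (Q : Subgroup X).index * X.index := by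
      have := index_map (Q : Subgroup X) X.subtype
      rwa [X.ker_subtype, sup_bot_eq, range_subtype] at this
    rw [h1]
    exact hs.out.not_dvd_mul Q.not_dvd_index hidx
  set Q' : Sylow s G := (Q.2.map X.subtype).toSylow hQi with hQ'
  have hQ'X : (Q' : Subgroup G) ≤ X := by
    rintro _ ⟨u, -, rfl⟩
    exact u.2
  obtain ⟨g, hg⟩ := MulAction.exists_smul_eq G Q' S
  have hSX : (S : Subgroup G) ≤ MulAut.conj g • X := by
    rw [← hg]
    exact Subgroup.pointwise_smul_le_pointwise_smul_iff.2 hQ'X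
  have hX2 := isPiHall_smul hX g
  have hpr : ∀ r, r.Prime → r ∣ Nat.card (MulAut.conj g • X : Subgroup G) → r = s ∨ r = t := fun r hr hd =>
    (isPiHall_iff.1 hX2).1 r hr hd
  have h1 := ns_of_core hs2 ht2 hst S hAS hA hSA hQ hW hpr hSX
  exact h1.of_equiv (Subgroup.equivSMul (MulAut.conj g) X).symm

end Cfsg.Agent.H572.HallPair
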