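import Cfsg.Agent.H572.LatQ
import Cfsg.Agent.PRankPar.Inst

/-!
# The normalised invariant form of a Cartan matrix (S4350)

`PRankPar.Weyl.form A d x y = ∑ i, d i * x i * ⟨y, α_i^∨⟩`, `d i * A i j` symmetric, `d i > 0`, connected diagram.

* `isForm` : it is a positive semidefinite form in the sense of `LatQ`; `rad_iff` : it is definite;
* `Fam` : a generating connected family of vectors of norm `2`; `eq_one_five`, `quad_three`, `not_nine'`, ...
-/

set_option autoImplicit false
set_option linter.unusedSectionVars false

namespace Cfsg.Agent.H572.LatForm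

open CoxeterSystem Cfsg.Agent.ChevalleyStructure.CoxeterGeom Cfsg.Agent.Tits.Roots Cfsg.Agent.Tits.Core
open Cfsg.Agent.H572.LatQ

variable {I W : Type*} [Fintype I] [DecidableEq I] [Group W] {M : CoxeterMatrix I} (cs : CoxeterSystem M W)
  {A : I → I → ℤ} (h : IsCartan M A)

/-- the normalised form -/
abbrev nf (A : I → I → ℤ) (d : I → ℤ) : (I → ℤ) → (I → ℤ) → ℤ := PRankPar.Weyl.form A d

/-- a symmetrizer of a connected Cartan matrix -/
structure SymD (A : I → I → ℤ) (d : I → ℤ) (i0 : I) (dep : I → ℕ) : Prop where
  sym : ∀ i j, d i * A i j = d j * A j i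
  pos : ∀ i, 0 < d i
  conn : ∀ i, i = i0 ∨ ∃ j, dep j < dep i ∧ A i j ≠ 0

variable {d : I → ℤ} {i0 : I} {dep : I → ℕ}

theorem pairing_sr' (i j : I) : pairing A i (sr j) = A i j := by
  unfold pairing
  rw [Finset.sum_eq_single j]
  · rw [sr_self, mul_one]
  · intro b _ hb
    rw [sr_ne hb, mul_zero]
  · intro hj
    exact absurd (Finset.mem_univ j) hj

theorem form_diag [Fintype W] (S : SymD A d i0 dep) (i : I) :
    form cs h (sr i) (sr i) * d i0 = form cs h (sr i0) (sr i0) * d i := by
  have key : ∀ (n : ℕ) (i : I), dep i = n →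
      form cs h (sr i) (sr i) * d i0 = form cs h (sr i0) (sr i0) * d i := by
    intro n
    induction n using Nat.strong_induction_on with
    | _ n ih =>
      intro i hi
      rcases S.conn i with rfl | ⟨j, h1, h2⟩
      · rfl
      · have h3 := ih _ (by rw [← hi]; exact h1) j rfl
        have h4 := two_form cs h i (sr j)
        have h5 := two_form cs h j (sr i)
        rw [pairing_sr'] at h4 h5
        rw [form_comm, h4] at h5
        apply mul_left_cancel₀ h2
        calc A i j * (form cs h (sr i) (sr i) * d i0) = (A i j * form cs h (sr i) (sr i)) * d i0 := by ring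
          _ = (A j i * form cs h (sr j) (sr j)) * d i0 := by rw [h5]
          _ = A j i * (form cs h (sr j) (sr j) * d i0) := by ring
          _ = A j i * (form cs h (sr i0) (sr i0) * d j) := by rw [h3]
          _ = form cs h (sr i0) (sr i0) * (d j * A j i) := by ring
          _ = form cs h (sr i0) (sr i0) * (d i * A i j) := by rw [S.sym]
          _ = _ := by ring
  exact key _ i rfl

theorem two_form_eq [Fintype W] (S : SymD A d i0 dep) (x y : I → ℤ) :
    2 * d i0 * form cs h x y = form cs h (sr i0) (sr i0) * nf A d x y := by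
  rw [form_comm cs h x y, form_eq_sum, Finset.mul_sum]
  unfold nf PRankPar.Weyl.form
  rw [Finset.mul_sum]
  refine Finset.sum_congr rfl fun i _ => ?_
  have h1 := two_form cs h i y
  have h2 := form_diag cs h S i
  calc 2 * d i0 * (x i * form cs h y (sr i)) = x i * d i0 * (2 * form cs h y (sr i)) := by ring
    _ = x i * d i0 * (pairing A i y * form cs h (sr i) (sr i)) := by rw [h1]
    _ = x i * pairing A i y * (form cs h (sr i) (sr i) * d i0) := by ring
    _ = x i * pairing A i y * (form cs h (sr i0) (sr i0) * d i) := by rw [h2]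
    _ = _ := by ring

include cs h in
theorem nf_nonneg [Finite W] (S : SymD A d i0 dep) (x : I → ℤ) : 0 ≤ nf A d x x := by
  have := Fintype.ofFinite W
  have h1 := two_form_eq cs h S x x
  have h2 := form_nonneg cs h x
  have h3 := form_pos cs h (sr_ne_zero i0)
  have h4 := S.pos i0
  by_contra hneg
  have h5 : form cs h (sr i0) (sr i0) * nf A d x x < 0 := mul_neg_of_pos_of_neg h3 (not_le.1 hneg)
  have h6 : 0 ≤ 2 * d i0 * form cs h x x := by positivity
  omega

include cs h in
/-- the form is definite -/
theorem eq_zero_of_nf [Finite W] (S : SymD A d i0 dep) {x : I → ℤ} (hx : nf A d x x = 0) : x = 0 := by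
  have := Fintype.ofFinite W
  by_contra hne
  have h1 := two_form_eq cs h S x x
  have h2 := form_pos cs h hne
  have h4 := S.pos i0
  rw [hx, mul_zero] at h1
  have h6 : 0 < 2 * d i0 * form cs h x x := by positivity
  omega

include cs h in
theorem isForm [Finite W] (S : SymD A d i0 dep) : IsForm (nf A d) where
  add x y z := PRankPar.Weyl.form_add_left d x y z
  comm x y := PRankPar.Weyl.form_comm S.sym x y
  nonneg x := nf_nonneg cs h S x

include cs h in
theorem eq_zero_of_rad [Finite W] (S : SymD A d i0 dep) {x : I → ℤ} (hx : Rad (nf A d) x) : x = 0 :=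
  eq_zero_of_nf cs h S (hx x)

/-- the action of `W` as additive maps -/
def act (w : W) : (I → ℤ) →+ (I → ℤ) := (rep cs h w).toAddMonoidHom

theorem act_apply (w : W) (x : I → ℤ) : act cs h w x = rep cs h w x := rfl

theorem iso_act (S : SymD A d i0 dep) (w : W) : Iso (nf A d) (act cs h w) :=
  ⟨fun x y => PRankPar.Weyl.form_rep h S.sym w x y⟩

theorem iter_act (w : W) (n : ℕ) (x : I → ℤ) : (act cs h w)^[n] x = rep cs h (w ^ n) x := by
  induction n with
  | zero => rw [pow_zero, map_one]; rfl
  | succ n ih => rw [Function.iterate_succ_apply', ih, pow_succ', rep_mul_apply]; rfl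

end Cfsg.Agent.H572.LatForm
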