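import Cfsg.Agent.H572.ExcA
import Cfsg.Agent.H572.LatForm
import Cfsg.Agent.H572.HallPair

/-!
# `QCond` for the Sylow subgroups in the normaliser of a torus (S4350, exceptional groups)

* `Tst` : test elements of `A`;
* `qcond_five`, `qcond_three` : `QCond A S`.
-/

set_option autoImplicit false
set_option linter.unusedSectionVars false

namespace Cfsg.Agent.H572.ExcB

open CoxeterSystem Cfsg Cfsg.Lie Cfsg.Lie.ChevalleyDatum
open Cfsg.Agent.ChevalleyStructure Cfsg.Agent.ChevalleyStructure.Elts Cfsg.Agent.ChevalleyStructure.CoxeterGeom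
  Cfsg.Agent.ChevalleyStructure.CoxeterGeomTypes Cfsg.Agent.ChevalleyStructure.NPerm
open Cfsg.Agent.Tits.Roots Cfsg.Agent.Tits.Core Cfsg.Agent.Nodes Cfsg.Agent.Nodes.Reps Cfsg.Agent.Nodes.BNOf
  Cfsg.Agent.Nodes.RGDChev Cfsg.Agent.Nodes.Bruhat
open Cfsg.Agent.KFacts.RgdField Cfsg.Agent.KFacts.RgdChevCoord Cfsg.Agent.BpExc.TorCent Cfsg.Agent.BpExc.TorChev
open Cfsg.Agent.GpExc.Field Cfsg.Agent.BpExc.Tow Cfsg.Agent.BpExc.TowChev Cfsg.Agent.BpExc.Fr
  Cfsg.Agent.BpExc.LangFr Cfsg.Agent.H129.TorusChar Cfsg.Agent.H129.TorusMain Cfsg.Agent.H123.ExcZ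
open Cfsg.Agent.BpExc Cfsg.Agent.H795.LangT Cfsg.Agent.H795.Core Cfsg.Agent.H795.NotAbT
open Cfsg.Agent.H572.ExcA Cfsg.Agent.H572.LatQ Cfsg.Agent.H572.LatForm Cfsg.Agent.H572.HallCore
open Subgroup
open scoped commutatorElement

universe u v

variable {D : ChevalleyDatum} {l : ℕ} {M : CoxeterMatrix (Fin l)} {hp : IsType D l M}
  {k : Type u} [Field k] [IsAlgClosed k] {hk : LocFin k} {r : ℕ} [Fact r.Prime] [CharP k r]
  {G : Type v} [Group G] {κ : G →* ↥(D.group k)}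

/-- the action of the Weyl group -/
abbrev ac (hp : IsType D l M) (w : M.Group) : (Fin l → ℤ) →+ (Fin l → ℤ) := act M.toCoxeterSystem hp.isCartan w

theorem ac_mul (v w : M.Group) (x : Fin l → ℤ) : ac hp (v * w) x = ac hp v (ac hp w x) := by
  show rep M.toCoxeterSystem hp.isCartan (v * w) x = _
  rw [rep_mul_apply]
  rfl

theorem ac_one (x : Fin l → ℤ) : ac hp 1 x = x := by
  show rep M.toCoxeterSystem hp.isCartan 1 x = x
  rw [map_one, Module.End.one_apply]

theorem ac_ext {v w : M.Group} (h : ∀ x, ac hp v x = ac hp w x) : v = w :=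
  rep_injective M.toCoxeterSystem hp.isCartan (LinearMap.ext h)

theorem zpow_eq_pow_val {s : ℕ} [NeZero s] {ζ : k} (hζ : IsPrimitiveRoot ζ s) (z : ℤ) :
    ζ ^ ((z : ZMod s).val) = ζ ^ z := by
  have h0 : ζ ≠ 0 := hζ.ne_zero (NeZero.ne s)
  rw [← zpow_natCast]
  have h1 : (((z : ZMod s).val : ℤ)) = z % s := ZMod.val_intCast z
  rw [h1]
  conv_rhs => rw [← Int.emod_add_mul_ediv z s]
  rw [zpow_add₀ h0, zpow_mul, zpow_natCast, hζ.pow_eq_one, one_zpow, mul_one]

/-- the characters of commutators -/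
theorem char_comm {a u : G} (ha : a ∈ TG κ) {w : M.Group} (hu : RP hp hk r w (κ u)) (x : Fin l → ℤ) :
    cX hp (κ ⁅a, u⁆) x = cX hp (κ a) (x - ac hp w⁻¹ x) := by
  have hmc := isMC_cX hp (t := κ a) ha
  have h1 : κ ⁅a, u⁆ * (κ u * κ a * (κ u)⁻¹) = κ a := by
    rw [commutatorElement_def, map_mul, map_mul, map_mul, map_inv, map_inv]
    group
  have h2 : κ u * κ a * (κ u)⁻¹ ∈ TT D k := hu.conj_mem ha
  have h3 : κ ⁅a, u⁆ ∈ TT D k := by
    have h4 : κ ⁅a, u⁆ = κ a * (κ u * κ a * (κ u)⁻¹)⁻¹ := by rw [eq_mul_inv_iff_mul_eq]; exact h1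
    rw [h4]
    exact mul_mem ha (inv_mem h2)
  have h4 := cX_mul hp h3 h2 x
  rw [h1, hu.char_inv ha] at h4
  have h5 : cX hp (κ a) x = cX hp (κ a) (x - ac hp w⁻¹ x) * cX hp (κ a) (rep M.toCoxeterSystem hp.isCartan w⁻¹ x) := by
    rw [← hmc.add]
    congr 1
    rw [act_apply, sub_add_cancel]
  rw [h5] at h4
  exact (mul_right_cancel₀ (hmc.ne_zero _) h4).symm

theorem comm_mem_TG {a u : G} (ha : a ∈ TG κ) (hu : u ∈ NG hp hk r κ) : ⁅a, u⁆ ∈ TG κ := by
  have h1 := conj_mem_TG κ hu (inv_mem ha)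
  have h2 : ⁅a, u⁆ = a * (u * a⁻¹ * u⁻¹) := by rw [commutatorElement_def]; group
  rw [h2]
  exact mul_mem ha h1

variable (κ) in
/-- test elements: for every `y` an element of `A` with the characters `ζ ^ B x y` -/
def Tst (hp : IsType D l M) (A : Subgroup G) (ζ : k) (B : (Fin l → ℤ) → (Fin l → ℤ) → ℤ) : Prop :=
  ∀ y, ∃ a ∈ A, ∀ x, cX hp (κ a) x = ζ ^ (B x y)

variable {A S : Subgroup G} {B : (Fin l → ℤ) → (Fin l → ℤ) → ℤ} {s : ℕ} {ζ : k}

/-- quadratic action in terms of the form -/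
theorem quad_of_comm (hAT : A ≤ TG κ) (hζ : IsPrimitiveRoot ζ s) (ht : Tst κ hp A ζ B) {u : G}
    {w : M.Group} (hu : RP hp hk r w (κ u)) (hq : ∀ a ∈ A, ⁅⁅a, u⁆, u⁆ = 1) : Quad B s (ac hp w⁻¹) := by
  intro x y
  obtain ⟨a, ha, hax⟩ := ht y
  have haT := hAT ha
  have h1 : cX hp (κ ⁅⁅a, u⁆, u⁆) x = 1 := by rw [hq a ha, map_one, cX_one]
  rw [char_comm (comm_mem_TG haT ⟨w, hu⟩) hu, char_comm haT hu, hax, hζ.zpow_eq_one_iff_dvd] at h1
  have h2 : x - ac hp w⁻¹ x - ac hp w⁻¹ (x - ac hp w⁻¹ x) =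
      ac hp w⁻¹ (ac hp w⁻¹ x) - ac hp w⁻¹ x - (ac hp w⁻¹ x - x) := by
    rw [map_sub]
    abel
  rw [h2] at h1
  exact h1

/-- the data on the form -/
structure FData (hp : IsType D l M) (B : (Fin l → ℤ) → (Fin l → ℤ) → ℤ) (V : Subgroup M.Group) {ι : Type*}
    (e : ι → (Fin l → ℤ)) : Prop where
  form : IsForm B
  iso : ∀ w ∈ V, Iso B (ac hp w)
  norm : ∀ i, B (e i) (e i) = 2
  fix : ∀ w ∈ V, (∀ i, Rad B (ac hp w (e i) - e i)) → w = 1

variable {V : Subgroup M.Group} {ι : Type*} {e : ι → (Fin l → ℤ)}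

/-- **`s ≥ 5`.** -/
theorem qcond_five (hs : s.Prime) (hs5 : 5 ≤ s) (hAT : A ≤ TG κ) (hSN : S ≤ NG hp hk r κ) (hSA : S ⊓ TG κ ≤ A)
    (hV : im hp hk r κ S ≤ V) (hF : FData hp B V e) (hζ : IsPrimitiveRoot ζ s) (ht : Tst κ hp A ζ B) : QCond A S := by
  intro L hAL hLS hq _ hne
  exfalso
  apply hne
  apply le_antisymm _ hAL
  intro u hu
  obtain ⟨w, hw⟩ := hSN (hLS hu)
  have hwV : w⁻¹ ∈ V := inv_mem (hV ⟨u, hLS hu, hw⟩)
  have h1 := quad_of_comm hAT hζ ht hw (hq u hu)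
  have h2 : w⁻¹ = 1 := hF.fix _ hwV fun i => five hF.form (hF.iso _ hwV) hs hs5 h1 (hF.norm i)
  rw [inv_eq_one] at h2
  rw [h2] at hw
  exact hSA ⟨hLS hu, hw.mem_of_one⟩

theorem ac_iter (w : M.Group) (n : ℕ) (x : Fin l → ℤ) : (ac hp w)^[n] x = ac hp (w ^ n) x := iter_act _ _ w n x

/-- the elements of order a power of `3` -/
theorem alt_three (hF : FData hp B V e) (i0 : ι) (dep : ι → ℕ)
    (hdep : ∀ i, i = i0 ∨ ∃ j, dep j < dep i ∧ B (e i) (e j) ≠ 0)
    (hspan : AddSubgroup.closure (Set.range e) = ⊤) {w : M.Group} (hwV : w ∈ V) (hq : Quad B 3 (ac hp w))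
    {j : ℕ} (hw : w ^ 3 ^ j = 1) : w = 1 ∨ ∀ x, Rad B (ac hp w (ac hp w x) + ac hp w x + x) := by
  have hiso := hF.iso _ hwV
  rcases dich_all hF.form hiso hq (n := 3 ^ j) (Odd.pow (by decide)) (fun x => by
    rw [ac_iter, hw, ac_one, sub_self]; exact Rad.zero hF.form) hF.norm i0 dep hdep with h1 | h1
  · exact Or.inl (hF.fix _ hwV h1)
  · right
    intro x
    have hx : x ∈ AddSubgroup.closure (Set.range e) := by rw [hspan]; exact AddSubgroup.mem_top _
    induction hx using AddSubgroup.closure_induction with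
    | mem y hy =>
      obtain ⟨i, rfl⟩ := hy
      exact h1 i
    | zero =>
      rw [map_zero, map_zero, add_zero, add_zero]
      exact Rad.zero hF.form
    | add y z _ _ hy hz =>
      have e1 : ac hp w (ac hp w (y + z)) + ac hp w (y + z) + (y + z) =
        (ac hp w (ac hp w y) + ac hp w y + y) + (ac hp w (ac hp w z) + ac hp w z + z) := by
        rw [map_add, map_add]; abel
      rw [e1]
      exact hy.add hF.form hz
    | neg y _ hy =>
      have e1 : ac hp w (ac hp w (-y)) + ac hp w (-y) + (-y) = -(ac hp w (ac hp w y) + ac hp w y + y) := by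
        rw [map_neg, map_neg]; abel
      rw [e1]
      exact hy.neg hF.form

theorem rp_pow' {w : M.Group} {g : ↥(D.group k)} (h : RP hp hk r w g) (n : ℕ) : RP hp hk r (w ^ n) (g ^ n) := by
  induction n with
  | zero => rw [pow_zero, pow_zero]; exact RP.one hp hk r
  | succ n ih => rw [pow_succ, pow_succ]; exact ih.mul h

variable [Finite G]

/-- `|[A, u]| > 3` -/
theorem card_range_gt (hAT : A ≤ TG κ) (hinj : Function.Injective κ) (hAp : IsPGroup 3 A)
    (hF : FData hp B V e) (hζ : IsPrimitiveRoot ζ 3) (ht : Tst κ hp A ζ B)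
    {a b c : Fin l → ℤ} (ha : B a a = 2) (hb : B b b = 2) (hc : B c c = 2) (hab : B a b = -1) (hbc : B b c = -1)
    (hac : B a c = 0) {u : G} (huA : u ∈ normalizer (A : Set G)) {w : M.Group} (hw : RP hp hk r w (κ u))
    (hwV : w⁻¹ ∈ V) (hr : ∀ x, Rad B (ac hp w⁻¹ (ac hp w⁻¹ x) + ac hp w⁻¹ x + x)) :
    3 * Nat.card (A ⊓ centralizer {u} : Subgroup G) < Nat.card A := by
  classical
  have hcomm : ∀ x ∈ A, ∀ y ∈ A, x * y = y * x := fun x hx y hy => TG_comm κ hinj hp (hAT hx) (hAT hy)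
  -- the homomorphism
  let ψ : A →* G :=
    { toFun := fun x => ⁅(x : G), u⁆
      map_one' := by
        show ⁅(1 : G), u⁆ = 1
        rw [commutatorElement_one_left]
      map_mul' := fun x y => by
        show ⁅(x : G) * y, u⁆ = ⁅(x : G), u⁆ * ⁅(y : G), u⁆
        have h1 : ⁅(x : G) * y, u⁆ = x * ⁅(y : G), u⁆ * (x : G)⁻¹ * ⁅(x : G), u⁆ := by
          rw [commutatorElement_def, commutatorElement_def, commutatorElement_def]; group
        rw [h1, hcomm x x.2 _ (comm_mem_left huA y.2), mul_inv_cancel_right]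
        exact hcomm _ (comm_mem_left huA y.2) _ (comm_mem_left huA x.2) }
  have hψA : ∀ x : A, ψ x ∈ A := fun x => comm_mem_left huA x.2
  have hrangeA : ψ.range ≤ A := by
    rintro _ ⟨x, rfl⟩
    exact hψA x
  have hker : Nat.card ψ.ker = Nat.card (A ⊓ centralizer {u} : Subgroup G) := by
    have h1 : ψ.ker = (A ⊓ centralizer {u}).subgroupOf A := by
      ext x
      rw [MonoidHom.mem_ker, Subgroup.mem_subgroupOf, Subgroup.mem_inf, Subgroup.mem_centralizer_singleton_iff]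
      have h2 : ψ x = 1 ↔ (x : G) * u = u * x := commutatorElement_eq_one_iff_mul_comm
      rw [h2]
      exact ⟨fun h => ⟨x.2, h⟩, fun h => h.2⟩
    rw [h1]
    exact Nat.card_congr (Subgroup.subgroupOfEquivOfLe inf_le_left).toEquiv
  have hcard : Nat.card ψ.ker * Nat.card ψ.range = Nat.card A := by
    have h2 := ψ.ker.card_mul_index
    rwa [Subgroup.index_ker] at h2
  rw [← hker, ← hcard]
  have hkpos : 0 < Nat.card ψ.ker := Nat.card_pos
  have hrgt : 3 < Nat.card ψ.range := by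
    by_contra hcon
    have hle : Nat.card ψ.range ≤ 3 := not_lt.1 hcon
    -- the range is cyclic of order `1` or `3`
    have hrp : IsPGroup 3 ψ.range := hAp.to_le hrangeA
    obtain ⟨n, hn⟩ := (IsPGroup.iff_card (p := 3)).1 hrp
    have hn1 : n ≤ 1 := by
      by_contra hn1
      have : 3 ^ 2 ≤ 3 ^ n := Nat.pow_le_pow_right (by norm_num) (by omega)
      omega
    have hcyc : ∃ c ∈ ψ.range, c ^ 3 = 1 ∧ ∀ x ∈ ψ.range, ∃ i : ℕ, x = c ^ i := by
      have h3 : Nat.card ψ.range ∣ 3 := by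
        rw [hn]
        interval_cases n <;> norm_num
      rcases (Nat.dvd_prime Nat.prime_three).1 h3 with h4 | h4
      · refine ⟨1, one_mem _, one_pow _, fun x hx => ⟨0, ?_⟩⟩
        have h5 : ψ.range = ⊥ := Subgroup.card_eq_one.1 h4
        rw [h5, Subgroup.mem_bot] at hx
        rw [hx, pow_zero]
      · have : Fact (Nat.Prime 3) := ⟨Nat.prime_three⟩
        have hcy : IsCyclic ψ.range := isCyclic_of_prime_card h4
        obtain ⟨g, hg⟩ := hcy.exists_generator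
        refine ⟨g, g.2, ?_, fun x hx => ?_⟩
        · have h5 : g ^ 3 = 1 := by rw [← h4]; exact pow_card_eq_one'
          exact congrArg Subtype.val h5
        · have h6 := hg ⟨x, hx⟩
          have h7 : (⟨x, hx⟩ : ψ.range) ∈ Submonoid.powers g := mem_powers_iff_mem_zpowers.2 h6
          obtain ⟨i, hi⟩ := h7
          exact ⟨i, (congrArg Subtype.val hi).symm⟩
    obtain ⟨c, hcr, hc3, hcg⟩ := hcyc
    have hcA : c ∈ A := hrangeA hcr
    have hcT : κ c ∈ TT D k := hAT hcA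
    -- characters of `c`
    have h6 : ∀ x, ∃ g : ℕ, cX hp (κ c) x = ζ ^ g := by
      intro x
      have h7 : cX hp (κ c) x ^ 3 = 1 := by
        rw [← cX_pow hp hcT, ← map_pow, hc3, map_one, cX_one]
      obtain ⟨i, -, hi⟩ := hζ.eq_pow_of_pow_eq_one h7
      exact ⟨i, hi.symm⟩
    choose g hg using h6
    have h8 : ∀ y, ∃ i : ℕ, ∀ x, (3 : ℤ) ∣ B (x - ac hp w⁻¹ x) y - g x * i := by
      intro y
      obtain ⟨t, htA, htx⟩ := ht y
      obtain ⟨i, hi⟩ := hcg (ψ ⟨t, htA⟩) ⟨_, rfl⟩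
      refine ⟨i, fun x => ?_⟩
      have h9 : cX hp (κ ⁅t, u⁆) x = ζ ^ (g x * i) := by
        have h10 : ⁅t, u⁆ = c ^ i := hi
        rw [h10, map_pow, cX_pow hp hcT, hg, ← pow_mul]
      rw [char_comm (hAT htA) hw, htx, ← zpow_natCast] at h9
      have h11 : ζ ^ (B (x - ac hp w⁻¹ x) y - ((g x * i : ℕ) : ℤ)) = 1 := by
        rw [zpow_sub₀ (hζ.ne_zero (by norm_num)), h9, div_self (zpow_ne_zero _ (hζ.ne_zero (by norm_num)))]
      have h12 := (hζ.zpow_eq_one_iff_dvd _).1 h11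
      push_cast at h12
      exact_mod_cast h12
    choose f hf using h8
    obtain ⟨x, y, hxy⟩ := exists_beta hF.form (hF.iso _ hwV) hr ha hb hc hab hbc hac
    apply hxy
    refine not_rank_one hF.form (hF.iso _ hwV) hr (fun x => -(g x : ℤ)) (fun y => (f y : ℤ)) (fun x y => ?_) x y
    have h13 := hf y x
    rw [hF.form.sub] at h13 ⊢
    have h14 : B (ac hp w⁻¹ x) y - B x y - -(g x : ℤ) * (f y : ℤ) = -(B x y - B (ac hp w⁻¹ x) y - g x * f y) := by
      ring
    rw [h14]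
    exact (dvd_neg).2 h13
  nlinarith

omit [Finite G] in
/-- two commuting elements of the second kind -/
theorem pair_eq (hF : FData hp B V e) (i0 : ι) {v w : M.Group} (hv : v ∈ V) (hw : w ∈ V) (hvw : v * w = w * v)
    (hrv : ∀ x, Rad B (ac hp v (ac hp v x) + ac hp v x + x)) (hrw : ∀ x, Rad B (ac hp w (ac hp w x) + ac hp w x + x))
    (h1 : v * w = 1 ∨ ∀ x, Rad B (ac hp (v * w) (ac hp (v * w) x) + ac hp (v * w) x + x))
    (h2 : v * w ^ 2 = 1 ∨ ∀ x, Rad B (ac hp (v * w ^ 2) (ac hp (v * w ^ 2) x) + ac hp (v * w ^ 2) x + x)) :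
    v * w = 1 ∨ v * w ^ 2 = 1 := by
  rcases h1 with h1 | h1
  · exact Or.inl h1
  rcases h2 with h2 | h2
  · exact Or.inr h2
  exfalso
  refine pair_case hF.form (hF.iso _ hv) (hF.iso _ hw) (fun x => ?_) hrv hrw (fun x => ?_) (fun x => ?_)
    (hF.norm i0)
  · rw [← ac_mul, ← ac_mul, hvw]
  · have h3 := h1 x
    rwa [ac_mul, ac_mul] at h3
  · have h3 := h2 x
    rwa [pow_two, ac_mul, ac_mul, ac_mul, ac_mul] at h3

/-- **`s = 3`.** -/
theorem qcond_three (hAT : A ≤ TG κ) (hinj : Function.Injective κ) (hS3 : IsPGroup 3 S) (hAS : A ≤ S)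
    (hSA' : S ≤ normalizer (A : Set G)) (hSN : S ≤ NG hp hk r κ)
    (hSA : S ⊓ TG κ ≤ A) (hV : im hp hk r κ S ≤ V) (hF : FData hp B V e) (i0 : ι) (dep : ι → ℕ)
    (hdep : ∀ i, i = i0 ∨ ∃ j, dep j < dep i ∧ B (e i) (e j) ≠ 0)
    (hspan : AddSubgroup.closure (Set.range e) = ⊤) (hζ : IsPrimitiveRoot ζ 3) (ht : Tst κ hp A ζ B)
    {a b c : Fin l → ℤ} (ha : B a a = 2) (hb : B b b = 2) (hc : B c c = 2) (hab : B a b = -1) (hbc : B b c = -1)
    (hac : B a c = 0) : QCond A S := by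
  classical
  intro L hAL hLS hq hcom hne
  obtain ⟨u, huL, huA⟩ : ∃ u ∈ L, u ∉ A := by
    by_contra hcon
    push Not at hcon
    exact hne (le_antisymm hcon hAL)
  -- the elements of the Weyl group
  have hex : ∀ x ∈ L, ∃ w : M.Group, RP hp hk r w⁻¹ (κ x) ∧ w ∈ V := by
    intro x hx
    obtain ⟨w, hw⟩ := hSN (hLS hx)
    exact ⟨w⁻¹, by rw [inv_inv]; exact hw, inv_mem (hV ⟨x, hLS hx, hw⟩)⟩
  have hkind : ∀ x ∈ L, ∀ w : M.Group, RP hp hk r w⁻¹ (κ x) → w ∈ V →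
      w = 1 ∨ ∀ y, Rad B (ac hp w (ac hp w y) + ac hp w y + y) := by
    intro x hx w hw hwV
    obtain ⟨j, hj⟩ := hS3 ⟨x, hLS hx⟩
    have hj' : x ^ 3 ^ j = 1 := congrArg Subtype.val hj
    have h1 := rp_pow' hw (3 ^ j)
    rw [← map_pow, hj', map_one] at h1
    have h2 : w⁻¹ ^ 3 ^ j = 1 := h1.unique (RP.one hp hk r)
    rw [inv_pow, inv_eq_one] at h2
    have h3 := quad_of_comm hAT hζ ht hw (hq x hx)
    rw [inv_inv] at h3
    exact alt_three hF i0 dep hdep hspan hwV h3 h2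
  have hone : ∀ x ∈ L, ∀ w : M.Group, RP hp hk r w⁻¹ (κ x) → w = 1 → x ∈ A := by
    intro x hx w hw h1
    rw [h1, inv_one] at hw
    exact hSA ⟨hLS hx, hw.mem_of_one⟩
  obtain ⟨w, hw, hwV⟩ := hex u huL
  have hw1 : w ≠ 1 := fun h => huA (hone u huL w hw h)
  have hrw := (hkind u huL w hw hwV).resolve_left hw1
  -- `L = A ∪ u A ∪ u² A`
  have hcase : ∀ x ∈ L, x ∈ A ∨ u⁻¹ * x ∈ A ∨ u⁻¹ ^ 2 * x ∈ A := by
    intro x hx
    by_cases hxA : x ∈ A
    · exact Or.inl hxA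
    right
    obtain ⟨v, hv, hvV⟩ := hex x hx
    have hrv := (hkind x hx v hv hvV).resolve_left (fun h => hxA (hone x hx v hv h))
    -- they commute
    have hvw : v * w = w * v := by
      have h1 : RP hp hk r ⁅v⁻¹, w⁻¹⁆ (κ ⁅x, u⁆) := by
        rw [commutatorElement_def, commutatorElement_def, map_mul, map_mul, map_mul, map_inv, map_inv]
        exact ((hv.mul hw).mul hv.inv).mul hw.inv
      have h2 : ⁅v⁻¹, w⁻¹⁆ = 1 := h1.unique (RP.of_mem hp hk r (hAT (hcom x hx u huL)))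
      rw [commutatorElement_eq_one_iff_mul_comm, ← mul_inv_rev, ← mul_inv_rev, inv_inj] at h2
      exact h2.symm
    -- `(v w)⁻¹` is the element of `u x`
    have hux : RP hp hk r (v * w)⁻¹ (κ (u * x)) := by
      rw [mul_inv_rev, map_mul]
      exact hw.mul hv
    have huux : RP hp hk r (v * w ^ 2)⁻¹ (κ (u ^ 2 * x)) := by
      rw [mul_inv_rev, map_mul, map_pow, ← inv_pow]
      exact (rp_pow' hw 2).mul hv
    have hw3 : w ^ 3 = 1 := by
      apply hF.fix _ (pow_mem hwV 3)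
      intro i
      have h1 := hrw (e i)
      have h2 : Rad B (ac hp w (ac hp w (ac hp w (e i)) + ac hp w (e i) + e i)) := h1.map hF.form (hF.iso _ hwV)
      have h3 := h2.sub hF.form h1
      have h4 : ac hp w (ac hp w (ac hp w (e i)) + ac hp w (e i) + e i) - (ac hp w (ac hp w (e i)) + ac hp w (e i) + e i)
        = ac hp (w ^ 3) (e i) - e i := by
        rw [pow_succ, pow_two, ac_mul, ac_mul, map_add, map_add]
        abel
      rwa [h4] at h3
    rcases pair_eq hF i0 hvV hwV hvw hrv hrw (hkind _ (mul_mem huL hx) _ hux (mul_mem hvV hwV))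
      (hkind _ (mul_mem (pow_mem huL 2) hx) _ huux (mul_mem hvV (pow_mem hwV 2))) with h1 | h1
    · -- `v = w⁻¹`
      right
      have h2 : RP hp hk r ((w⁻¹)⁻¹ ^ 2 * v⁻¹) (κ (u⁻¹ ^ 2 * x)) := by
        rw [map_mul, map_pow, map_inv]
        exact (rp_pow' hw.inv 2).mul hv
      have h3 : (w⁻¹)⁻¹ ^ 2 * v⁻¹ = 1 := by
        rw [inv_inv, mul_eq_one_iff_eq_inv.1 h1, inv_inv, ← pow_succ, hw3]
      rw [h3] at h2
      exact hSA ⟨hLS (mul_mem (pow_mem (inv_mem huL) 2) hx), h2.mem_of_one⟩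
    · -- `v = w⁻² = w`
      left
      have h2 : RP hp hk r ((w⁻¹)⁻¹ * v⁻¹) (κ (u⁻¹ * x)) := by
        rw [map_mul, map_inv]
        exact hw.inv.mul hv
      have h3 : (w⁻¹)⁻¹ * v⁻¹ = 1 := by
        rw [inv_inv, mul_eq_one_iff_eq_inv.1 h1, inv_inv, ← pow_succ', hw3]
      rw [h3] at h2
      exact hSA ⟨hLS (mul_mem (inv_mem huL) hx), h2.mem_of_one⟩
  -- `|L| ≤ 3 |A|`
  have hL3 : Nat.card L ≤ 3 * Nat.card A := by
    have h1 : ((L : Set G)) ⊆ (A : Set G) ∪ ((fun y => u * y) '' (A : Set G) ∪ (fun y => u ^ 2 * y) '' (A : Set G)) := by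
      intro x hx
      rcases hcase x hx with h | h | h
      · exact Or.inl h
      · exact Or.inr (Or.inl ⟨_, h, by simp⟩)
      · exact Or.inr (Or.inr ⟨_, h, by simp⟩)
    have h2 : Nat.card L = (L : Set G).ncard := (Nat.card_coe_set_eq (L : Set G))
    have h3 : Nat.card A = (A : Set G).ncard := (Nat.card_coe_set_eq (A : Set G))
    rw [h2, h3]
    have h4 := Set.ncard_le_ncard h1 (Set.toFinite _)
    have h5 := Set.ncard_union_le (A : Set G) ((fun y => u * y) '' (A : Set G) ∪ (fun y => u ^ 2 * y) '' (A : Set G))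
    have h6 := Set.ncard_union_le ((fun y => u * y) '' (A : Set G)) ((fun y => u ^ 2 * y) '' (A : Set G))
    have h7 := Set.ncard_image_le (s := (A : Set G)) (f := fun y => u * y) (Set.toFinite _)
    have h8 := Set.ncard_image_le (s := (A : Set G)) (f := fun y => u ^ 2 * y) (Set.toFinite _)
    omega
  have hgt := card_range_gt hAT hinj (hS3.to_le hAS) hF hζ ht ha hb hc hab hbc hac (hSA' (hLS huL))
    (w := w⁻¹) hw (by rw [inv_inv]; exact hwV) (by rw [inv_inv]; exact hrw)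
  have hcent : Nat.card (A ⊓ centralizer (L : Set G) : Subgroup G) ≤ Nat.card (A ⊓ centralizer {u} : Subgroup G) := by
    apply Subgroup.card_le_of_le
    refine inf_le_inf_left _ (Subgroup.centralizer_le ?_)
    rw [Set.singleton_subset_iff]
    exact huL
  have hApos : 0 < Nat.card A := Nat.card_pos
  calc Nat.card L * Nat.card (A ⊓ centralizer (L : Set G) : Subgroup G)
      ≤ (3 * Nat.card A) * Nat.card (A ⊓ centralizer {u} : Subgroup G) := Nat.mul_le_mul hL3 hcent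
    _ = Nat.card A * (3 * Nat.card (A ⊓ centralizer {u} : Subgroup G)) := by ring
    _ < Nat.card A * Nat.card A := Nat.mul_lt_mul_of_pos_left hgt hApos

end Cfsg.Agent.H572.ExcB
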