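import Cfsg.Agent.H572.ExcB

/-!
# `PairN` from test elements (S4350, exceptional groups)

* `Emb κ τ θ` : the finite group `G` in the fixed points of `τ`;
* `comm_theta` : the Weyl group elements of `NG` commute with `θ`;
* `pairN_gen` : `PairN t s G` from `QCond`, a Weyl group statement and regularity;
* `pairN_five`, `pairN_three`.
-/

set_option autoImplicit false
set_option linter.unusedSectionVars false

namespace Cfsg.Agent.H572.ExcC

open CoxeterSystem Cfsg Cfsg.Lie Cfsg.Lie.ChevalleyDatum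
open Cfsg.Agent.ChevalleyStructure Cfsg.Agent.ChevalleyStructure.Elts Cfsg.Agent.ChevalleyStructure.CoxeterGeom
  Cfsg.Agent.ChevalleyStructure.CoxeterGeomTypes Cfsg.Agent.ChevalleyStructure.NPerm
open Cfsg.Agent.Tits.Roots Cfsg.Agent.Tits.Core Cfsg.Agent.Nodes Cfsg.Agent.Nodes.Reps Cfsg.Agent.Nodes.BNOf
  Cfsg.Agent.Nodes.RGDChev Cfsg.Agent.Nodes.Bruhat
open Cfsg.Agent.KFacts.RgdField Cfsg.Agent.KFacts.RgdChevCoord Cfsg.Agent.BpExc.TorCent Cfsg.Agent.BpExc.TorChev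
open Cfsg.Agent.GpExc.Field Cfsg.Agent.BpExc.Tow Cfsg.Agent.BpExc.TowChev Cfsg.Agent.BpExc.Fr
  Cfsg.Agent.BpExc.LangFr Cfsg.Agent.H129.TorusChar Cfsg.Agent.H129.TorusMain Cfsg.Agent.H123.ExcZ
open Cfsg.Agent.BpExc Cfsg.Agent.H795.LangT Cfsg.Agent.H795.Core Cfsg.Agent.H795.NotAbT
open Cfsg.Agent.H572.ExcA Cfsg.Agent.H572.ExcB Cfsg.Agent.H572.LatQ Cfsg.Agent.H572.LatForm
  Cfsg.Agent.H572.HallCore Cfsg.Agent.H572.HallPair
open Cfsg.Agent.H553.OddHall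
open Subgroup

universe u v

variable {D : ChevalleyDatum} {l : ℕ} {M : CoxeterMatrix (Fin l)} {hp : IsType D l M}
  {k : Type u} [Field k] [IsAlgClosed k] {hk : LocFin k} {r : ℕ} [Fact r.Prime] [CharP k r]
  {G : Type v} [Group G] {κ : G →* ↥(D.group k)}

/-- `G` embedded in the fixed points of a frame automorphism `τ` with lattice automorphism `θ` -/
structure Emb (hp : IsType D l M) (r e : ℕ) [Fact r.Prime] [CharP k r] (κ : G →* ↥(D.group k))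
    (τ : MulAut ↥(D.group k)) (θ : (Fin l → ℤ) ≃+ (Fin l → ℤ)) : Prop where
  inj : Function.Injective κ
  e_pos : 0 < e
  frob : IsFrob r e τ
  fr : Fr M.toCoxeterSystem hp.isCartan (TT D k) (XX D l k) τ θ
  fix : ∀ x, τ (κ x) = κ x
  fin : Finite {y : ↥(D.group k) // τ y = y}

/-- the elements of order a power of `s` in the torus -/
def TS (κ : G →* ↥(D.group k)) (hinj : Function.Injective κ) (hp : IsType D l M) (s : ℕ) : Subgroup G where
  carrier := {x | x ∈ TG κ ∧ ∃ j, x ^ s ^ j = 1}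
  one_mem' := ⟨one_mem _, 0, one_pow _⟩
  mul_mem' := by
    rintro a b ⟨ha, i, hi⟩ ⟨hb, j, hj⟩
    refine ⟨mul_mem ha hb, i + j, ?_⟩
    rw [(show Commute a b from TG_comm κ hinj hp ha hb).mul_pow, pow_add, pow_mul, hi, one_pow, one_mul, mul_comm,
      pow_mul, hj, one_pow]
  inv_mem' := by
    rintro a ⟨ha, i, hi⟩
    exact ⟨inv_mem ha, i, by rw [inv_pow, hi, inv_one]⟩

/-- a Sylow subgroup in `NG` contains the elements of order a power of `s` in the torus -/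
theorem TS_le [Finite G] {s : ℕ} [Fact s.Prime] (hinj : Function.Injective κ) (S : Sylow s G)
    (hS : (S : Subgroup G) ≤ NG hp hk r κ) : TS κ hinj hp s ≤ (S : Subgroup G) := by
  have hA : IsPGroup s (TS κ hinj hp s) := fun u => by
    obtain ⟨i, hi⟩ := u.2.2
    exact ⟨i, Subtype.ext hi⟩
  have hN : (S : Subgroup G) ≤ normalizer (TS κ hinj hp s : Set G) := by
    intro y hy
    have key : ∀ y ∈ NG hp hk r κ, ∀ u ∈ TS κ hinj hp s, y * u * y⁻¹ ∈ TS κ hinj hp s := by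
      rintro y hy u ⟨hu, i, hi⟩
      exact ⟨conj_mem_TG κ hy hu, i, by rw [conj_pow, hi, mul_one, mul_inv_cancel]⟩
    rw [mem_normalizer_iff]
    intro u
    refine ⟨key y (hS hy) u, fun h => ?_⟩
    have h1 := key y⁻¹ (inv_mem (hS hy)) _ h
    have h2 : y⁻¹ * (y * u * y⁻¹) * y⁻¹⁻¹ = u := by group
    rwa [h2] at h1
  have hP : IsPGroup s ↥(TS κ hinj hp s ⊔ (S : Subgroup G)) := IsPGroup.to_sup_of_normal_left' hA S.isPGroup' hN
  have h3 := S.is_maximal' hP le_sup_right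
  exact le_sup_left.trans h3.le

/-- the elements of the Weyl group commuting with `θ` -/
def CT (hp : IsType D l M) (θ : (Fin l → ℤ) ≃+ (Fin l → ℤ)) : Subgroup M.Group where
  carrier := {w | ∀ x, ac hp w (θ x) = θ (ac hp w x)}
  one_mem' := fun x => by rw [ac_one, ac_one]
  mul_mem' := by
    intro v w hv hw x
    rw [ac_mul, ac_mul, hw, hv]
  inv_mem' := by
    intro v hv x
    have h1 := hv (ac hp v⁻¹ x)
    have h2 : ac hp v (ac hp v⁻¹ x) = x := by rw [← ac_mul, mul_inv_cancel, ac_one]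
    rw [h2] at h1
    rw [← h1, ← ac_mul, inv_mul_cancel, ac_one]

theorem mem_CT {θ : (Fin l → ℤ) ≃+ (Fin l → ℤ)} {w : M.Group} : w ∈ CT hp θ ↔ ∀ x, ac hp w (θ x) = θ (ac hp w x) :=
  Iff.rfl

variable {e : ℕ} {τ : MulAut ↥(D.group k)} {θ : (Fin l → ℤ) ≃+ (Fin l → ℤ)}

/-- the elements represented by fixed points commute with `θ` -/
theorem mem_CT_of_fix {d : ℕ} {Bi : Fin l → Fin l → ℤ} (hB : InvC D l d Bi) (hd : d ≠ 0)
    (hfr : IsFrob r e τ) (F : Fr M.toCoxeterSystem hp.isCartan (TT D k) (XX D l k) τ θ) {c : ↥(D.group k)}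
    {w : M.Group} (hc : RP hp hk r w c) (hτ : τ c = c) : w ∈ CT hp θ := by
  intro x
  refine cX_sep hp (k := k) hB hd fun t' ht' => ?_
  obtain ⟨t, ht, rfl⟩ : ∃ t ∈ TT D k, t' = τ (c * t * c⁻¹) := by
    have h1 : τ⁻¹ t' ∈ TT D k := by rw [← F.tor, MulAut.apply_inv_self]; exact ht'
    refine ⟨c⁻¹ * τ⁻¹ t' * c, ?_, ?_⟩
    · have h2 := hc.inv.conj_mem h1
      rwa [inv_inv] at h2
    · have h2 : c * (c⁻¹ * τ⁻¹ t' * c) * c⁻¹ = τ⁻¹ t' := by group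
      rw [h2, MulAut.apply_inv_self]
  have h1 : cX hp (τ (c * t * c⁻¹)) (θ (ac hp w x)) = cX hp t x ^ r ^ e := by
    rw [cX_sigma hp M.toCoxeterSystem hfr F (hc.conj_mem ht)]
    congr 1
    exact hc.char ht x
  have h2 : cX hp (τ (c * t * c⁻¹)) (ac hp w (θ x)) = cX hp t x ^ r ^ e := by
    rw [map_mul, map_mul, map_inv, hτ]
    have h3 := hc.char ((F.tor t).2 ht) (θ x)
    rw [cX_sigma hp M.toCoxeterSystem hfr F ht] at h3
    exact h3
  rw [h2, h1]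

/-- **`PairN` from `QCond`** and a Weyl group statement. -/
theorem pairN_gen [Finite G] {s t : ℕ} [hs : Fact s.Prime] [ht : Fact t.Prime] (hs2 : s ≠ 2) (ht2 : t ≠ 2) (hst : s ≠ t)
    (h : Emb hp r e κ τ θ) {d : ℕ} {Bi : Fin l → Fin l → ℤ} (hB : InvC D l d Bi) (hd : d ≠ 0)
    (S : Sylow s G) (hS : (S : Subgroup G) ≤ NG hp hk r κ) {N₂ : ℕ}
    (hN₂ : s ^ N₂ ∣ Nat.card (im hp hk r κ (S : Subgroup G)))
    (hQ : QCond ((S : Subgroup G) ⊓ TG κ) (S : Subgroup G))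
    (hreg : ∀ a, IsRoot M.toCoxeterSystem hp.isCartan a → ∃ x ∈ (S : Subgroup G) ⊓ TG κ, cX hp (κ x) a ≠ 1)
    (hWL : ∀ H : Subgroup M.Group, H ≤ CT hp θ → (∀ q, q.Prime → q ∣ Nat.card H → q = s ∨ q = t) →
      s ^ N₂ ∣ Nat.card H → ¬ t ∣ Nat.card H) : PairN t s G := by
  have hWf : Finite M.Group := finite_W hp (M.toCoxeterSystem)
  refine pairN_of_core hs2 ht2 hst S (A := (S : Subgroup G) ⊓ TG κ) inf_le_left
    (fun a ha b hb => TG_comm κ h.inj hp ha.2 hb.2) ?_ hQ ?_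
  · intro y hy
    have key : ∀ y ∈ (S : Subgroup G), ∀ u ∈ (S : Subgroup G) ⊓ TG κ, y * u * y⁻¹ ∈ (S : Subgroup G) ⊓ TG κ :=
      fun y hy u hu => ⟨(S : Subgroup G).mul_mem ((S : Subgroup G).mul_mem hy hu.1)
        ((S : Subgroup G).inv_mem hy), conj_mem_TG κ (hS hy) hu.2⟩
    rw [mem_normalizer_iff]
    intro u
    refine ⟨key y hy u, fun h => ?_⟩
    have h1 := key y⁻¹ ((S : Subgroup G).inv_mem hy) _ h
    have h2 : y⁻¹ * (y * u * y⁻¹) * y⁻¹⁻¹ = u := by group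
    rwa [h2] at h1
  · intro X hX hSX hXA
    have hXN : X ≤ NG hp hk r κ := fun y hy => mem_NG_of_norm (hk := hk) (r := r) κ inf_le_right hreg (hXA hy)
    have hc := card_im (hk := hk) (r := r) κ hXN
    have hrel : (TG κ).relIndex X = Nat.card (im hp hk r κ X) := by
      have h1 : Nat.card (TG κ ⊓ X : Subgroup G) * (TG κ ⊓ X).relIndex X = Nat.card X := by
        have h2 := Subgroup.relIndex_mul_relIndex (⊥ : Subgroup G) (TG κ ⊓ X) X bot_le inf_le_right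
        rwa [Subgroup.relIndex_bot_left, Subgroup.relIndex_bot_left] at h2
      rw [Subgroup.inf_relIndex_right, inf_comm, hc] at h1
      exact Nat.eq_of_mul_eq_mul_left Nat.card_pos h1
    have hdvd : (centralizer (((S : Subgroup G) ⊓ TG κ : Subgroup G) : Set G)).relIndex X ∣ (TG κ).relIndex X := by
      apply Subgroup.relIndex_dvd_of_le_left
      intro x hx
      rw [mem_centralizer_iff]
      exact fun y hy => TG_comm κ h.inj hp hy.2 hx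
    intro hcon
    refine hWL (im hp hk r κ X) ?_ ?_ ?_ (hrel ▸ hcon.trans hdvd)
    · rintro w ⟨x, -, hw⟩
      exact mem_CT_of_fix hB hd h.frob h.fr hw (h.fix x)
    · intro q hq hqd
      exact hX q hq (hqd.trans (Dvd.intro_left _ hc.symm))
    · exact hN₂.trans (Subgroup.card_dvd_of_le (im_mono κ hSX))

variable {s : ℕ} {ζ : k} {B : (Fin l → ℤ) → (Fin l → ℤ) → ℤ} {ι : Type*} {ee : ι → (Fin l → ℤ)}

/-- the common hypotheses -/
structure Row (hp : IsType D l M) (hk : LocFin k) (κ : G →* ↥(D.group k)) (θ : (Fin l → ℤ) ≃+ (Fin l → ℤ)) (s r : ℕ)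
    [Fact r.Prime] [CharP k r]
    (ζ : k) (B : (Fin l → ℤ) → (Fin l → ℤ) → ℤ) (ee : ι → (Fin l → ℤ)) (N₁ N₂ : ℕ) : Prop where
  tg : s ^ N₁ ∣ Nat.card (TG κ)
  wg : s ^ N₂ ∣ Nat.card (im hp hk r κ (NG hp hk r κ))
  ord : ¬ s ^ (N₁ + N₂ + 1) ∣ Nat.card G
  data : FData hp B (CT hp θ) ee
  prim : IsPrimitiveRoot ζ s
  tst : ∀ y, ∃ a ∈ TG κ, a ^ s = 1 ∧ ∀ x, cX hp (κ a) x = ζ ^ (B x y)
  reg : ∀ a, IsRoot M.toCoxeterSystem hp.isCartan a → ¬ (s : ℤ) ∣ B a a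

theorem Row.regular [Finite G] {s : ℕ} [hs : Fact s.Prime] {N₁ N₂ : ℕ} (R : Row hp hk κ θ s r ζ B ee N₁ N₂)
    (hinj : Function.Injective κ) (S : Sylow s G) (hS : (S : Subgroup G) ≤ NG hp hk r κ) :
    Tst κ hp ((S : Subgroup G) ⊓ TG κ) ζ B ∧
    ∀ a, IsRoot M.toCoxeterSystem hp.isCartan a → ∃ x ∈ (S : Subgroup G) ⊓ TG κ, cX hp (κ x) a ≠ 1 := by
  have h1 : Tst κ hp ((S : Subgroup G) ⊓ TG κ) ζ B := by
    intro y
    obtain ⟨a, ha, has, hx⟩ := R.tst y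
    exact ⟨a, ⟨TS_le hinj S hS ⟨ha, 1, by rw [pow_one]; exact has⟩, ha⟩, hx⟩
  refine ⟨h1, fun a ha => ?_⟩
  obtain ⟨x, hx, hxa⟩ := h1 a
  refine ⟨x, hx, fun h2 => R.reg a ha ?_⟩
  rw [hxa] at h2
  exact (R.prim.zpow_eq_one_iff_dvd _).1 h2

/-- **`PairN`, `s ≥ 5`.** -/
theorem pairN_five [Finite G] {s t : ℕ} [hs : Fact s.Prime] [ht : Fact t.Prime] (hs5 : 5 ≤ s) (ht2 : t ≠ 2) (hst : s ≠ t)
    (h : Emb hp r e κ τ θ) {d : ℕ} {Bi : Fin l → Fin l → ℤ} (hB : InvC D l d Bi) (hd : d ≠ 0) {N₁ N₂ : ℕ}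
    (R : Row hp hk κ θ s r ζ B ee N₁ N₂)
    (hWL : ∀ H : Subgroup M.Group, H ≤ CT hp θ → (∀ q, q.Prime → q ∣ Nat.card H → q = s ∨ q = t) →
      s ^ N₂ ∣ Nat.card H → ¬ t ∣ Nat.card H) : PairN t s G := by
  obtain ⟨S, hS, hSim⟩ := exists_sylow (hp := hp) (hk := hk) (r := r) κ R.tg R.wg R.ord
  obtain ⟨hT, hreg⟩ := R.regular h.inj S hS
  refine pairN_gen (by omega) ht2 hst h hB hd S hS hSim ?_ hreg hWL
  refine qcond_five hs.out hs5 inf_le_right hS le_rfl ?_ R.data R.prim hT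
  rintro w ⟨x, -, hw⟩
  exact mem_CT_of_fix hB hd h.frob h.fr hw (h.fix x)

/-- **`PairN`, `s = 3`.** -/
theorem pairN_three [Finite G] {t : ℕ} [ht : Fact t.Prime] (ht2 : t ≠ 2) (ht3 : t ≠ 3)
    (h : Emb hp r e κ τ θ) {d : ℕ} {Bi : Fin l → Fin l → ℤ} (hB : InvC D l d Bi) (hd : d ≠ 0) {N₁ N₂ : ℕ}
    (R : Row hp hk κ θ 3 r ζ B ee N₁ N₂) (i0 : ι) (dep : ι → ℕ)
    (hdep : ∀ i, i = i0 ∨ ∃ j, dep j < dep i ∧ B (ee i) (ee j) ≠ 0)
    (hspan : AddSubgroup.closure (Set.range ee) = ⊤)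
    {a b c : Fin l → ℤ} (ha : B a a = 2) (hb : B b b = 2) (hc : B c c = 2) (hab : B a b = -1) (hbc : B b c = -1)
    (hac : B a c = 0)
    (hWL : ∀ H : Subgroup M.Group, H ≤ CT hp θ → (∀ q, q.Prime → q ∣ Nat.card H → q = 3 ∨ q = t) →
      3 ^ N₂ ∣ Nat.card H → ¬ t ∣ Nat.card H) : PairN t 3 G := by
  have : Fact (Nat.Prime 3) := ⟨Nat.prime_three⟩
  obtain ⟨S, hS, hSim⟩ := exists_sylow (hp := hp) (hk := hk) (r := r) κ R.tg R.wg R.ord
  obtain ⟨hT, hreg⟩ := R.regular h.inj S hS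
  refine pairN_gen (by norm_num) ht2 ht3.symm h hB hd S hS hSim ?_ hreg hWL
  refine qcond_three inf_le_right h.inj S.isPGroup' inf_le_left ?_ hS le_rfl ?_ R.data i0 dep hdep hspan R.prim hT
    ha hb hc hab hbc hac
  · intro y hy
    have key : ∀ y ∈ (S : Subgroup G), ∀ u ∈ (S : Subgroup G) ⊓ TG κ, y * u * y⁻¹ ∈ (S : Subgroup G) ⊓ TG κ :=
      fun y hy u hu => ⟨(S : Subgroup G).mul_mem ((S : Subgroup G).mul_mem hy hu.1)
        ((S : Subgroup G).inv_mem hy), conj_mem_TG κ (hS hy) hu.2⟩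
    rw [mem_normalizer_iff]
    intro u
    refine ⟨key y hy u, fun h => ?_⟩
    have h1 := key y⁻¹ ((S : Subgroup G).inv_mem hy) _ h
    have h2 : y⁻¹ * (y * u * y⁻¹) * y⁻¹⁻¹ = u := by group
    rwa [h2] at h1
  · rintro w ⟨x, -, hw⟩
    exact mem_CT_of_fix hB hd h.frob h.fr hw (h.fix x)

end Cfsg.Agent.H572.ExcC
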