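import Cfsg.Agent.H572.ExcC

/-!
# The full case `θ = ε` (S4350, exceptional groups)

* `exists_emb` : the twisted embedding;
* `exists_tor_elt` : torus elements with characters `ζ ^ c x`;
* `exists_cor` : elements of `G` with the characters `ζ ^ ⟨x, ∑ n_j α_j^∨⟩`;
* `pow_dvd_TG`, `pow_dvd_im` : the counts.
-/

set_option autoImplicit false
set_option linter.unusedSectionVars false

namespace Cfsg.Agent.H572.ExcD

open CoxeterSystem Cfsg Cfsg.Lie Cfsg.Lie.ChevalleyDatum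
open Cfsg.Agent.ChevalleyStructure Cfsg.Agent.ChevalleyStructure.Elts Cfsg.Agent.ChevalleyStructure.CoxeterGeom
  Cfsg.Agent.ChevalleyStructure.CoxeterGeomTypes Cfsg.Agent.ChevalleyStructure.NPerm
open Cfsg.Agent.Tits.Roots Cfsg.Agent.Tits.Core Cfsg.Agent.Nodes Cfsg.Agent.Nodes.Reps Cfsg.Agent.Nodes.BNOf
  Cfsg.Agent.Nodes.RGDChev Cfsg.Agent.Nodes.Bruhat
open Cfsg.Agent.KFacts.RgdField Cfsg.Agent.KFacts.RgdChevCoord Cfsg.Agent.BpExc.TorCent Cfsg.Agent.BpExc.TorChev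
open Cfsg.Agent.GpExc.Field Cfsg.Agent.BpExc.Tow Cfsg.Agent.BpExc.TowChev Cfsg.Agent.BpExc.Fr
  Cfsg.Agent.BpExc.LangFr Cfsg.Agent.H129.TorusChar Cfsg.Agent.H129.TorusMain Cfsg.Agent.H123.ExcZ
open Cfsg.Agent.BpExc Cfsg.Agent.H795.LangT Cfsg.Agent.H795.Core Cfsg.Agent.H795.NotAbT
open Cfsg.Agent.H572.ExcA Cfsg.Agent.H572.ExcB Cfsg.Agent.H572.ExcC Cfsg.Agent.H572.LatQ Cfsg.Agent.H572.LatForm
open Subgroup
open scoped commutatorElement

universe u v

variable {D : ChevalleyDatum} {l : ℕ} {M : CoxeterMatrix (Fin l)} {hp : IsType D l M}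
  {k : Type u} [Field k] [IsAlgClosed k] {hk : LocFin k} {r : ℕ} [Fact r.Prime] [CharP k r]
  {G : Type v} [Group G] {κ : G →* ↥(D.group k)} {e : ℕ} {τ : MulAut ↥(D.group k)}
  {θ : (Fin l → ℤ) ≃+ (Fin l → ℤ)}

/-- **The twisted embedding.** -/
theorem exists_emb (hk : LocFin k) {f : G →* ↥(D.group k)} {σ : MulAut ↥(D.group k)} {g : (Fin l → ℤ) ≃+ (Fin l → ℤ)}
    (hinj : Function.Injective f) (he : 0 < e) (hσ : IsFrob r e σ)
    (F : Fr M.toCoxeterSystem hp.isCartan (TT D k) (XX D l k) σ g) (hfix : ∀ x, σ (f x) = f x)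
    (hfin : Finite {y : ↥(D.group k) // σ y = y}) (w : M.Group) :
    ∃ (κ : G →* ↥(D.group k)) (τ : MulAut ↥(D.group k)) (z : ↥(D.group k)),
      Emb hp r e κ τ (g.trans (repAut M.toCoxeterSystem hp.isCartan w)) ∧ (∀ x, κ x = z⁻¹ * f x * z) ∧
      ∀ y, τ y = y → σ (z * y * z⁻¹) = z * y * z⁻¹ := by
  obtain ⟨n, z, hn, hz, hτ, Fτ⟩ := exists_tau hp hk he hσ F w
  have hτf : ∀ y, (MulAut.conj n * σ) y = n * σ y * n⁻¹ := fun y => rfl
  have hback : ∀ y, (MulAut.conj n * σ) y = y → σ (z * y * z⁻¹) = z * y * z⁻¹ := fun y hy =>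
    fix_conj hz (by rw [← hτf]; exact hy)
  refine ⟨(MulAut.conj z⁻¹).toMonoidHom.comp f, MulAut.conj n * σ, z, ?_, fun x => ?_, hback⟩
  · refine ⟨?_, he, hτ, Fτ, fun x => ?_, ?_⟩
    · exact (MulAut.conj z⁻¹).injective.comp hinj
    · show (MulAut.conj n * σ) (z⁻¹ * f x * z⁻¹⁻¹) = z⁻¹ * f x * z⁻¹⁻¹
      rw [hτf, inv_inv, map_mul, map_mul, map_inv, hfix, hz]
      group
    · exact Finite.of_injective
        (fun y : {y : ↥(D.group k) // (MulAut.conj n * σ) y = y} =>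
          (⟨z * y.1 * z⁻¹, hback _ y.2⟩ : {y : ↥(D.group k) // σ y = y}))
        (fun a b hab => by
          have h1 : z * a.1 * z⁻¹ = z * b.1 * z⁻¹ := congrArg Subtype.val hab
          exact Subtype.ext (mul_left_cancel (mul_right_cancel h1)))
  · show z⁻¹ * f x * z⁻¹⁻¹ = _
    rw [inv_inv]

theorem comm_of_comm {f : G →* ↥(D.group k)} {σ : MulAut ↥(D.group k)} {z : ↥(D.group k)}
    (hκ : ∀ x, κ x = z⁻¹ * f x * z) (hb : ∀ y, τ y = y → σ (z * y * z⁻¹) = z * y * z⁻¹)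
    (hcm : ∀ a b, σ a = a → σ b = b → ∃ x, f x = a * b * a⁻¹ * b⁻¹) (a b : ↥(D.group k)) (ha : τ a = a)
    (hb' : τ b = b) : ∃ x, κ x = a * b * a⁻¹ * b⁻¹ := by
  obtain ⟨x, hx⟩ := hcm _ _ (hb a ha) (hb b hb')
  refine ⟨x, ?_⟩
  rw [hκ, hx]
  group

theorem mem_of_mem {f : G →* ↥(D.group k)} {σ : MulAut ↥(D.group k)} {z : ↥(D.group k)} {s : ℕ}
    (hκ : ∀ x, κ x = z⁻¹ * f x * z) (hb : ∀ y, τ y = y → σ (z * y * z⁻¹) = z * y * z⁻¹)
    (hpm : ∀ y, σ y = y → (∃ j : ℕ, y ^ s ^ j = 1) → ∃ x, f x = y) (y : ↥(D.group k)) (hy : τ y = y)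
    (hj : ∃ j : ℕ, y ^ s ^ j = 1) : ∃ x, κ x = y := by
  obtain ⟨j, hj⟩ := hj
  obtain ⟨x, hx⟩ := hpm _ (hb y hy) ⟨j, by rw [conj_pow, hj, mul_one, mul_inv_cancel]⟩
  refine ⟨x, ?_⟩
  rw [hκ, hx]
  group

/-- **Torus elements fixed by `τ`.** -/
theorem exists_tor_elt {d : ℕ} {Bi : Fin l → Fin l → ℤ} (hB : InvC D l d Bi) (hd : d ≠ 0) (hτ : IsFrob r e τ)
    (F : Fr M.toCoxeterSystem hp.isCartan (TT D k) (XX D l k) τ θ) {ζ : k} (hζ : ζ ≠ 0) (c : (Fin l → ℤ) →+ ℤ)
    (hc : ∀ x, ζ ^ (c (θ x)) = (ζ ^ (c x)) ^ r ^ e) :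
    ∃ t ∈ TT D k, τ t = t ∧ ∀ x, cX hp t x = ζ ^ (c x) := by
  obtain ⟨t, ht, hct⟩ := exists_cX hp hB hd (φ := fun x => ζ ^ (c x))
    ⟨by show ζ ^ (c 0) = 1; rw [map_zero, zpow_zero], fun x y => by
      show ζ ^ (c (x + y)) = ζ ^ (c x) * ζ ^ (c y)
      rw [map_add, zpow_add₀ hζ]⟩ (fun i => IsAlgClosed.exists_pow_nat_eq _ (Nat.pos_of_ne_zero hd))
  refine ⟨t, ht, ?_, hct⟩
  have hτt : τ t ∈ TT D k := (F.tor t).2 ht
  refine cX_inj hp hτt ht fun i => ?_
  obtain ⟨x, hx⟩ := θ.surjective (sr i)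
  rw [← hx, cX_sigma hp M.toCoxeterSystem hτ F ht, hct, hct]
  exact (hc x).symm

/-- a fixed representative -/
theorem exists_fixed (h : Emb hp r e κ τ θ) {d : ℕ} {Bi : Fin l → Fin l → ℤ} (hB : InvC D l d Bi) (hd : d ≠ 0)
    {v : M.Group} (hv : v ∈ CT hp θ) : ∃ m, RP hp hk r v m ∧ τ m = m :=
  exists_fixed_lift hp hk hB hd h.e_pos h.frob h.fr hv

/-- the whole Weyl group commutes with `ε` -/
theorem CT_eq_top {ε : ℤ} (hθ : ∀ x, θ x = ε • x) : CT hp θ = ⊤ := by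
  rw [eq_top_iff]
  intro w _ x
  rw [hθ, hθ, map_zsmul]

section Full

variable {d : ℕ} {Bi : Fin l → Fin l → ℤ} {ε : ℤ} {n : ℕ} {ζ : k}

/-- **elements of `G` for the simple coroots** -/
theorem exists_cor_simple (h : Emb hp r e κ τ θ) (hB : InvC D l d Bi) (hd : d ≠ 0) (hθ : ∀ x, θ x = ε • x)
    (hcm : ∀ a b, τ a = a → τ b = b → ∃ x, κ x = a * b * a⁻¹ * b⁻¹) (hζ : ζ ^ n = 1) (hn : n ≠ 0)
    (hq : (n : ℤ) ∣ (r : ℤ) ^ e - ε) (hk : LocFin k) (j : Fin l) :
    ∃ a ∈ TG κ, ∀ x, cX hp (κ a) x = ζ ^ (pairing (cartanOf D l) j x) := by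
  have hζ0 : ζ ≠ 0 := by
    rintro rfl
    rw [zero_pow hn] at hζ
    exact zero_ne_one hζ
  obtain ⟨t, ht, hτt, hct⟩ := exists_tor_elt (hp := hp) hB hd h.frob h.fr hζ0 (Pi.evalAddMonoidHom (fun _ : Fin l => ℤ) j)
    (fun x => by
      rw [hθ, map_zsmul, ← zpow_natCast (ζ ^ _) (r ^ e), ← zpow_mul, smul_eq_mul]
      obtain ⟨c, hc⟩ := hq
      have h1 : (Pi.evalAddMonoidHom (fun _ : Fin l => ℤ) j) x * ((r ^ e : ℕ) : ℤ) =
          ε * (Pi.evalAddMonoidHom (fun _ : Fin l => ℤ) j) x +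
          n * (c * (Pi.evalAddMonoidHom (fun _ : Fin l => ℤ) j) x) := by
        push_cast
        have h2 : (r : ℤ) ^ e = ε + n * c := by rw [← hc]; ring
        rw [h2]
        ring
      rw [h1, zpow_add₀ hζ0, zpow_mul, zpow_mul ζ (n : ℤ), zpow_natCast, hζ, one_zpow, mul_one, ← zpow_mul])
  obtain ⟨m, hm, hτm⟩ := exists_fixed (hk := hk) h hB hd (v := M.toCoxeterSystem.simple j)
    (by rw [CT_eq_top hθ]; exact mem_top _)
  obtain ⟨x, hx⟩ := hcm t m hτt hτm
  have hκ : κ x = t * (m * t * m⁻¹)⁻¹ := by rw [hx]; group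
  have hmt := hm.conj_mem ht
  have hxT : κ x ∈ TT D k := by
    rw [hκ]
    exact mul_mem ht (inv_mem hmt)
  refine ⟨x, hxT, fun y => ?_⟩
  have h1 : κ x * (m * t * m⁻¹) = t := by rw [hκ, inv_mul_cancel_right]
  have h2 := cX_mul hp hxT hmt y
  rw [h1, hm.char_inv ht, hct, hct] at h2
  have h3 : (M.toCoxeterSystem.simple j)⁻¹ = M.toCoxeterSystem.simple j := M.toCoxeterSystem.inv_simple j
  have h4 : (Pi.evalAddMonoidHom (fun _ : Fin l => ℤ) j)
      (rep M.toCoxeterSystem hp.isCartan (M.toCoxeterSystem.simple j)⁻¹ y) =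
      y j - pairing (cartanOf D l) j y := by
    rw [h3, rep_simple]
    rw [refl_apply]
    show (y - Pi.single j (pairing (cartanOf D l) j y) : Fin l → ℤ) j = _
    rw [Pi.sub_apply, Pi.single_eq_same]
  rw [h4] at h2
  have h5 : ζ ^ (Pi.evalAddMonoidHom (fun _ : Fin l => ℤ) j) y =
      ζ ^ (pairing (cartanOf D l) j y) * ζ ^ (y j - pairing (cartanOf D l) j y) := by
    rw [← zpow_add₀ hζ0]
    congr 1
    show y j = _
    ring
  rw [h5] at h2
  exact (mul_right_cancel₀ (zpow_ne_zero _ hζ0) h2).symm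

/-- **elements of `G` for all coroots** -/
theorem exists_cor (hζ0 : ζ ≠ 0)
    (hs : ∀ j, ∃ a ∈ TG κ, ∀ x, cX hp (κ a) x = ζ ^ (pairing (cartanOf D l) j x)) (m : Fin l → ℤ) :
    ∃ a ∈ TG κ, ∀ x, cX hp (κ a) x = ζ ^ (∑ j, m j * pairing (cartanOf D l) j x) := by
  let P : AddSubgroup (Fin l → ℤ) :=
    { carrier := {m | ∃ a ∈ TG κ, ∀ x, cX hp (κ a) x = ζ ^ (∑ j, m j * pairing (cartanOf D l) j x)}
      zero_mem' := ⟨1, one_mem _, fun x => by
        rw [map_one, cX_one]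
        simp only [Pi.zero_apply, zero_mul, Finset.sum_const_zero, zpow_zero]⟩
      add_mem' := by
        rintro m m' ⟨a, ha, h1⟩ ⟨b, hb, h2⟩
        refine ⟨a * b, mul_mem ha hb, fun x => ?_⟩
        rw [map_mul, cX_mul hp ha hb, h1, h2, ← zpow_add₀ hζ0, ← Finset.sum_add_distrib]
        congr 1
        refine Finset.sum_congr rfl fun j _ => ?_
        rw [Pi.add_apply, add_mul]
      neg_mem' := by
        rintro m ⟨a, ha, h1⟩
        refine ⟨a⁻¹, inv_mem ha, fun x => ?_⟩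
        have h3 : κ a⁻¹ ∈ TT D k := by rw [map_inv]; exact inv_mem ha
        have h2 := cX_mul hp h3 ha x
        rw [← map_mul, inv_mul_cancel, map_one, cX_one, h1] at h2
        have h4 : (∑ j, (-m) j * pairing (cartanOf D l) j x) = -∑ j, m j * pairing (cartanOf D l) j x := by
          rw [← Finset.sum_neg_distrib]
          exact Finset.sum_congr rfl fun j _ => by rw [Pi.neg_apply, neg_mul]
        rw [h4, zpow_neg]
        exact eq_inv_of_mul_eq_one_left h2.symm }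
  have hP : P = ⊤ := by
    rw [eq_top_iff]
    intro m _
    rw [IsMC.eq_sum_sr m]
    refine sum_mem fun j _ => P.zsmul_mem ?_ (m j)
    obtain ⟨a, ha, h1⟩ := hs j
    refine ⟨a, ha, fun x => ?_⟩
    rw [h1]
    congr 1
    rw [Finset.sum_eq_single j]
    · rw [sr_self, one_mul]
    · intro i _ hi
      rw [sr_ne hi, zero_mul]
    · intro hj
      exact absurd (Finset.mem_univ j) hj
  have : m ∈ P := by rw [hP]; exact AddSubgroup.mem_top _
  exact this

/-- the kernel of the Cartan matrix modulo `n` -/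
def KA (D : ChevalleyDatum) (l n : ℕ) : AddSubgroup (Fin l → ZMod n) where
  carrier := {m | ∀ i, ∑ j, m j * (cartanOf D l j i : ZMod n) = 0}
  zero_mem' := fun i => by simp
  add_mem' := by
    intro a b ha hb i
    simp only [Pi.add_apply, add_mul, Finset.sum_add_distrib]
    rw [ha i, hb i, add_zero]
  neg_mem' := by
    intro a ha i
    simp only [Pi.neg_apply, neg_mul, Finset.sum_neg_distrib]
    rw [ha i, neg_zero]

/-- **The order of the torus part.** -/
theorem pow_dvd_TG [Finite G] [NeZero n] (hζ : IsPrimitiveRoot ζ n)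
    (hall : ∀ m : Fin l → ℤ, ∃ a ∈ TG κ, ∀ x, cX hp (κ a) x = ζ ^ (∑ j, m j * pairing (cartanOf D l) j x)) :
    n ^ l ∣ Nat.card (KA D l n) * Nat.card (TG κ) := by
  classical
  have hζ0 : ζ ≠ 0 := hζ.ne_zero (NeZero.ne n)
  let ζu : kˣ := Units.mk0 ζ hζ0
  have hζu : IsPrimitiveRoot ζu n := IsPrimitiveRoot.coe_units_iff.1 hζ
  let ξ : ZMod n →+ Additive kˣ :=
    (AddMonoidHom.comp (MonoidHom.toAdditive (Subgroup.zpowers ζu).subtype) hζu.zmodEquivZPowers.toAddMonoidHom)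
  have hξ : ∀ z : ℤ, ξ (z : ZMod n) = Additive.ofMul (ζu ^ z) := by
    intro z
    show Additive.ofMul (((Additive.toMul (hζu.zmodEquivZPowers (z : ZMod n)) : Subgroup.zpowers ζu)) : kˣ) = _
    rw [hζu.zmodEquivZPowers_apply_coe_int]
    rfl
  have hξi : Function.Injective ξ := by
    intro a b hab
    obtain ⟨x, rfl⟩ := ZMod.intCast_surjective a
    obtain ⟨y, rfl⟩ := ZMod.intCast_surjective b
    rw [hξ, hξ] at hab
    have h1 : ζu ^ x = ζu ^ y := hab
    have h2 : ζu ^ (x - y) = 1 := by rw [zpow_sub, h1, mul_inv_cancel]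
    have h3 := (hζu.zpow_eq_one_iff_dvd _).1 h2
    rw [ZMod.intCast_eq_intCast_iff_dvd_sub]
    obtain ⟨c, hc⟩ := h3
    exact ⟨-c, by rw [mul_neg, ← hc]; ring⟩
  let Φ : (Fin l → ZMod n) →+ (Fin l → Additive kˣ) :=
    { toFun := fun m i => ξ (∑ j, m j * (cartanOf D l j i : ZMod n))
      map_zero' := by
        funext i
        simp
      map_add' := fun a b => by
        funext i
        simp only [Pi.add_apply, add_mul, Finset.sum_add_distrib, map_add] }
  have hker : Φ.ker = KA D l n := by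
    ext m
    rw [AddMonoidHom.mem_ker]
    constructor
    · intro h i
      have h1 := congrFun h i
      exact hξi (h1.trans (map_zero ξ).symm)
    · intro h
      funext i
      show ξ (∑ j, m j * (cartanOf D l j i : ZMod n)) = 0
      rw [h i, map_zero]
  let ψ : Additive (TG κ) →+ (Fin l → Additive kˣ) :=
    { toFun := fun x i => Additive.ofMul (Units.mk0 (cX hp (κ (Additive.toMul x : TG κ)) (sr i))
        ((isMC_cX hp (Additive.toMul x : TG κ).2).ne_zero _))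
      map_zero' := by
        funext i
        apply congrArg Additive.ofMul
        apply Units.ext
        show cX hp (κ ((1 : TG κ) : G)) (sr i) = 1
        rw [OneMemClass.coe_one, map_one, cX_one]
      map_add' := fun a b => by
        funext i
        apply congrArg Additive.ofMul
        apply Units.ext
        show cX hp (κ ((Additive.toMul a * Additive.toMul b : TG κ) : G)) (sr i) = _
        rw [Subgroup.coe_mul, map_mul, cX_mul hp (Additive.toMul a : TG κ).2 (Additive.toMul b : TG κ).2]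
        rfl }
  have hle : Φ.range ≤ ψ.range := by
    rintro _ ⟨m, rfl⟩
    choose z hz using fun j => ZMod.intCast_surjective (m j)
    obtain ⟨a, ha, hax⟩ := hall z
    refine ⟨Additive.ofMul ⟨a, ha⟩, ?_⟩
    funext i
    show Additive.ofMul (Units.mk0 (cX hp (κ a) (sr i)) _) = ξ (∑ j, m j * (cartanOf D l j i : ZMod n))
    have h1 : (∑ j, m j * (cartanOf D l j i : ZMod n)) = ((∑ j, z j * cartanOf D l j i : ℤ) : ZMod n) := by
      push_cast
      exact Finset.sum_congr rfl fun j _ => by rw [hz]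
    rw [h1, hξ]
    apply congrArg Additive.ofMul
    apply Units.ext
    rw [Units.val_mk0, hax, Units.val_zpow_eq_zpow_val, Units.val_mk0]
    congr 1
    exact Finset.sum_congr rfl fun j _ => by rw [pairing_sr']
  have hfin : Finite (Fin l → ZMod n) := inferInstance
  have h1 : Nat.card Φ.ker * Nat.card Φ.range = n ^ l := by
    have h2 := Φ.ker.card_mul_index
    rw [AddSubgroup.index_ker] at h2
    rw [h2, Nat.card_pi]
    simp
  have hfr : Finite ψ.range := Finite.of_surjective _ ψ.rangeRestrict_surjective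
  have h3 : Nat.card Φ.range ∣ Nat.card ψ.range := AddSubgroup.card_dvd_of_le hle
  have h4 : Nat.card ψ.range ∣ Nat.card (TG κ) := by
    have h5 := ψ.ker.card_mul_index
    rw [AddSubgroup.index_ker] at h5
    have h6 : Nat.card (Additive (TG κ)) = Nat.card (TG κ) := Nat.card_congr Additive.toMul
    rw [← h6, ← h5]
    exact Dvd.intro_left _ rfl
  rw [← h1, hker]
  exact mul_dvd_mul_left _ (h3.trans h4)

/-- elements of odd order of a Coxeter group are in the commutator subgroup -/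
theorem mem_commutator_of_odd {I W : Type*} [Group W] {M' : CoxeterMatrix I} (cs : CoxeterSystem M' W) {w : W} {n : ℕ}
    (hn : Odd n) (hw : w ^ n = 1) : w ∈ commutator W := by
  have h1 : ∀ w : W, Abelianization.of w ^ 2 = 1 := by
    intro w
    induction w using cs.simple_induction with
    | simple i => rw [← map_pow, pow_two, cs.simple_mul_simple_self, map_one]
    | one => rw [map_one, one_pow]
    | mul a b ha hb => rw [map_mul, mul_pow, ha, hb, one_mul]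
  have h2 : Abelianization.of w ^ n = 1 := by rw [← map_pow, hw, map_one]
  obtain ⟨m, rfl⟩ := hn
  rw [pow_succ, pow_mul, h1, one_pow, one_mul] at h2
  rw [← Abelianization.ker_of, MonoidHom.mem_ker]
  exact h2

/-- **The order of the Weyl group part.** -/
theorem pow_dvd_im {s : ℕ} [hs : Fact s.Prime] (hs2 : s ≠ 2) (h : Emb hp r e κ τ θ) (hB : InvC D l d Bi) (hd : d ≠ 0)
    (hθ : ∀ x, θ x = ε • x) (hcm : ∀ a b, τ a = a → τ b = b → ∃ x, κ x = a * b * a⁻¹ * b⁻¹) {N : ℕ}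
    (hN : s ^ N ∣ Nat.card M.Group) : s ^ N ∣ Nat.card (im hp hk r κ (NG hp hk r κ)) := by
  have hWf : Finite M.Group := finite_W hp (M.toCoxeterSystem)
  have h1 : commutator M.Group ≤ im hp hk r κ (NG hp hk r κ) := by
    rw [commutator_def, Subgroup.commutator_le]
    intro v _ w _
    obtain ⟨a, ha, hτa⟩ := exists_fixed (hk := hk) h hB hd (v := v) (by rw [CT_eq_top hθ]; exact mem_top _)
    obtain ⟨b, hb, hτb⟩ := exists_fixed (hk := hk) h hB hd (v := w) (by rw [CT_eq_top hθ]; exact mem_top _)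
    obtain ⟨x, hx⟩ := hcm a b hτa hτb
    have h2 : RP hp hk r ⁅v, w⁆ (κ x) := by
      rw [hx, commutatorElement_def]
      exact ((ha.mul hb).mul ha.inv).mul hb.inv
    exact ⟨x, ⟨_, h2⟩, h2⟩
  obtain ⟨P⟩ := (inferInstance : Nonempty (Sylow s M.Group))
  have h2 : (P : Subgroup M.Group) ≤ im hp hk r κ (NG hp hk r κ) := by
    intro w hw
    obtain ⟨j, hj⟩ := P.isPGroup' ⟨w, hw⟩
    exact h1 (mem_commutator_of_odd M.toCoxeterSystem ((hs.out.odd_of_ne_two hs2).pow (n := j))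
      (congrArg Subtype.val hj))
  exact (P.pow_dvd_card_of_pow_dvd_card hN).trans (Subgroup.card_dvd_of_le h2)

theorem exists_zeta_pow {s a : ℕ} [hs : Fact s.Prime] (hsr : s ≠ r) : ∃ ζ : k, IsPrimitiveRoot ζ (s ^ a) := by
  have hdk : ((s ^ a : ℕ) : k) ≠ 0 := by
    rw [Ne, CharP.cast_eq_zero_iff k r]
    intro h
    exact hsr ((Nat.prime_dvd_prime_iff_eq Fact.out hs.out).1 ((Fact.out : r.Prime).dvd_of_dvd_pow h)).symm
  have : NeZero ((s ^ a : ℕ) : k) := ⟨hdk⟩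
  have : NeZero (s ^ a) := ⟨(pow_pos hs.out.pos a).ne'⟩
  exact HasEnoughRootsOfUnity.exists_primitiveRoot k (s ^ a)

theorem nf_sum (A : Fin l → Fin l → ℤ) (d' : Fin l → ℤ) (hsym : ∀ i j, d' i * A i j = d' j * A j i)
    (x y : Fin l → ℤ) : ∑ j, (d' j * y j) * pairing A j x = nf A d' x y := by
  show _ = PRankPar.Weyl.form A d' x y
  rw [PRankPar.Weyl.form_comm hsym]
  rfl

/-- **The row of the full case.** -/
theorem row_full [Finite G] {s : ℕ} [hs : Fact s.Prime] (hs2 : s ≠ 2) (hsr : s ≠ r) (h : Emb hp r e κ τ θ)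
    (hB : InvC D l d Bi) (hd : d ≠ 0)
    (hθ : ∀ x, θ x = ε • x) (hcm : ∀ a b, τ a = a → τ b = b → ∃ x, κ x = a * b * a⁻¹ * b⁻¹) {a c₀ N₂ : ℕ}
    (ha : 0 < a) (hq : ((s ^ a : ℕ) : ℤ) ∣ (r : ℤ) ^ e - ε) (hK : Nat.card (KA D l (s ^ a)) ∣ s ^ c₀)
    (hN₂ : s ^ N₂ ∣ Nat.card M.Group) (hord : ¬ s ^ (a * l - c₀ + N₂ + 1) ∣ Nat.card G)
    {d' : Fin l → ℤ} {i0 : Fin l} {dep : Fin l → ℕ} (S : SymD (cartanOf D l) d' i0 dep)
    {ι : Type*} {ee : ι → (Fin l → ℤ)} (hnorm : ∀ i, nf (cartanOf D l) d' (ee i) (ee i) = 2)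
    (hspan : AddSubgroup.closure (Set.range ee) = ⊤) (hds : ∀ i, ¬ (s : ℤ) ∣ 2 * d' i) :
    ∃ ζ : k, Row hp hk κ θ s r ζ (nf (cartanOf D l) d') ee (a * l - c₀) N₂ := by
  have hWf : Finite M.Group := finite_W hp (M.toCoxeterSystem)
  have : NeZero (s ^ a) := ⟨(pow_pos hs.out.pos a).ne'⟩
  obtain ⟨ζ, hζ⟩ := exists_zeta_pow (k := k) (r := r) (s := s) (a := a) hsr
  have hζ0 : ζ ≠ 0 := hζ.ne_zero (NeZero.ne _)
  have hcor := fun m => exists_cor (κ := κ) (hp := hp) hζ0 (fun j => exists_cor_simple h hB hd hθ hcm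
    hζ.pow_eq_one (NeZero.ne _) hq hk j) m
  have hsa : s ^ (a - 1) * s = s ^ a := by rw [← pow_succ]; congr 1; omega
  have hζs : IsPrimitiveRoot (ζ ^ s ^ (a - 1)) s :=
    hζ.pow (pow_pos hs.out.pos a) hsa.symm
  refine ⟨ζ ^ s ^ (a - 1), ?_, pow_dvd_im hs2 h hB hd hθ hcm hN₂, hord, ?_, hζs, ?_, ?_⟩
  · have h1 := pow_dvd_TG (κ := κ) (hp := hp) hζ hcor
    rw [← pow_mul] at h1
    have h2 : s ^ (a * l) ∣ s ^ c₀ * Nat.card (TG κ) := h1.trans (mul_dvd_mul_right hK _)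
    by_cases hle : c₀ ≤ a * l
    · have h3 : s ^ (a * l) = s ^ c₀ * s ^ (a * l - c₀) := by rw [← pow_add]; congr 1; omega
      rw [h3] at h2
      exact Nat.dvd_of_mul_dvd_mul_left (pow_pos hs.out.pos c₀) h2
    · have h3 : a * l - c₀ = 0 := by omega
      rw [h3, pow_zero]
      exact one_dvd _
  · refine ⟨isForm M.toCoxeterSystem hp.isCartan S, fun w _ => iso_act M.toCoxeterSystem hp.isCartan S w, hnorm, ?_⟩
    intro w _ hw
    apply ac_ext (hp := hp)
    intro x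
    rw [ac_one]
    have hx : x ∈ AddSubgroup.closure (Set.range ee) := by rw [hspan]; exact AddSubgroup.mem_top _
    induction hx using AddSubgroup.closure_induction with
    | mem y hy =>
      obtain ⟨i, rfl⟩ := hy
      exact sub_eq_zero.1 (eq_zero_of_rad M.toCoxeterSystem hp.isCartan S (hw i))
    | zero => exact map_zero _
    | add y z _ _ hy hz => rw [map_add, hy, hz]
    | neg y _ hy => rw [map_neg, hy]
  · intro y
    obtain ⟨u, hu, hux⟩ := hcor (fun j => d' j * y j)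
    have hch : ∀ x, cX hp (κ (u ^ s ^ (a - 1))) x = (ζ ^ s ^ (a - 1)) ^ (nf (cartanOf D l) d' x y) := by
      intro x
      rw [map_pow, cX_pow hp hu, hux, nf_sum _ _ S.sym, ← zpow_natCast, ← zpow_natCast, ← zpow_mul, ← zpow_mul,
        mul_comm]
    refine ⟨u ^ s ^ (a - 1), pow_mem hu _, ?_, hch⟩
    apply h.inj
    have hu2 : κ (u ^ s ^ (a - 1)) ∈ TT D k := by rw [map_pow]; exact pow_mem (show κ u ∈ TT D k from hu) _
    rw [map_pow κ (u ^ s ^ (a - 1)) s, map_one]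
    refine cX_inj hp (pow_mem hu2 s) (one_mem _) fun i => ?_
    rw [cX_pow hp hu2, hch, cX_one, ← zpow_natCast, ← zpow_mul, mul_comm,
      zpow_mul, zpow_natCast, hζs.pow_eq_one, one_zpow]
  · rintro _ ⟨w, i, rfl⟩ hdvd
    have h1 : nf (cartanOf D l) d' (rep M.toCoxeterSystem hp.isCartan w (sr i))
        (rep M.toCoxeterSystem hp.isCartan w (sr i)) = 2 * d' i := by
      have h2 := (iso_act M.toCoxeterSystem hp.isCartan S w).iso (sr i) (sr i)
      rw [act_apply] at h2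
      rw [h2]
      show PRankPar.Weyl.form (cartanOf D l) d' (sr i) (sr i) = _
      unfold PRankPar.Weyl.form
      rw [Finset.sum_eq_single i]
      · rw [sr_self, pairing_sr', hp.isCartan.diag]
        ring
      · intro j _ hj
        rw [sr_ne hj]
        ring
      · intro hi
        exact absurd (Finset.mem_univ i) hi
    rw [h1] at hdvd
    exact hds i hdvd

end Full

end Cfsg.Agent.H572.ExcD
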