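import Cfsg.Agent.H572.ExcRow
import Cfsg.Agent.H565.RowP1
import Cfsg.Agent.H574.ExcE8FiveB
import Cfsg.Agent.H169.NoMinE7

/-!
# The exceptional rows of S4350, without hypotheses

* `oddC_F4`, `oddC_E6`, `oddC_2E6`, `oddC_E7`, `oddC_E8`.
-/

set_option autoImplicit false

namespace Cfsg.Agent.H572.ExcFin

open Subgroup Cfsg Cfsg.Lie Cfsg.Agent.H553.OddHall Cfsg.Agent.H565.NM Cfsg.Agent.H572.ExcRow

universe u

variable {G : Type u} [Group G] [Finite G]

theorem oddC_F4 (h : Lie.IsoF4 G) : OddC G := oddC_isoF4 h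

theorem oddC_E6 (h : Lie.IsoChevE6 G) : OddC G :=
  oddC_isoE6 (fun F _ _ h3 hq t ht h3t => by
    have : Fact t.Prime := ⟨ht⟩
    exact Cfsg.Agent.H565.RowP1.pairN_E6 h3 hq (by omega) (by omega)) h

theorem oddC_2E6 (h : Lie.Iso2E6 G) : OddC G :=
  oddC_iso2E6 (fun F _ _ q h3 hq hF hq3 t ht h3t => by
    have : Fact t.Prime := ⟨ht⟩
    exact Cfsg.Agent.H565.RowP1.pairN_twE6 h3 hq hF hq3 (by omega) (by omega)) h

theorem oddC_E7 (h : Lie.IsoE7 G) : OddC G :=
  oddC_isoE7 (fun F _ _ h5 hq => by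
    refine pairN_of_noMin (by norm_num) (by norm_num) (by norm_num) (by norm_num) (by norm_num)
      (Cfsg.Agent.H169.NoMinE7.noMin_e7_five_seven F (by exact_mod_cast h5) fun h1 => ?_)
    rw [Nat.card_eq_fintype_card] at h1
    have h2 : 1 ≤ Fintype.card F ^ 2 := Nat.one_le_pow _ _ Fintype.card_pos
    omega) h

theorem oddC_E8 (h : Lie.IsoE8 G) : OddC G :=
  oddC_isoE8 (fun F _ _ _ hq t ht h5t => Cfsg.Agent.H574.ExcE8Five.pairN_E8_five hq ht (by
    by_contra hlt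
    have : t = 6 := by omega
    rw [this] at ht
    exact absurd ht (by norm_num))) h

end Cfsg.Agent.H572.ExcFin
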