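import Cfsg.Agent.H572.ExcF
import Cfsg.Agent.H565.PairExc

/-!
# The exceptional rows of S4350

* `oddC_isoF4`, `oddC_isoE6`, `oddC_iso2E6`, `oddC_isoE7`, `oddC_isoE8` : `OddC G`.
-/

set_option autoImplicit false

namespace Cfsg.Agent.H572.ExcRow

open Subgroup Cfsg Cfsg.Lie Cfsg.Agent.H553.OddHall Cfsg.Agent.H565.NM Cfsg.Agent.H572.ExcF

universe u

variable {G : Type u} [Group G] [Finite G]

/-- `OddC` for a group of Lie type from the pairs -/
theorem oddC_of_lie' {p : ℕ} (hp : p.Prime) (hG : IsLieTypeChar p G)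
    (h : ∀ s t : ℕ, s.Prime → t.Prime → s ≠ p → 2 < s → s < t → PairN t s G) : OddC G :=
  oddC_of_char p (fun π h2 hpπ H K hH hK => Cfsg.Agent.H565.OddBorel.conj_of_lie hp hG h2 hpπ hH hK)
    fun s t hs ht hsp _ h3 hst _ _ => h s t hs ht hsp h3 hst

theorem three_or_five_le {s : ℕ} (hs : s.Prime) (hs2 : 2 < s) : s = 3 ∨ 5 ≤ s := by
  by_contra h
  push Not at h
  have : s = 4 := by omega
  rw [this] at hs
  exact absurd hs (by norm_num)

theorem oddC_isoF4 (h : Lie.IsoF4 G) : OddC G := by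
  obtain ⟨F, iF, iFt, ⟨e⟩⟩ := h
  obtain ⟨p, hp'⟩ := CharP.exists F
  have hp : p.Prime := CharP.char_is_prime F p
  refine oddC_of_lie' hp (p := p) ?_ fun s t hs ht hsp hs2 hst => ?_
  · exact Or.inr <| Or.inr <| Or.inr <| Or.inr <| Or.inr <| Or.inr <| Or.inl ⟨F, iF, iFt, hp', Or.inr (Or.inl ⟨e⟩)⟩
  have hsF := cast_ne_zero_of_char (F := F) hp hs hsp
  refine PairN.of_equiv e.symm ?_
  rcases three_or_five_le hs hs2 with rfl | h5
  · exact f4_three (by exact_mod_cast hsF) ht (by omega) (by omega)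
  · exact pairN_of_noMin hs ht (by omega) (by omega) hst.ne (noMin_f4 (F := F) hsF hs2 hst h5)

theorem oddC_isoE6 (P1 : ∀ (F : Type) [Field F] [Fintype F], (3 : F) ≠ 0 → Fintype.card F % 3 = 2 → ∀ t, t.Prime →
    3 < t → PairN t 3 ↥(chevE6.group F)) (h : Lie.IsoChevE6 G) : OddC G := by
  obtain ⟨F, iF, iFt, ⟨e⟩⟩ := h
  obtain ⟨p, hp'⟩ := CharP.exists F
  have hp : p.Prime := CharP.char_is_prime F p
  refine oddC_of_lie' hp (p := p) ?_ fun s t hs ht hsp hs2 hst => ?_
  · exact Or.inr <| Or.inr <| Or.inr <| Or.inr <| Or.inr <| Or.inr <| Or.inl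
      ⟨F, iF, iFt, hp', Or.inr (Or.inr (Or.inl ⟨e⟩))⟩
  have hsF := cast_ne_zero_of_char (F := F) hp hs hsp
  refine PairN.of_equiv e.symm ?_
  rcases three_or_five_le hs hs2 with rfl | h5
  · have h3 : (3 : F) ≠ 0 := by exact_mod_cast hsF
    have h4 := three_cases h3
    by_cases h1 : Fintype.card F % 3 = 1
    · exact e6_three_one h3 h1 ht (by omega) (by omega)
    · exact P1 F h3 (by omega) t ht hst
  · exact pairN_of_noMin hs ht (by omega) (by omega) hst.ne (noMin_e6 (F := F) hsF hs2 hst h5)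

theorem oddC_iso2E6 (P1 : ∀ (F : Type) [Field F] [Fintype F] (q : ℕ), (3 : F) ≠ 0 → IsPrimePow q →
    Fintype.card F = q ^ 2 → q % 3 = 1 → ∀ t, t.Prime → 3 < t → PairN t 3 ↥(twistedE6 F q)) (h : Lie.Iso2E6 G) :
    OddC G := by
  obtain ⟨F, iF, iFt, q, hq, hF, ⟨e⟩⟩ := h
  obtain ⟨p, hp'⟩ := CharP.exists F
  have hp : p.Prime := CharP.char_is_prime F p
  have hfin : Finite ↥(twistedE6 F q) := inferInstance
  refine oddC_of_lie' hp (p := p) ?_ fun s t hs ht hsp hs2 hst => ?_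
  · exact Or.inr <| Or.inr <| Or.inr <| Or.inr <| Or.inr <| Or.inr <| Or.inr <| Or.inl
      ⟨F, iF, iFt, hp', q, hq, Or.inl ⟨hF, ⟨e⟩⟩⟩
  have hsF := cast_ne_zero_of_char (F := F) hp hs hsp
  refine PairN.of_equiv e.symm ?_
  rcases three_or_five_le hs hs2 with rfl | h5
  · have h3 : (3 : F) ≠ 0 := by exact_mod_cast hsF
    have h4 := three_cases h3
    have h0 : q % 3 ≠ 0 := by
      intro h0
      have h5 : 3 ∣ q := Nat.dvd_of_mod_eq_zero h0
      have h6 : 3 ∣ Fintype.card F := by rw [hF]; exact dvd_pow h5 two_ne_zero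
      omega
    by_cases h1 : q % 3 = 2
    · exact twE6_three_two h3 hq hF h1 ht (by omega) (by omega)
    · exact P1 F q h3 hq hF (by omega) t ht hst
  · exact pairN_of_noMin hs ht (by omega) (by omega) hst.ne (noMin_2E6 (K := F) hq hsF hs2 hst hF h5)

/-- `q ≡ ±1` modulo `5` or `5 ∣ q² + 1` -/
theorem five_cases {F : Type} [Field F] [Fintype F] (h5 : (5 : F) ≠ 0) :
    (5 : ℤ) ∣ (Fintype.card F : ℤ) - 1 ∨ (5 : ℤ) ∣ (Fintype.card F : ℤ) - (-1 : ℤ) ∨
    5 ∣ Fintype.card F ^ 2 + 1 := by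
  have h0 : ¬ 5 ∣ Fintype.card F := by
    intro h
    obtain ⟨p, n, hp, hpp, hc⟩ := FiniteField.card' F
    rw [hc] at h
    have h2 := Nat.prime_five.dvd_of_dvd_pow h
    have h3' := (Nat.prime_dvd_prime_iff_eq Nat.prime_five hpp).1 h2
    subst h3'
    exact h5 (by exact_mod_cast CharP.cast_eq_zero F 5)
  have h1 : Fintype.card F % 5 = 1 ∨ Fintype.card F % 5 = 4 ∨ Fintype.card F % 5 = 2 ∨ Fintype.card F % 5 = 3 := by
    omega
  rcases h1 with h1 | h1 | h1 | h1
  · left; omega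
  · right; left; omega
  · right; right
    rw [Nat.dvd_iff_mod_eq_zero, Nat.add_mod, Nat.pow_mod, h1]
  · right; right
    rw [Nat.dvd_iff_mod_eq_zero, Nat.add_mod, Nat.pow_mod, h1]

theorem oddC_isoE7 (P5 : ∀ (F : Type) [Field F] [Fintype F], (5 : F) ≠ 0 → 5 ∣ Fintype.card F ^ 2 + 1 →
    PairN 7 5 ↥(chevE7.group F)) (h : Lie.IsoE7 G) : OddC G := by
  obtain ⟨F, iF, iFt, ⟨e⟩⟩ := h
  obtain ⟨p, hp'⟩ := CharP.exists F
  have hp : p.Prime := CharP.char_is_prime F p
  refine oddC_of_lie' hp (p := p) ?_ fun s t hs ht hsp hs2 hst => ?_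
  · exact Or.inr <| Or.inr <| Or.inr <| Or.inr <| Or.inr <| Or.inr <| Or.inl
      ⟨F, iF, iFt, hp', Or.inr (Or.inr (Or.inr (Or.inl ⟨e⟩)))⟩
  have hsF := cast_ne_zero_of_char (F := F) hp hs hsp
  refine PairN.of_equiv e.symm ?_
  rcases three_or_five_le hs hs2 with rfl | h5
  · exact e7_three (by exact_mod_cast hsF) ht (by omega) (by omega)
  · by_cases ht7 : 7 < t
    · exact pairN_of_noMin hs ht (by omega) (by omega) hst.ne (noMin_e7 (F := F) hsF hs2 hst h5 ht7)
    · have hs5 : s = 5 := by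
        by_contra hne
        have : s = 6 := by omega
        rw [this] at hs
        exact absurd hs (by norm_num)
      subst hs5
      have ht7' : t = 7 := by
        by_contra hne
        have : t = 6 := by omega
        rw [this] at ht
        exact absurd ht (by norm_num)
      subst ht7'
      have h5' : (5 : F) ≠ 0 := by exact_mod_cast hsF
      rcases five_cases h5' with h1 | h1 | h1
      · exact e7_five h5' (Or.inl h1) ht (by norm_num) (by norm_num) (by norm_num)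
      · exact e7_five h5' (Or.inr h1) ht (by norm_num) (by norm_num) (by norm_num)
      · exact P5 F h5' h1

theorem oddC_isoE8 (P2 : ∀ (F : Type) [Field F] [Fintype F], (5 : F) ≠ 0 → 5 ∣ Fintype.card F ^ 2 + 1 →
    ∀ t, t.Prime → 5 < t → PairN t 5 ↥(chevE8.group F)) (h : Lie.IsoE8 G) : OddC G := by
  obtain ⟨F, iF, iFt, ⟨e⟩⟩ := h
  obtain ⟨p, hp'⟩ := CharP.exists F
  have hp : p.Prime := CharP.char_is_prime F p
  refine oddC_of_lie' hp (p := p) ?_ fun s t hs ht hsp hs2 hst => ?_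
  · exact Or.inr <| Or.inr <| Or.inr <| Or.inr <| Or.inr <| Or.inr <| Or.inl
      ⟨F, iF, iFt, hp', Or.inr (Or.inr (Or.inr (Or.inr ⟨e⟩)))⟩
  have hsF := cast_ne_zero_of_char (F := F) hp hs hsp
  refine PairN.of_equiv e.symm ?_
  rcases three_or_five_le hs hs2 with rfl | h5
  · exact e8_three (by exact_mod_cast hsF) ht (by omega) (by omega)
  · rcases h5.lt_or_eq with h5 | h5
    · exact pairN_of_noMin hs ht (by omega) (by omega) hst.ne (noMin_e8 (F := F) hsF hs2 hst h5)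
    · subst h5
      have h5' : (5 : F) ≠ 0 := by exact_mod_cast hsF
      rcases five_cases h5' with h1 | h1 | h1
      · exact e8_five h5' (Or.inl h1) ht (by omega) (by omega) (by omega)
      · exact e8_five h5' (Or.inr h1) ht (by omega) (by omega) (by omega)
      · exact P2 F h5' h1 t ht hst

end Cfsg.Agent.H572.ExcRow
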