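import Mathlib
import Cfsg.Agent.S1457
import Cfsg.Agent.Dichotomy.Constraint
import Cfsg.Agent.Lib.ProductSet

/-!
# Normal Sylow `t`-subgroups of groups of odd order `s^a t^b` (S4350, TEAM HALL)

`QCond A S` : the subgroups `A < L ≤ S` acting quadratically on `A` have `|L : A| < |A : C_A(L)|`.
`core` : `X` of odd order, the only primes dividing `|X|` are `s, t`, `A` abelian and normal in the Sylow `s`-subgroup `S`,
`QCond A S` and `t` does not divide `|N_X(A) : C_X(A)|`. Then a Sylow `t`-subgroup of `X` is normal.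
-/

set_option autoImplicit false

namespace Cfsg.Agent.H572.HallCore

open Subgroup Cfsg
open scoped Pointwise commutatorElement

variable {X : Type*} [Group X]

/-- the subgroups `A < L ≤ S` acting quadratically on `A`, with `L/A` abelian, have `|L : A| < |A : C_A(L)|` -/
def QCond (A S : Subgroup X) : Prop :=
  ∀ L : Subgroup X, A ≤ L → L ≤ S → (∀ u ∈ L, ∀ a ∈ A, ⁅⁅a, u⁆, u⁆ = 1) → (∀ u ∈ L, ∀ v ∈ L, ⁅u, v⁆ ∈ A) → L ≠ A →
    Nat.card L * Nat.card (A ⊓ centralizer (L : Set X) : Subgroup X) < Nat.card A * Nat.card A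

theorem conj_mem_of_norm {A : Subgroup X} {x a : X} (hx : x ∈ normalizer (A : Set X)) (ha : a ∈ A) : x * a * x⁻¹ ∈ A :=
  (mem_normalizer_iff.1 hx a).1 ha

theorem comm_mem_left {A : Subgroup X} {x a : X} (hx : x ∈ normalizer (A : Set X)) (ha : a ∈ A) : ⁅a, x⁆ ∈ A := by
  rw [commutatorElement_def, mul_assoc, mul_assoc]
  refine mul_mem ha ?_
  rw [← mul_assoc]
  exact conj_mem_of_norm hx (inv_mem ha)

theorem comm_mem_right {A : Subgroup X} {x a : X} (hx : x ∈ normalizer (A : Set X)) (ha : a ∈ A) : ⁅x, a⁆ ∈ A := by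
  rw [commutatorElement_def]
  exact mul_mem (conj_mem_of_norm hx ha) (inv_mem ha)

variable [Finite X]

/-- the key step: `n` normalises `B` with `A ≤ B ≤ S`, `S` normalises `A` -/
theorem normalizer_le_of_QCond {A B S : Subgroup X} (hAB : A ≤ B) (hBS : B ≤ S) (hA : ∀ a ∈ A, ∀ b ∈ A, a * b = b * a)
    (hSA : S ≤ normalizer (A : Set X)) (hQ : QCond A S) {n : X} (hn : n ∈ normalizer (B : Set X)) :
    n ∈ normalizer (A : Set X) := by
  set A' : Subgroup X := A.map (MulAut.conj n).toMonoidHom with hA'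
  have memA' : ∀ {y : X}, y ∈ A' ↔ n⁻¹ * y * n ∈ A := by
    intro y
    rw [hA', mem_map]
    constructor
    · rintro ⟨a, ha, rfl⟩
      simpa [MulAut.conj_apply, mul_assoc] using ha
    · intro h
      exact ⟨_, h, by simp [MulAut.conj_apply, mul_assoc]⟩
  have hA'B : A' ≤ B := by
    rintro _ ⟨a, ha, rfl⟩
    exact conj_mem_of_norm hn (hAB ha)
  have hn' : n⁻¹ ∈ normalizer (B : Set X) := inv_mem hn
  have hA'c : ∀ a ∈ A', ∀ b ∈ A', a * b = b * a := by
    intro a ha b hb
    have h := hA _ (memA'.1 ha) _ (memA'.1 hb)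
    have h2 : n * (n⁻¹ * a * n * (n⁻¹ * b * n)) * n⁻¹ = n * (n⁻¹ * b * n * (n⁻¹ * a * n)) * n⁻¹ := by rw [h]
    simpa [mul_assoc] using h2
  have hBA : B ≤ normalizer (A : Set X) := hBS.trans hSA
  have hBA' : B ≤ normalizer (A' : Set X) := by
    intro b hb
    rw [mem_normalizer_iff]
    intro y
    have h1 : n⁻¹ * b * n ∈ B := by
      have := conj_mem_of_norm hn' hb
      simpa using this
    have h2 := (mem_normalizer_iff.1 (hBA h1)) (n⁻¹ * y * n)
    rw [memA', memA']
    have h3 : n⁻¹ * b * n * (n⁻¹ * y * n) * (n⁻¹ * b * n)⁻¹ = n⁻¹ * (b * y * b⁻¹) * n := by group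
    rw [h3] at h2
    exact h2
  set L : Subgroup X := A' ⊔ A with hL
  have hcoe : (L : Set X) = (A' : Set X) * (A : Set X) :=
    coe_mul_of_left_le_normalizer_right A' A (hA'B.trans hBA)
  have hAL : A ≤ L := le_sup_right
  have hLB : L ≤ B := sup_le hA'B hAB
  have hcardA : Nat.card A' = Nat.card A := by
    rw [hA']
    exact Nat.card_congr ((A.equivMapOfInjective _ (MulAut.conj n).injective).symm.toEquiv)
  -- quadratic action
  have hquad : ∀ u ∈ L, ∀ a ∈ A, ⁅⁅a, u⁆, u⁆ = 1 := by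
    intro u hu a ha
    have hu' : u ∈ (A' : Set X) * (A : Set X) := by rw [← hcoe]; exact hu
    obtain ⟨x, hx, b, hb, rfl⟩ := Set.mem_mul.1 hu'
    have hxN : x ∈ normalizer (A : Set X) := hBA (hA'B hx)
    have haN : a ∈ normalizer (A' : Set X) := hBA' (hAB ha)
    -- `⁅a, x b⁆ = ⁅a, x⁆` as `b` commutes with everything in `A`
    have e1 : ⁅a, x * b⁆ = ⁅a, x⁆ := by
      rw [commutatorElement_def, commutatorElement_def]
      have h1 : b * a⁻¹ * b⁻¹ = a⁻¹ := by
        rw [hA b hb a⁻¹ (inv_mem ha), mul_assoc, mul_inv_cancel, mul_one]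
      calc a * (x * b) * a⁻¹ * (x * b)⁻¹ = a * x * (b * a⁻¹ * b⁻¹) * x⁻¹ := by group
        _ = a * x * a⁻¹ * x⁻¹ := by rw [h1]
    rw [e1]
    have hcA : ⁅a, x⁆ ∈ A := comm_mem_left hxN ha
    have hcA' : ⁅a, x⁆ ∈ A' := comm_mem_right haN hx
    rw [commutatorElement_eq_one_iff_mul_comm, ← mul_assoc, hA'c _ hcA' _ hx, mul_assoc, hA _ hcA _ hb, mul_assoc]
  have hab : ∀ u ∈ L, ∀ v ∈ L, ⁅u, v⁆ ∈ A := by
    intro u hu v hv
    have hu' : u ∈ (A' : Set X) * (A : Set X) := by rw [← hcoe]; exact hu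
    have hv' : v ∈ (A' : Set X) * (A : Set X) := by rw [← hcoe]; exact hv
    obtain ⟨x, hx, b, hb, rfl⟩ := Set.mem_mul.1 hu'
    obtain ⟨y, hy, c, hc, rfl⟩ := Set.mem_mul.1 hv'
    have hxN : x ∈ normalizer (A : Set X) := hBA (hA'B hx)
    have hyN : y ∈ normalizer (A : Set X) := hBA (hA'B hy)
    -- `(x b)(y c)(x b)⁻¹(y c)⁻¹`
    have h1 : y⁻¹ * b * y ∈ A := by
      have := conj_mem_of_norm (inv_mem hyN) hb; simpa using this
    have h2 : x * y * x⁻¹ * y⁻¹ = 1 := by
      rw [hA'c x hx y hy]; group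
    have h3 : x⁻¹ * c * x ∈ A := by
      have := conj_mem_of_norm (inv_mem hxN) hc; simpa using this
    have h4 : ⁅x * b, y * c⁆ = (x * y) * ((y⁻¹ * b * y) * c * b⁻¹ * (x⁻¹ * c * x)⁻¹) * (x * y)⁻¹ := by
      have h5 : (x * y)⁻¹ = (y * x)⁻¹ := by rw [hA'c x hx y hy]
      rw [h5, commutatorElement_def]
      group
    rw [h4]
    exact conj_mem_of_norm (mul_mem hxN hyN) (mul_mem (mul_mem (mul_mem h1 hc) (inv_mem hb)) (inv_mem h3))
  -- `A ⊓ A' ≤ A ⊓ C(L)`
  have hle : A' ⊓ A ≤ A ⊓ centralizer (L : Set X) := by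
    intro a ha
    refine mem_inf.2 ⟨ha.2, ?_⟩
    rw [mem_centralizer_iff]
    intro u hu
    have hu' : u ∈ (A' : Set X) * (A : Set X) := by rw [← hcoe]; exact hu
    obtain ⟨x, hx, b, hb, rfl⟩ := Set.mem_mul.1 hu'
    rw [mul_assoc, hA b hb a ha.2, ← mul_assoc, hA'c x hx a ha.1, mul_assoc]
  have hcard : Nat.card L * Nat.card (A' ⊓ A : Subgroup X) = Nat.card A * Nat.card A := by
    have h := Cfsg.Agent.Lib.ProductSet.card_mul_card_inf A' A
    rw [← hcoe, hcardA] at h
    exact h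
  have hLA : L = A := by
    by_contra hne
    have h1 := hQ L hAL (hLB.trans hBS) hquad hab hne
    have h2 : Nat.card (A' ⊓ A : Subgroup X) ≤ Nat.card (A ⊓ centralizer (L : Set X) : Subgroup X) :=
      card_le_of_le hle
    have h3 := Nat.mul_le_mul_left (Nat.card L) h2
    omega
  have hA'A : A' ≤ A := le_sup_left.trans hLA.le
  have hEq : A' = A := by
    apply eq_of_le_of_card_ge hA'A
    rw [hcardA]
  rw [mem_normalizer_iff]
  intro y
  constructor
  · intro hy
    rw [← hEq, memA']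
    have : n⁻¹ * (n * y * n⁻¹) * n = y := by group
    rw [this]; exact hy
  · intro hy
    rw [← hEq, memA'] at hy
    have : n⁻¹ * (n * y * n⁻¹) * n = y := by group
    rw [this] at hy; exact hy

/-- from `QCond`: `C_S(A) = A` -/
theorem centralizer_le_of_QCond {A S : Subgroup X} (hAS : A ≤ S) (hA : ∀ a ∈ A, ∀ b ∈ A, a * b = b * a)
    (hQ : QCond A S) : S ⊓ centralizer (A : Set X) ≤ A := by
  intro u hu
  set L : Subgroup X := zpowers u ⊔ A with hL
  have hcomm : ∀ z ∈ zpowers u, ∀ a ∈ A, z * a = a * z := by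
    intro z hz a ha
    obtain ⟨k, rfl⟩ := mem_zpowers_iff.1 hz
    have h1 : a * u = u * a := (mem_centralizer_iff.1 hu.2) a ha
    exact ((show Commute u a from h1.symm).zpow_left k).eq
  have hN : zpowers u ≤ normalizer (A : Set X) := by
    intro z hz
    rw [mem_normalizer_iff]
    intro y
    constructor
    · intro hy
      rw [hcomm z hz y hy, mul_inv_cancel_right]; exact hy
    · intro hy
      have h1 := hcomm z⁻¹ (inv_mem hz) _ hy
      have h2 : z⁻¹ * (z * y * z⁻¹) * z = y := by group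
      rw [← h2, h1, mul_assoc, inv_mul_cancel, mul_one]; exact hy
  have hcoe : (L : Set X) = (zpowers u : Set X) * (A : Set X) := coe_mul_of_left_le_normalizer_right _ _ hN
  have hLab : ∀ x ∈ L, ∀ y ∈ L, x * y = y * x := by
    intro x hx y hy
    have hx' : x ∈ (zpowers u : Set X) * (A : Set X) := by rw [← hcoe]; exact hx
    have hy' : y ∈ (zpowers u : Set X) * (A : Set X) := by rw [← hcoe]; exact hy
    obtain ⟨z, hz, a, ha, rfl⟩ := Set.mem_mul.1 hx'
    obtain ⟨w, hw, b, hb, rfl⟩ := Set.mem_mul.1 hy'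
    have hzw : z * w = w * z := by
      obtain ⟨k, rfl⟩ := mem_zpowers_iff.1 hz
      obtain ⟨l, rfl⟩ := mem_zpowers_iff.1 hw
      rw [← zpow_add, ← zpow_add, add_comm]
    calc z * a * (w * b) = z * (a * w) * b := by group
      _ = z * (w * a) * b := by rw [hcomm w hw a ha]
      _ = (z * w) * (a * b) := by group
      _ = (w * z) * (b * a) := by rw [hzw, hA a ha b hb]
      _ = w * (z * b) * a := by group
      _ = w * (b * z) * a := by rw [hcomm z hz b hb]
      _ = w * b * (z * a) := by group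
  have hAL : A ≤ L := le_sup_right
  have hLS : L ≤ S := sup_le (by rw [zpowers_le]; exact hu.1) hAS
  by_contra hne
  have hLA : L ≠ A := by
    intro h
    apply hne
    rw [← h]
    exact (le_sup_left : zpowers u ≤ L) (mem_zpowers u)
  have h1 := hQ L hAL hLS (fun v hv a ha => by
    have h2 : ⁅a, v⁆ = 1 := commutatorElement_eq_one_iff_mul_comm.2 (hLab a (hAL ha) v hv)
    rw [h2, commutatorElement_one_left]) (fun v hv w hw => by
    rw [commutatorElement_eq_one_iff_mul_comm.2 (hLab v hv w hw)]; exact one_mem _) hLA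
  have h2 : A ⊓ centralizer (L : Set X) = A := by
    rw [inf_eq_left]
    intro a ha
    rw [mem_centralizer_iff]
    exact fun v hv => hLab v hv a (hAL ha)
  rw [h2] at h1
  have h3 := card_le_of_le hAL
  have h4 : 0 < Nat.card A := Nat.card_pos
  exact absurd h1 (not_lt.2 (Nat.mul_le_mul_right _ h3))

/-- a group with a central Sylow `s`-subgroup `A` : the elements of order prime to `s` form a normal complement of `A` -/
theorem exists_compl {C : Type*} [Group C] [Finite C] {s : ℕ} [hs : Fact s.Prime] (P : Sylow s C)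
    (hP : (P : Subgroup C) ≤ center C) :
    ∃ D : Subgroup C, D.Normal ∧ (∀ x, x ∈ D ↔ ¬ s ∣ orderOf x) ∧ D.index = Nat.card P ∧ ¬ s ∣ Nat.card D := by
  have hN : normalizer ((P : Subgroup C) : Set C) ≤ centralizer ((P : Subgroup C) : Set C) := by
    intro x _
    rw [mem_centralizer_iff]
    intro y hy
    exact (mem_center_iff.1 (hP hy) x).symm
  set D : Subgroup C := (MonoidHom.transferSylow P hN).ker with hD
  have hDc := MonoidHom.ker_transferSylow_isComplement' P hN
  have hcard : ¬ s ∣ Nat.card D := MonoidHom.not_dvd_card_ker_transferSylow P hN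
  have hidx : D.index = Nat.card P := hDc.symm.index_eq_card
  refine ⟨D, inferInstance, fun x => ⟨fun hx h => ?_, fun hx => ?_⟩, hidx, hcard⟩
  · exact hcard (h.trans (by
      have := orderOf_dvd_natCard (⟨x, hx⟩ : D)
      rwa [Subgroup.orderOf_mk] at this))
  · rw [hD, MonoidHom.mem_ker]
    set y := MonoidHom.transferSylow P hN x with hy
    have h1 : orderOf y ∣ orderOf x := orderOf_map_dvd _ x
    obtain ⟨k, hk⟩ := (IsPGroup.iff_orderOf.1 P.isPGroup') y
    rw [← orderOf_eq_one_iff]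
    rcases Nat.eq_zero_or_pos k with rfl | hk0
    · simpa using hk
    · exact absurd ((dvd_pow_self s hk0.ne').trans (hk ▸ h1)) hx

/-- **The core theorem.** -/
theorem core [Group.IsSolvable X] (hodd : Odd (Nat.card X)) {s t : ℕ} [hs : Fact s.Prime] [ht : Fact t.Prime]
    (hst : s ≠ t) (hX : ∀ r, r.Prime → r ∣ Nat.card X → r = s ∨ r = t) (S : Sylow s X) {A : Subgroup X}
    (hAS : A ≤ S) (hA : ∀ a ∈ A, ∀ b ∈ A, a * b = b * a) (hSA : (S : Subgroup X) ≤ normalizer (A : Set X))
    (hQ : QCond A (S : Subgroup X))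
    (hW : ¬ t ∣ (centralizer (A : Set X)).relIndex (normalizer (A : Set X))) :
    ∃ T : Sylow t X, (T : Subgroup X).Normal := by
  have hAM : A ≤ pPrimePCore s X := S1457.result hodd s S A hAS
    (isMulCommutative_iff_of_setLike.2 fun x hx y hy => hA x hx y hy) hSA
  set O : Subgroup X := pPrimeCore s X with hO
  haveI hOn : O.Normal := Cfsg.Agent.Lib.HallHigman.pPrimeCore_normal s
  have hOc : (Nat.card O).Coprime s := Cfsg.Agent.Lib.HallHigman.pPrimeCore_coprime s
  have hprime : ∀ H : Subgroup X, ¬ s ∣ Nat.card H → IsPGroup t H := by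
    intro H hH
    rw [IsPGroup.iff_card]
    refine ⟨(Nat.card H).primeFactorsList.length, ?_⟩
    apply Nat.eq_prime_pow_of_unique_prime_dvd Nat.card_pos.ne'
    intro d hd hdH
    rcases hX d hd (hdH.trans (card_subgroup_dvd_card H)) with rfl | rfl
    · exact absurd hdH hH
    · rfl
  have hOt : IsPGroup t O := hprime O fun h => by
    have := Nat.dvd_gcd h (dvd_refl s)
    rw [hOc] at this
    exact hs.out.one_lt.ne' (Nat.dvd_one.1 this)
  set B : Subgroup X := (S : Subgroup X) ⊓ pPrimePCore s X with hB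
  have hAB : A ≤ B := le_inf hAS hAM
  have hfr : ∀ x : X, ∃ o ∈ O, ∃ n ∈ normalizer (A : Set X), x = o * n := by
    intro x
    obtain ⟨o, ho, n, hn, rfl⟩ := Dichotomy.Constraint.frattini S x
    exact ⟨o, ho, n, normalizer_le_of_QCond hAB inf_le_left hA hSA hQ hn, rfl⟩
  set N : Subgroup X := normalizer (A : Set X) with hN
  set C : Subgroup X := centralizer (A : Set X) with hC
  have hCN : C ≤ N := centralizer_le_normalizer _
  have hCnorm : ∀ n ∈ N, ∀ c ∈ C, n * c * n⁻¹ ∈ C := by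
    intro n hn c hc
    rw [hC, mem_centralizer_iff] at hc ⊢
    intro a ha
    have h1 : n⁻¹ * a * n ∈ A := by
      have := conj_mem_of_norm (inv_mem hn) ha; simpa using this
    have h2 := hc _ h1
    calc a * (n * c * n⁻¹) = n * ((n⁻¹ * a * n) * c) * n⁻¹ := by group
      _ = n * (c * (n⁻¹ * a * n)) * n⁻¹ := by rw [h2]
      _ = n * c * n⁻¹ * a := by group
  have hAC : A ≤ C := by
    intro a ha
    rw [hC, mem_centralizer_iff]
    exact fun b hb => hA b hb a ha
  -- `A` is a Sylow subgroup of `C`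
  have hSC : (S : Subgroup X) ⊓ C ≤ A := centralizer_le_of_QCond hAS hA hQ
  have hAidx : ¬ s ∣ A.relIndex C := by
    have h1 : A = (S : Subgroup X) ⊓ C := le_antisymm (le_inf hAS hAC) hSC
    have h2 : A.relIndex C = (S : Subgroup X).relIndex C := by
      rw [h1, inf_relIndex_right]
    rw [h2]
    -- `C` is normal in `N`, `S ≤ N`
    haveI : (C.subgroupOf N).Normal := by
      refine ⟨fun c hc n => ?_⟩
      rw [mem_subgroupOf] at hc ⊢
      exact hCnorm n n.2 c hc
    have h5 := Cfsg.Agent.Lib.SylowNormalInf.not_dvd_relIndex (S.subtype hSA) (C.subgroupOf N)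
    rwa [Sylow.coe_subtype, relIndex_subgroupOf hCN] at h5
  -- the normal complement of `A` in `C`
  have hPp : IsPGroup s (A.subgroupOf C) := (S.isPGroup'.to_le hAS).comap_of_injective C.subtype C.subtype_injective
  set P : Sylow s C := hPp.toSylow hAidx with hPdef
  have hPcoe : (P : Subgroup C) = A.subgroupOf C := rfl
  obtain ⟨D₀, hD₀n, hD₀m, hD₀i, hD₀c⟩ := exists_compl P (by
    rw [hPcoe]
    intro c hc
    rw [mem_center_iff]
    intro g
    rw [mem_subgroupOf] at hc
    have h1 : (g : X) ∈ centralizer (A : Set X) := g.2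
    rw [mem_centralizer_iff] at h1
    exact Subtype.ext (h1 c hc).symm)
  set D : Subgroup X := D₀.map C.subtype with hD
  have hDC : D ≤ C := by
    rintro _ ⟨d, -, rfl⟩; exact d.2
  have hDm : ∀ x, x ∈ D ↔ x ∈ C ∧ ¬ s ∣ orderOf x := by
    intro x
    constructor
    · rintro ⟨d, hd, rfl⟩
      refine ⟨d.2, ?_⟩
      have := (hD₀m d).1 hd
      rwa [← Subgroup.orderOf_coe] at this
    · rintro ⟨hx, hx2⟩
      refine ⟨⟨x, hx⟩, (hD₀m _).2 ?_, rfl⟩
      rwa [Subgroup.orderOf_mk]
  have hDnorm : ∀ n ∈ N, ∀ d ∈ D, n * d * n⁻¹ ∈ D := by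
    intro n hn d hd
    rw [hDm] at hd ⊢
    refine ⟨hCnorm n hn d hd.1, ?_⟩
    have : orderOf (n * d * n⁻¹) = orderOf d := orderOf_injective (MulAut.conj n).toMonoidHom (MulAut.conj n).injective d
    rw [this]; exact hd.2
  have hDcard : ¬ s ∣ Nat.card D := by
    rw [hD, Nat.card_congr (D₀.equivMapOfInjective C.subtype C.subtype_injective).symm.toEquiv]
    exact hD₀c
  have hDt : IsPGroup t D := hprime D hDcard
  -- the Sylow subgroup
  set T : Subgroup X := O ⊔ D with hT
  have hTt : IsPGroup t T := IsPGroup.to_sup_of_normal_left hOt hDt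
  have hTn : T.Normal := by
    refine ⟨fun y hy x => ?_⟩
    obtain ⟨o, ho, n, hn, rfl⟩ := hfr x
    have hn2 : n * y * n⁻¹ ∈ T := by
      rw [hT] at hy
      obtain ⟨o', ho', d, hd, rfl⟩ := mem_sup_of_normal_left.1 hy
      have h1 : n * (o' * d) * n⁻¹ = (n * o' * n⁻¹) * (n * d * n⁻¹) := by group
      rw [h1]
      exact mul_mem ((le_sup_left : O ≤ T) (hOn.conj_mem o' ho' n)) ((le_sup_right : D ≤ T) (hDnorm n hn d hd))
    have h2 : o * n * y * (o * n)⁻¹ = o * (n * y * n⁻¹) * o⁻¹ := by group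
    rw [h2]
    have ho2 : o ∈ T := (le_sup_left : O ≤ T) ho
    exact mul_mem (mul_mem ho2 hn2) (inv_mem ho2)
  have hidx : ¬ t ∣ T.index := by
    have hTN : T ⊔ N = ⊤ := by
      rw [eq_top_iff]
      intro x _
      obtain ⟨o, ho, n, hn, rfl⟩ := hfr x
      exact mul_mem ((le_sup_left : T ≤ T ⊔ N) ((le_sup_left : O ≤ T) ho)) ((le_sup_right : N ≤ T ⊔ N) hn)
    have h1 : T.index = T.relIndex N := by
      rw [← relIndex_top_right, ← hTN, relIndex_sup_left]
    rw [h1]
    intro h2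
    have h3 : t ∣ D.relIndex N := h2.trans (relIndex_dvd_of_le_left N le_sup_right)
    rw [← relIndex_mul_relIndex D C N hDC hCN] at h3
    rcases (Nat.Prime.dvd_mul ht.out).1 h3 with h4 | h4
    · -- `|C : D| = |A|`
      have h5 : D.relIndex C = Nat.card P := by
        rw [← hD₀i, hD]
        rw [relIndex, subgroupOf, comap_map_eq_self_of_injective C.subtype_injective]
      rw [h5] at h4
      obtain ⟨k, hk⟩ := (IsPGroup.iff_card.1 P.isPGroup')
      rw [hk] at h4
      exact hst ((Nat.prime_dvd_prime_iff_eq ht.out hs.out).1 (ht.out.dvd_of_dvd_pow h4)).symm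
    · exact hW h4
  exact ⟨hTt.toSylow hidx, hTn⟩

end Cfsg.Agent.H572.HallCore
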