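import Mathlib

/-!
# Isometries of even lattices acting quadratically modulo a prime (S4350)

`B` a symmetric positive semidefinite form on an abelian group `L`, `w` an isometry, `e i` vectors of norm `2`.

* `five` : `s ≥ 5` divides all `B ((w - 1)² x) y`: `w` fixes the `e i` modulo the radical;
* `dich` : `s = 3`: `w` fixes `e`, or `w² + w + 1` kills `e` modulo the radical; `dich_all` : the same for a connected family;
* `not_nine` : the second case does not occur if `9` divides all `B ((w - 1)² x) y`;
* `exists_beta` : in the second case some `B (w x - x) y` is not divisible by `3`;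
* `pair_case` : two commuting isometries generate a group of order three.
-/

set_option autoImplicit false

namespace Cfsg.Agent.H572.LatQ

variable {L : Type*} [AddCommGroup L]

/-- symmetric positive semidefinite integral forms -/
structure IsForm (B : L → L → ℤ) : Prop where
  add : ∀ x y z, B (x + y) z = B x z + B y z
  comm : ∀ x y, B x y = B y x
  nonneg : ∀ x, 0 ≤ B x x

/-- the radical -/
def Rad (B : L → L → ℤ) (x : L) : Prop := ∀ y, B x y = 0

variable {B : L → L → ℤ}

namespace IsForm

variable (h : IsForm B)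

include h

theorem add' (x y z : L) : B x (y + z) = B x y + B x z := by
  rw [h.comm, h.add, h.comm y, h.comm z]

theorem zero (y : L) : B 0 y = 0 := by
  have := h.add 0 0 y
  rw [add_zero] at this
  omega

theorem neg (x y : L) : B (-x) y = - B x y := by
  have := h.add x (-x) y
  rw [add_neg_cancel, h.zero] at this
  omega

theorem sub (x y z : L) : B (x - y) z = B x z - B y z := by
  rw [sub_eq_add_neg, h.add, h.neg]; ring

theorem neg' (x y : L) : B x (-y) = - B x y := by rw [h.comm, h.neg, h.comm y]

theorem sub' (x y z : L) : B x (y - z) = B x y - B x z := by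
  rw [h.comm, h.sub, h.comm y, h.comm z]

theorem rad_of_norm {x : L} (hx : B x x = 0) : Rad B x := by
  intro y
  have key : ∀ n : ℤ, 0 ≤ B y y + 2 * n * B x y := by
    have hz : ∀ n : ℕ, ∀ u v : L, B (n • u) v = n * B u v := by
      intro n u v
      induction n with
      | zero => rw [zero_smul, h.zero]; simp
      | succ n ih => rw [succ_nsmul, h.add, ih]; push_cast; ring
    have hz' : ∀ n : ℤ, ∀ u v : L, B (n • u) v = n * B u v := by
      intro n u v
      obtain ⟨n, rfl | rfl⟩ := n.eq_nat_or_neg
      · rw [natCast_zsmul, hz]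
      · rw [neg_smul, h.neg, natCast_zsmul, hz]; ring
    intro n
    have h1 := h.nonneg (y + n • x)
    rw [h.add, h.add', h.add', hz', hz', h.comm y (n • x), hz', h.comm x (n • x), hz', hx] at h1
    linarith
  have h1 := key (-(B y y + 1) * B x y)
  have h2 := h.nonneg y
  by_contra hne
  have h3 : 1 ≤ B x y * B x y := by
    rcases lt_or_gt_of_ne hne with h | h <;> nlinarith
  nlinarith

/-- two vectors of norm `2` -/
theorem le_two {x y : L} (hx : B x x = 2) (hy : B y y = 2) : B x y ≤ 2 := by
  have h1 := h.nonneg (x - y)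
  rw [h.sub, h.sub', h.sub', h.comm y x, hx, hy] at h1
  omega

theorem neg_two_le {x y : L} (hx : B x x = 2) (hy : B y y = 2) : -2 ≤ B x y := by
  have h1 := h.nonneg (x + y)
  rw [h.add, h.add', h.add', h.comm y x, hx, hy] at h1
  omega

theorem rad_of_two {x y : L} (hx : B x x = 2) (hy : B y y = 2) (hxy : B x y = 2) : Rad B (x - y) := by
  apply h.rad_of_norm
  rw [h.sub, h.sub', h.sub', h.comm y x, hx, hy, hxy]
  norm_num

end IsForm

/-- isometries -/
structure Iso (B : L → L → ℤ) (w : L →+ L) : Prop where
  iso : ∀ x y, B (w x) (w y) = B x y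

variable {w : L →+ L}

/-- `s` divides all `B ((w - 1)² x) y` -/
def Quad (B : L → L → ℤ) (s : ℤ) (w : L →+ L) : Prop := ∀ x y, s ∣ B (w (w x) - w x - (w x - x)) y

theorem quad_eq (h : IsForm B) {s : ℤ} (hq : Quad B s w) (x y : L) :
    s ∣ B (w (w x)) y - 2 * B (w x) y + B x y := by
  have := hq x y
  rw [h.sub, h.sub, h.sub] at this
  have e : B (w (w x)) y - B (w x) y - (B (w x) y - B x y) = B (w (w x)) y - 2 * B (w x) y + B x y := by ring
  rwa [e] at this

/-- `B (w e) e` is `2` modulo `s` -/
theorem mod_two (h : IsForm B) (hw : Iso B w) {s : ℤ} (hs : ¬ (2 : ℤ) ∣ s) (hsp : Prime s) (hq : Quad B s w) {e : L}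
    (he : B e e = 2) : s ∣ B (w e) e - 2 := by
  have h1 := quad_eq h hq e (w e)
  rw [hw.iso, hw.iso, he, h.comm e (w e)] at h1
  have h2 : s ∣ 2 * (B (w e) e - 2) := by
    have e1 : B (w e) e - 2 * 2 + B (w e) e = 2 * (B (w e) e - 2) := by ring
    rwa [e1] at h1
  rcases hsp.dvd_or_dvd h2 with h3 | h3
  · exfalso
    have h4 := (Int.prime_iff_natAbs_prime.1 hsp)
    have h5 : s.natAbs ∣ 2 := by
      have := Int.natAbs_dvd_natAbs.2 h3
      simpa using this
    have h6 := (Nat.prime_dvd_prime_iff_eq h4 Nat.prime_two).1 h5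
    apply hs
    rw [← Int.natAbs_dvd_natAbs, h6]
    norm_num
  · exact h3

/-- **`s ≥ 5`.** -/
theorem five (h : IsForm B) (hw : Iso B w) {s : ℕ} (hs : s.Prime) (hs5 : 5 ≤ s) (hq : Quad B s w) {e : L}
    (he : B e e = 2) : Rad B (w e - e) := by
  have h1 := mod_two h hw (s := (s : ℤ)) (by
    intro h2
    have h3 : 2 ∣ s := by exact_mod_cast h2
    have := (Nat.prime_dvd_prime_iff_eq Nat.prime_two hs).1 h3
    omega) (Nat.prime_iff_prime_int.1 hs) hq he
  have hwe : B (w e) (w e) = 2 := by rw [hw.iso, he]
  have h2 := h.le_two hwe he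
  have h3 := h.neg_two_le hwe he
  apply h.rad_of_two hwe he
  obtain ⟨c, hc⟩ := h1
  have hs5' : (5 : ℤ) ≤ s := by exact_mod_cast hs5
  have : c = 0 := by
    by_contra hc0
    rcases lt_or_gt_of_ne hc0 with h4 | h4 <;> nlinarith
  rw [this, mul_zero] at hc
  omega

theorem Rad.add (h : IsForm B) {x y : L} (hx : Rad B x) (hy : Rad B y) : Rad B (x + y) := fun z => by
  rw [h.add, hx, hy, add_zero]

theorem Rad.neg (h : IsForm B) {x : L} (hx : Rad B x) : Rad B (-x) := fun z => by rw [h.neg, hx, neg_zero]

theorem Rad.sub (h : IsForm B) {x y : L} (hx : Rad B x) (hy : Rad B y) : Rad B (x - y) := fun z => by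
  rw [h.sub, hx, hy, sub_zero]

theorem Rad.zero (h : IsForm B) : Rad B (0 : L) := fun z => h.zero z

theorem Rad.map (h : IsForm B) (hw : Iso B w) {x : L} (hx : Rad B x) : Rad B (w x) :=
  h.rad_of_norm (by rw [hw.iso]; exact hx x)

theorem Rad.iter (h : IsForm B) (hw : Iso B w) {x : L} (hx : Rad B x) (n : ℕ) : Rad B (w^[n] x) := by
  induction n with
  | zero => exact hx
  | succ n ih => rw [Function.iterate_succ_apply']; exact ih.map h hw

theorem iter_sub (n : ℕ) (x y : L) : w^[n] (x - y) = w^[n] x - w^[n] y := by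
  induction n with
  | zero => rfl
  | succ n ih => rw [Function.iterate_succ_apply', ih, map_sub, Function.iterate_succ_apply',
      Function.iterate_succ_apply']

/-- powers -/
theorem rad_pow (h : IsForm B) (hw : Iso B w) {x : L} {n : ℕ} (hx : Rad B (w^[n] x - x)) (m : ℕ) :
    Rad B (w^[n * m] x - x) := by
  induction m with
  | zero => rw [mul_zero, Function.iterate_zero_apply, sub_self]; exact Rad.zero h
  | succ m ih =>
    have e : w^[n * (m + 1)] x - x = w^[n] (w^[n * m] x - x) + (w^[n] x - x) := by
      rw [iter_sub, ← Function.iterate_add_apply, mul_add, mul_one, add_comm (n * m) n]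
      abel
    rw [e]
    exact (ih.iter h hw n).add h hx

/-- **`s = 3`, one vector.** -/
theorem dich (h : IsForm B) (hw : Iso B w) (hq : Quad B 3 w) {n : ℕ} (hn : Odd n)
    (hwn : ∀ x, Rad B (w^[n] x - x)) {e : L} (he : B e e = 2) :
    Rad B (w e - e) ∨ Rad B (w (w e) + w e + e) := by
  have h3p : Prime (3 : ℤ) := by norm_num
  have hwe : B (w e) (w e) = 2 := by rw [hw.iso, he]
  have hwwe : B (w (w e)) (w (w e)) = 2 := by rw [hw.iso, hwe]
  have h1 := mod_two h hw (s := 3) (by norm_num) h3p hq he
  have h2 := h.le_two hwe he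
  have h3 := h.neg_two_le hwe he
  have h4 : B (w e) e = 2 ∨ B (w e) e = -1 := by omega
  rcases h4 with h4 | h4
  · exact Or.inl (h.rad_of_two hwe he h4)
  right
  have h5 := quad_eq h hq e e
  rw [h4, he] at h5
  have h6 := h.le_two hwwe he
  have h7 := h.neg_two_le hwwe he
  have h8 : B (w (w e)) e = 2 ∨ B (w (w e)) e = -1 := by omega
  rcases h8 with h8 | h8
  · exfalso
    -- `w² e ≈ e`, hence `w e ≈ e`
    have h9 : Rad B (w^[2] e - e) := h.rad_of_two hwwe he h8
    obtain ⟨m, hm⟩ := hn
    have h10 := (rad_pow h hw h9 m).map h hw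
    have h11 := hwn e
    have e0 : w^[2 * m + 1] e = w (w^[2 * m] e) := Function.iterate_succ_apply' _ _ _
    rw [hm, e0] at h11
    have h12 : Rad B (w e - e) := by
      have e1 : w e - e = (w (w^[2 * m] e) - e) - w (w^[2 * m] e - e) := by rw [map_sub]; abel
      rw [e1]
      exact h11.sub h h10
    have h13 := h12 e
    rw [h.sub, h4, he] at h13
    omega
  · apply h.rad_of_norm
    have a1 : B (w (w e)) (w e) = -1 := by rw [hw.iso, h4]
    have a2 : B (w e) (w (w e)) = -1 := by rw [h.comm, a1]
    have a3 : B e (w e) = -1 := by rw [h.comm, h4]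
    have a4 : B e (w (w e)) = -1 := by rw [h.comm, h8]
    simp only [h.add, h.add', hwwe, hwe, he, a1, a2, a3, a4, h4, h8]
    norm_num

/-- orthogonality of the two kinds of vectors -/
theorem orth (h : IsForm B) (hw : Iso B w) {e f : L} (he : Rad B (w e - e)) (hf : Rad B (w (w f) + w f + f)) :
    B e f = 0 := by
  have a1 : ∀ y, B (w e) y = B e y := fun y => by
    have := he y; rw [h.sub] at this; omega
  have a2 : B e (w f) = B e f := by rw [← a1, hw.iso]
  have a3 : B e (w (w f)) = B e f := by rw [← a1, hw.iso, a2]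
  have a4 := hf e
  rw [h.comm, h.add', h.add', a3, a2] at a4
  omega

variable {ι : Type*} {e : ι → L}

/-- **`s = 3`, a connected family.** -/
theorem dich_all (h : IsForm B) (hw : Iso B w) (hq : Quad B 3 w) {n : ℕ} (hn : Odd n)
    (hwn : ∀ x, Rad B (w^[n] x - x)) (he : ∀ i, B (e i) (e i) = 2) (i0 : ι) (dep : ι → ℕ)
    (hdep : ∀ i, i = i0 ∨ ∃ j, dep j < dep i ∧ B (e i) (e j) ≠ 0) :
    (∀ i, Rad B (w (e i) - e i)) ∨ (∀ i, Rad B (w (w (e i)) + w (e i) + e i)) := by
  rcases dich h hw hq hn hwn (he i0) with h0 | h0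
  · left
    have key : ∀ (m : ℕ) (i : ι), dep i = m → Rad B (w (e i) - e i) := by
      intro m
      induction m using Nat.strong_induction_on with
      | _ m ih =>
        intro i hi
        rcases hdep i with rfl | ⟨j, h1, h2⟩
        · exact h0
        · rcases dich h hw hq hn hwn (he i) with h3 | h3
          · exact h3
          · exfalso
            apply h2
            rw [h.comm]
            exact orth h hw (ih _ (hi ▸ h1) j rfl) h3
    exact fun i => key _ i rfl
  · right
    have key : ∀ (m : ℕ) (i : ι), dep i = m → Rad B (w (w (e i)) + w (e i) + e i) := by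
      intro m
      induction m using Nat.strong_induction_on with
      | _ m ih =>
        intro i hi
        rcases hdep i with rfl | ⟨j, h1, h2⟩
        · exact h0
        · rcases dich h hw hq hn hwn (he i) with h3 | h3
          · exfalso
            apply h2
            exact orth h hw h3 (ih _ (hi ▸ h1) j rfl)
          · exact h3
    exact fun i => key _ i rfl

/-- the second case does not occur modulo `9` -/
theorem not_nine (h : IsForm B) (hw : Iso B w) (hq : Quad B 9 w) {e : L} (he : B e e = 2)
    (hr : Rad B (w (w e) + w e + e)) : False := by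
  have h1 := quad_eq h hq e (w e)
  have h2 := hr (w e)
  rw [h.add, h.add, hw.iso, hw.iso, he] at h2
  rw [hw.iso, hw.iso, he] at h1
  have h3 := h.comm e (w e)
  omega

/-- **the alternating form `B (w x - x) y` modulo `3` is not zero** -/
theorem exists_beta (h : IsForm B) (hw : Iso B w) (hr : ∀ x, Rad B (w (w x) + w x + x)) {a b c : L} (ha : B a a = 2)
    (hb : B b b = 2) (hc : B c c = 2) (hab : B a b = -1) (hbc : B b c = -1) (hac : B a c = 0) :
    ∃ x y, ¬ (3 : ℤ) ∣ B (w x - x) y := by
  by_contra hcon
  push Not at hcon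
  have hq' : ∀ x y, B (w (w x)) y + B (w x) y + B x y = 0 := fun x y => by
    have := hr x y
    rw [h.add, h.add] at this
    exact this
  have hw3 : ∀ x y, B (w (w (w x))) y = B x y := fun x y => by
    have h1 := hq' (w x) y
    have h2 := hq' x y
    omega
  -- adjacent vectors
  have step : ∀ u v : L, B u u = 2 → B v v = 2 → B u v = -1 →
      (∀ y, B v y = B (w u) y) ∨ (∀ y, B v y = B (w (w u)) y) := by
    intro u v hu hv huv
    have hwu : B (w u) (w u) = 2 := by rw [hw.iso, hu]
    have hwwu : B (w (w u)) (w (w u)) = 2 := by rw [hw.iso, hwu]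
    have h1 := hcon u v
    rw [h.sub, huv] at h1
    have h2 := h.le_two hwu hv
    have h3 := h.neg_two_le hwu hv
    have h4 := hq' u v
    rw [huv] at h4
    have h5 := h.le_two hwwu hv
    have h6 : B (w u) v = 2 ∨ B (w (w u)) v = 2 := by omega
    rcases h6 with h6 | h6
    · left
      intro y
      have := h.rad_of_two hwu hv h6 y
      rw [h.sub] at this
      omega
    · right
      intro y
      have := h.rad_of_two hwwu hv h6 y
      rw [h.sub] at this
      omega
  -- `w` respects the congruence
  have hmap : ∀ u v : L, (∀ y, B u y = B v y) → ∀ y, B (w u) y = B (w v) y := by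
    intro u v huv y
    have h1 : Rad B (u - v) := fun z => by rw [h.sub, huv, sub_self]
    have h2 := h1.map h hw y
    rw [map_sub, h.sub] at h2
    omega
  rcases step a b ha hb hab with h1 | h1 <;> rcases step b c hb hc hbc with h2 | h2
  · -- `b ≈ w a`, `c ≈ w² a`
    have h3 : ∀ y, B c y = B (w (w a)) y := fun y => by rw [h2, hmap _ _ h1]
    have h4 := hq' a a
    rw [← h3, ← h1, h.comm b a, h.comm c a, hab, hac, ha] at h4
    omega
  · have h3 : ∀ y, B c y = B a y := fun y => by rw [h2, hmap _ _ (hmap _ _ h1), hw3]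
    have h4 := h3 a
    rw [h.comm, hac, ha] at h4
    omega
  · have h3 : ∀ y, B c y = B a y := fun y => by rw [h2, hmap _ _ h1, hw3]
    have h4 := h3 a
    rw [h.comm, hac, ha] at h4
    omega
  · have h3 : ∀ y, B c y = B (w a) y := fun y => by
      rw [h2, hmap _ _ (hmap _ _ h1), hmap _ _ (hw3 a)]
    have h4 := hq' a a
    rw [← h3, ← h1, h.comm b a, h.comm c a, hab, hac, ha] at h4
    omega

/-- **rank one is impossible**: `B (w x - x) y` is alternating modulo `3` -/
theorem alt (h : IsForm B) (hw : Iso B w) (hr : ∀ x, Rad B (w (w x) + w x + x)) (x y : L) :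
    (3 : ℤ) ∣ B (w x - x) y + B (w y - y) x ∧ (3 : ℤ) ∣ 2 * B (w x - x) x := by
  have hq' : ∀ x y, B (w (w x)) y + B (w x) y + B x y = 0 := fun x y => by
    have := hr x y
    rw [h.add, h.add] at this
    exact this
  have hw3 : ∀ x y, B (w (w (w x))) y = B x y := fun x y => by
    have h1 := hq' (w x) y
    have h2 := hq' x y
    omega
  have h1 : ∀ x y, B (w y) x = B (w (w x)) y := fun x y => by
    rw [h.comm, ← hw3, hw.iso]
  constructor
  · rw [h.sub, h.sub, h1 x y, h.comm y x]
    have := hq' x y
    omega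
  · rw [h.sub]
    have h2 := hq' x x
    rw [← h1 x x] at h2
    omega

/-- in additive form: `B (w x - x) y ≡ f x * g y` modulo `3` is impossible if the form is not zero -/
theorem not_rank_one (h : IsForm B) (hw : Iso B w) (hr : ∀ x, Rad B (w (w x) + w x + x)) (f g : L → ℤ)
    (hfg : ∀ x y, (3 : ℤ) ∣ B (w x - x) y - f x * g y) (x y : L) : (3 : ℤ) ∣ B (w x - x) y := by
  have h1 := hfg x y
  have h2 := hfg y x
  have h3 := hfg x x
  have h4 := hfg y y
  obtain ⟨h5, h6⟩ := alt h hw hr x y
  obtain ⟨-, h7⟩ := alt h hw hr y x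
  have h3p : Prime (3 : ℤ) := by norm_num
  have h8 : (3 : ℤ) ∣ f x * g x := by
    have : (3 : ℤ) ∣ B (w x - x) x := by omega
    have := dvd_sub this h3
    simpa using this
  have h9 : (3 : ℤ) ∣ f x * g y ∨ (3 : ℤ) ∣ f y * g x := by
    rcases h3p.dvd_or_dvd h8 with h10 | h10
    · exact Or.inl (h10.mul_right _)
    · exact Or.inr (h10.mul_left _)
  rcases h9 with h9 | h9
  · have := dvd_add h1 h9
    simpa using this
  · have h10 : (3 : ℤ) ∣ B (w y - y) x := by
      have := dvd_add h2 h9
      simpa using this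
    have := dvd_sub h5 h10
    simpa using this

/-- **commuting isometries.** -/
theorem pair_case (h : IsForm B) {g k : L →+ L} (hg : Iso B g) (hk : Iso B k)
    (hc : ∀ x, g (k x) = k (g x)) (hrg : ∀ x, Rad B (g (g x) + g x + x)) (hrk : ∀ x, Rad B (k (k x) + k x + x))
    (hr1 : ∀ x, Rad B (g (k (g (k x))) + g (k x) + x)) (hr2 : ∀ x, Rad B (g (k (k (g (k (k x))))) + g (k (k x)) + x))
    {a : L} (ha : B a a = 2) : False := by
  have e1 : ∀ x y, B (g (g x)) y + B (g x) y + B x y = 0 := fun x y => by
    have := hrg x y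
    rw [h.add, h.add] at this
    exact this
  have e2 : ∀ x y, B (k (k x)) y + B (k x) y + B x y = 0 := fun x y => by
    have := hrk x y
    rw [h.add, h.add] at this
    exact this
  have e3 := hr1 a a
  have e4 := hr2 a a
  rw [h.add, h.add] at e3 e4
  have k3 : ∀ x y, B (k (k (k x))) y = B x y := fun x y => by
    have h1 := e2 (k x) y
    have h2 := e2 x y
    omega
  simp only [← hc] at e3 e4
  have k3' : Rad B (k (k (k (k a))) - k a) := fun y => by rw [h.sub, k3, sub_self]
  have e6 : B (g (g (k (k (k (k a)))))) a = B (g (g (k a))) a := by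
    have h1 := (k3'.map h hg).map h hg a
    rw [map_sub, map_sub, h.sub] at h1
    omega
  have e7 := e1 a a
  have e8 := e1 (k a) a
  have e9 := e1 (k (k a)) a
  have e10 := e2 a a
  rw [e6] at e4
  omega

end Cfsg.Agent.H572.LatQ
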