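import Mathlib

set_option autoImplicit false

namespace Cfsg.Agent.H572.SymSylow

open Equiv Equiv.Perm

/-- Uniqueness of the Sylow subgroup containing an element passes along a homomorphism whose kernel is a `p`-group. -/
theorem sylow_eq_of_hom {H K : Type*} [Group H] [Group K] {p : ℕ} (f : H →* K)
    (hf : IsPGroup p f.ker) {x : H}
    (hu : ∀ R R' : Sylow p K, f x ∈ R → f x ∈ R' → R = R')
    (P Q : Sylow p H) (hP : x ∈ P) (hQ : x ∈ Q) : P = Q := by
  have key : ∀ P : Sylow p H, x ∈ P → ∃ R : Sylow p K, f x ∈ R ∧ (P : Subgroup H) = (R : Subgroup K).comap f := by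
    intro P hP
    obtain ⟨R, hR⟩ := (P.isPGroup'.map f).exists_le_sylow
    refine ⟨R, hR ⟨x, hP, rfl⟩, ?_⟩
    have h1 : IsPGroup p ((R : Subgroup K).comap f) := R.isPGroup'.comap_of_ker_isPGroup f hf
    exact (P.is_maximal' h1 (Subgroup.map_le_iff_le_comap.1 hR)).symm
  obtain ⟨R, hR, hPR⟩ := key P hP
  obtain ⟨R', hR', hQR⟩ := key Q hQ
  have := hu R R' hR hR'
  subst this
  exact Sylow.ext (hPR.trans hQR.symm)

/-- If two Sylow `p`-subgroups `P`, `Q` of `G` containing `x` lie in the subgroup `H`, and `x` lies in at most one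
Sylow `p`-subgroup of `H`, then `P = Q`. -/
theorem sylow_eq_of_le {G : Type*} [Group G] {p : ℕ} (H : Subgroup G) {x : G} (hx : x ∈ H)
    (hu : ∀ R R' : Sylow p H, (⟨x, hx⟩ : H) ∈ R → (⟨x, hx⟩ : H) ∈ R' → R = R')
    (P Q : Sylow p G) (hP : x ∈ P) (hQ : x ∈ Q) (hPH : (P : Subgroup G) ≤ H) (hQH : (Q : Subgroup G) ≤ H) :
    P = Q := by
  have h1 := hu (P.subtype hPH) (Q.subtype hQH) hP hQ
  exact Sylow.subtype_injective h1

/-- In a `p`-group... an element of order prime to `p` is trivial (version for cubes and `p = 2`). -/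
theorem eq_one_of_cube {G : Type*} [Group G] {Q : Subgroup G} (hQ : IsPGroup 2 Q) {g : G} (hg : g ∈ Q)
    (h3 : g ^ 3 = 1) : g = 1 := by
  obtain ⟨k, hk⟩ := hQ ⟨g, hg⟩
  have hk' : g ^ 2 ^ k = 1 := by simpa using congrArg Subtype.val hk
  have h1 : orderOf g ∣ 3 := orderOf_dvd_of_pow_eq_one h3
  have h2 : orderOf g ∣ 2 ^ k := orderOf_dvd_of_pow_eq_one hk'
  have h4 : Nat.Coprime 3 (2 ^ k) := Nat.Coprime.pow_right k (by decide)
  have : orderOf g = 1 := Nat.eq_one_of_dvd_coprimes h4 h1 h2
  exact orderOf_eq_one_iff.1 this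

section orbits

variable {α : Type*} (z : Perm α)

/-- The relation `j = i` or `j = z i`. -/
def invSetoid (hz : ∀ i, z (z i) = i) : Setoid α where
  r i j := j = i ∨ j = z i
  iseqv :=
    { refl := fun i => Or.inl rfl
      symm := by
        rintro i j (rfl | rfl)
        · exact Or.inl rfl
        · exact Or.inr (hz _).symm
      trans := by
        rintro i j k (rfl | rfl) (rfl | rfl)
        · exact Or.inl rfl
        · exact Or.inr rfl
        · exact Or.inr rfl
        · exact Or.inl (hz _) }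

/-- The orbits of the involution `z`. -/
abbrev Orb (hz : ∀ i, z (z i) = i) : Type _ := Quotient (invSetoid z hz)

theorem mk_eq_iff (hz : ∀ i, z (z i) = i) {i j : α} :
    (Quotient.mk (invSetoid z hz) i = Quotient.mk (invSetoid z hz) j) ↔ (j = i ∨ j = z i) :=
  Quotient.eq (r := invSetoid z hz)

/-- The action of the centralizer of `z` on the orbits of `z`. -/
def orbHom (hz : ∀ i, z (z i) = i) : Subgroup.centralizer ({z} : Set (Perm α)) →* Perm (Orb z hz) where
  toFun g := Quotient.congr (g : Perm α) (by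
    have hg : ∀ i, (g : Perm α) (z i) = z ((g : Perm α) i) := fun i => by
      have := Subgroup.mem_centralizer_singleton_iff.1 g.2
      exact Equiv.congr_fun this i
    intro a b
    change (b = a ∨ b = z a) ↔ ((g : Perm α) b = (g : Perm α) a ∨ (g : Perm α) b = z ((g : Perm α) a))
    rw [← hg, (g : Perm α).injective.eq_iff, (g : Perm α).injective.eq_iff])
  map_one' := by
    ext q
    induction q using Quotient.inductionOn with
    | h i => rfl
  map_mul' g h := by
    ext q
    induction q using Quotient.inductionOn with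
    | h i => rfl

theorem orbHom_mk (hz : ∀ i, z (z i) = i) (g : Subgroup.centralizer ({z} : Set (Perm α))) (i : α) :
    orbHom z hz g (Quotient.mk (invSetoid z hz) i) = Quotient.mk (invSetoid z hz) ((g : Perm α) i) := rfl

theorem orbHom_pow_mk (hz : ∀ i, z (z i) = i) (g : Subgroup.centralizer ({z} : Set (Perm α))) (m : ℕ) (i : α) :
    (orbHom z hz g ^ m) (Quotient.mk (invSetoid z hz) i) = Quotient.mk (invSetoid z hz) (((g : Perm α) ^ m) i) := by
  rw [← map_pow, orbHom_mk]
  rfl

theorem ker_orbHom (hz : ∀ i, z (z i) = i) : IsPGroup 2 (orbHom z hz).ker := by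
  rintro ⟨g, hg⟩
  refine ⟨1, ?_⟩
  apply Subtype.ext
  apply Subtype.ext
  ext i
  have hc : ∀ i, (g : Perm α) (z i) = z ((g : Perm α) i) := fun i => by
    have := Subgroup.mem_centralizer_singleton_iff.1 g.2
    exact Equiv.congr_fun this i
  have h1 : orbHom z hz g (Quotient.mk (invSetoid z hz) i) = Quotient.mk (invSetoid z hz) i := by
    rw [MonoidHom.mem_ker.1 hg]; rfl
  rw [orbHom_mk, mk_eq_iff] at h1
  change ((g : Perm α) ^ (2 ^ 1)) i = i
  rw [pow_one, pow_two, Perm.mul_apply]
  rcases h1 with h1 | h1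
  · rw [← h1, ← h1]
  · have h2 : (g : Perm α) i = z i := by
      have h3 : z i = z (z ((g : Perm α) i)) := congrArg z h1
      rw [hz] at h3
      exact h3.symm
    rw [h2, hc, h2, hz]

end orbits

end Cfsg.Agent.H572.SymSylow
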