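import Cfsg.Agent.H572.SymSylow

set_option autoImplicit false

namespace Cfsg.Agent.H572.SymSylow

open Equiv Equiv.Perm Nat

theorem odd_dfac (k : ℕ) : Odd ((2 * k + 1)‼) := by
  induction k with
  | zero => decide
  | succ k ih =>
    rw [show 2 * (k + 1) + 1 = (2 * k + 1) + 2 by ring, Nat.doubleFactorial_add_two]
    exact Odd.mul (by rw [Nat.odd_iff]; lia) ih

theorem factorial_eq (n : ℕ) : ∃ a : ℕ, Odd a ∧ n ! = a * (2 ^ (n / 2) * (n / 2)!) := by
  rcases Nat.even_or_odd' n with ⟨k, rfl | rfl⟩
  · rw [Nat.mul_div_cancel_left k (by norm_num)]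
    rcases k with _ | k
    · exact ⟨1, by decide, by simp⟩
    · refine ⟨(2 * k + 1)‼, odd_dfac k, ?_⟩
      have h1 := Nat.factorial_eq_mul_doubleFactorial (2 * k + 1)
      rw [show 2 * k + 1 + 1 = 2 * (k + 1) by ring, Nat.doubleFactorial_two_mul] at h1
      rw [h1]
      ring
  · rw [show (2 * k + 1) / 2 = k by lia]
    refine ⟨(2 * k + 1)‼, odd_dfac k, ?_⟩
    rw [Nat.factorial_eq_mul_doubleFactorial (2 * k), Nat.doubleFactorial_two_mul]

theorem exists_inv {α : Type*} [Fintype α] [DecidableEq α] (P : Subgroup (Perm α)) (hP : IsPGroup 2 P) :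
    ∃ z : Perm α, (∀ i, z (z i) = i) ∧ (∀ i j, z i = i → z j = j → i = j) ∧
      P ≤ Subgroup.centralizer ({z} : Set (Perm α)) := by
  classical
  set n := Fintype.card α with hn
  set m : Multiset ℕ := Multiset.replicate (n / 2) 2 with hm
  have hsum : m.sum = n / 2 * 2 := by rw [hm, Multiset.sum_replicate, smul_eq_mul]
  have hle : m.sum ≤ n ∧ ∀ a ∈ m, 2 ≤ a := by
    refine ⟨by rw [hsum]; exact Nat.div_mul_le_self n 2, ?_⟩
    intro a ha
    exact (Multiset.eq_of_mem_replicate ha).ge
  have hcard := Equiv.Perm.card_of_cycleType_mul_eq α m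
  rw [if_pos hle] at hcard
  have hodd : ¬ 2 ∣ Nat.card {g : Perm α // g.cycleType = m} := by
    rw [Nat.card_eq_fintype_card, Fintype.card_subtype]
    intro h2
    obtain ⟨a, ha, hfa⟩ := factorial_eq n
    have h1 : (n - m.sum)! = 1 := by
      rw [hsum]
      have : n - n / 2 * 2 = 0 ∨ n - n / 2 * 2 = 1 := by omega
      rcases this with h | h <;> rw [h] <;> rfl
    have h3 : m.prod = 2 ^ (n / 2) := by rw [hm, Multiset.prod_replicate]
    have h4 : (∏ c ∈ m.toFinset, (m.count c)!) = (n / 2)! := by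
      rcases Nat.eq_zero_or_pos (n / 2) with h0 | h0
      · have : m = 0 := by rw [hm, h0, Multiset.replicate_zero]
        rw [this, h0]; rfl
      · have : m.toFinset = {2} := by rw [hm, Multiset.toFinset_replicate, if_neg h0.ne']
        rw [this, Finset.prod_singleton, hm, Multiset.count_replicate_self]
    rw [← hn, h1, h3, h4, one_mul, hfa] at hcard
    have h5 : Finset.card (Finset.filter (fun g : Perm α => g.cycleType = m) Finset.univ) = a := by
      have hpos : 0 < 2 ^ (n / 2) * (n / 2)! := by positivity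
      exact Nat.eq_of_mul_eq_mul_right hpos hcard
    rw [h5] at h2
    exact (Nat.not_even_iff_odd.2 ha) (even_iff_two_dvd.2 h2)
  let act : MulAction P {g : Perm α // g.cycleType = m} :=
    { smul := fun g c => ⟨(g : Perm α) * c.1 * (g : Perm α)⁻¹, by rw [cycleType_conj]; exact c.2⟩
      one_smul := fun c => Subtype.ext (by
        change ((1 : P) : Perm α) * c.1 * ((1 : P) : Perm α)⁻¹ = c.1
        simp)
      mul_smul := fun g h c => Subtype.ext (by
        change ((g * h : P) : Perm α) * c.1 * ((g * h : P) : Perm α)⁻¹ =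
          (g : Perm α) * ((h : Perm α) * c.1 * (h : Perm α)⁻¹) * (g : Perm α)⁻¹
        rw [Subgroup.coe_mul, mul_inv_rev]
        group) }
  obtain ⟨⟨z, hz⟩, hfix⟩ := hP.nonempty_fixed_point_of_prime_not_dvd_card
    {g : Perm α // g.cycleType = m} hodd
  refine ⟨z, ?_, ?_, ?_⟩
  · have h2 : z ^ 2 = 1 := by
      have : Fact (Nat.Prime 2) := ⟨Nat.prime_two⟩
      rw [Equiv.Perm.pow_prime_eq_one_iff]
      intro c hc
      rw [hz] at hc
      exact Multiset.eq_of_mem_replicate hc
    intro i
    have := Equiv.congr_fun h2 i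
    rwa [pow_two, Perm.mul_apply] at this
  · intro i j hi hj
    by_contra hij
    have h1 : z.support.card = n / 2 * 2 := by rw [← sum_cycleType, hz, hsum]
    have h2 : ({i, j} : Finset α) ⊆ z.supportᶜ := by
      intro k hk
      rw [Finset.mem_compl, Perm.notMem_support]
      rcases Finset.mem_insert.1 hk with rfl | hk
      · exact hi
      · rw [Finset.mem_singleton.1 hk]; exact hj
    have h3 := Finset.card_le_card h2
    rw [Finset.card_pair hij, Finset.card_compl, h1, ← hn] at h3
    omega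
  · intro g hg
    rw [Subgroup.mem_centralizer_singleton_iff]
    have h1 := congrArg Subtype.val (hfix ⟨g, hg⟩)
    change g * z * g⁻¹ = z at h1
    exact mul_inv_eq_iff_eq_mul.1 h1

end Cfsg.Agent.H572.SymSylow
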