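import Cfsg.Agent.H572.SymSylowB

set_option autoImplicit false

namespace Cfsg.Agent.H572.SymSylow

open Equiv Equiv.Perm

/-- Distinct nontrivial orbits of `x` have distinct lengths (stated with stabilizers of points in the powers of `x`). -/
def DD {α : Type*} (x : Perm α) : Prop :=
  ∀ i j, x i ≠ i → (∀ m : ℕ, (x ^ m) i = i ↔ (x ^ m) j = j) → ∃ k : ℕ, (x ^ k) i = j

/-- `x` has at most two fixed points. -/
def FF {α : Type*} (x : Perm α) : Prop :=
  ∀ i j k, x i = i → x j = j → x k = k → i = j ∨ j = k ∨ i = k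

section

variable {α : Type*} {x z : Perm α}

theorem pow_apply_comm (hc : ∀ i, x (z i) = z (x i)) (m : ℕ) (i : α) : (x ^ m) (z i) = z ((x ^ m) i) := by
  induction m generalizing i with
  | zero => rfl
  | succ m ih => rw [pow_succ, Perm.mul_apply, Perm.mul_apply, hc, ih]

theorem ne_of_ne (hz1 : ∀ i j, z i = i → z j = j → i = j) (hc : ∀ i, x (z i) = z (x i)) {i : α}
    (hi : x i ≠ i) : z i ≠ i := by
  intro h
  apply hi
  apply hz1 _ _ _ h
  rw [← hc, h]

theorem exists_pow (hc : ∀ i, x (z i) = z (x i)) (hD : DD x) {i : α} (hi : x i ≠ i) :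
    ∃ k : ℕ, (x ^ k) i = z i := by
  apply hD i (z i) hi
  intro m
  rw [pow_apply_comm hc, z.injective.eq_iff]

theorem dvd_add_of {n m k : ℕ} (h1 : n ∣ 2 * m) (h2 : n ∣ 2 * k) (h3 : ¬ n ∣ m) (h4 : ¬ n ∣ k) : n ∣ m + k := by
  obtain ⟨a, ha⟩ := h1
  obtain ⟨b, hb⟩ := h2
  rcases Nat.even_or_odd' a with ⟨a', rfl | rfl⟩
  · exfalso; apply h3
    exact ⟨a', by nlinarith⟩
  rcases Nat.even_or_odd' b with ⟨b', rfl | rfl⟩
  · exfalso; apply h4
    exact ⟨b', by nlinarith⟩
  exact ⟨a' + b' + 1, by nlinarith⟩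

theorem pow_apply_iff (x : Perm α) (m : ℕ) (i : α) : (x ^ m) i = i ↔ Function.minimalPeriod x i ∣ m := by
  rw [← Function.isPeriodicPt_iff_minimalPeriod_dvd, Function.IsPeriodicPt, Function.IsFixedPt, Perm.iterate_eq_pow]

theorem half (hz : ∀ i, z (z i) = i) (hz1 : ∀ i j, z i = i → z j = j → i = j) (hc : ∀ i, x (z i) = z (x i))
    (hD : DD x) {i : α} (hi : x i ≠ i) {m : ℕ} (hm : (x ^ (2 * m)) i = i) :
    (x ^ m) i = i ∨ (x ^ m) i = z i := by
  obtain ⟨k, hk⟩ := exists_pow hc hD hi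
  have hzi := ne_of_ne hz1 hc hi
  have h1 : (x ^ (2 * k)) i = i := by
    rw [two_mul, pow_add, Perm.mul_apply, hk, pow_apply_comm hc, hk, hz]
  have h2 : (x ^ k) i ≠ i := by rw [hk]; exact hzi
  by_cases h3 : (x ^ m) i = i
  · exact Or.inl h3
  right
  have h4 := (pow_apply_iff x (m + k) i).2 (dvd_add_of ((pow_apply_iff x _ i).1 hm) ((pow_apply_iff x _ i).1 h1)
    (fun h => h3 ((pow_apply_iff x _ i).2 h)) (fun h => h2 ((pow_apply_iff x _ i).2 h)))
  rw [pow_add, Perm.mul_apply, hk, pow_apply_comm hc] at h4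
  calc (x ^ m) i = z (z ((x ^ m) i)) := (hz _).symm
    _ = z i := by rw [h4]

/-- The involution with at most one fixed point commuting with `x` is unique. -/
theorem unique_inv {z' : Perm α} (hz : ∀ i, z (z i) = i) (hz1 : ∀ i j, z i = i → z j = j → i = j)
    (hc : ∀ i, x (z i) = z (x i)) (hz' : ∀ i, z' (z' i) = i) (hz1' : ∀ i j, z' i = i → z' j = j → i = j)
    (hc' : ∀ i, x (z' i) = z' (x i)) (hD : DD x) (hF : FF x) : z = z' := by
  ext i
  by_cases hi : x i = i
  · have h1 : x (z i) = z i := by rw [hc, hi]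
    have h2 : x (z' i) = z' i := by rw [hc', hi]
    rcases hF i (z i) (z' i) hi h1 h2 with h | h | h
    · rcases hF i (z' i) (z (z' i)) hi h2 (by rw [hc, h2]) with h' | h' | h'
      · rw [← h, ← h']
      · have := hz1 i (z' i) h.symm h'.symm
        rw [← h, ← this]
      · calc z i = z (z (z' i)) := by rw [← h']
          _ = z' i := hz _
    · exact h
    · rcases hF i (z i) (z' (z i)) hi h1 (by rw [hc', h1]) with h' | h' | h'
      · rw [← h, ← h']
      · have := hz1' i (z i) h.symm h'.symm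
        rw [← h, ← this]
      · calc z i = z' (z' (z i)) := (hz' _).symm
          _ = z' i := by rw [← h']
  · obtain ⟨k, hk⟩ := exists_pow hc' hD hi
    have h1 : (x ^ (2 * k)) i = i := by
      rw [two_mul, pow_add, Perm.mul_apply, hk, pow_apply_comm hc', hk, hz']
    rcases half hz hz1 hc hD hi h1 with h | h
    · exfalso
      rw [hk] at h
      exact ne_of_ne hz1' hc' hi h
    · rw [← h, hk]

theorem odd_pow {k : ℕ} (hx : x ^ 2 ^ k = 1) {m : ℕ} (hm : Odd m) {i : α} (h : (x ^ m) i = i) : x i = i := by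
  have h1 : (x ^ 2 ^ k) i = i := by rw [hx]; rfl
  rw [pow_apply_iff] at h1 h
  have h2 : Nat.Coprime (2 ^ k) m := (Nat.coprime_two_left.2 hm).pow_left k
  have h3 : Function.minimalPeriod x i = 1 := Nat.eq_one_of_dvd_coprimes h2 h1 h
  have := (pow_apply_iff x 1 i).2 (by rw [h3])
  simpa using this

theorem descend_D (hz : ∀ i, z (z i) = i) (hz1 : ∀ i j, z i = i → z j = j → i = j)
    (hxc : x ∈ Subgroup.centralizer ({z} : Set (Perm α))) {k : ℕ} (hx : x ^ 2 ^ k = 1)
    (hD : DD x) : DD (orbHom z hz ⟨x, hxc⟩) := by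
  have hc : ∀ i, x (z i) = z (x i) := fun i =>
    Equiv.congr_fun (Subgroup.mem_centralizer_singleton_iff.1 hxc) i
  have hq : ∀ (m : ℕ) (i : α), ((orbHom z hz ⟨x, hxc⟩ ^ m) (Quotient.mk (invSetoid z hz) i) =
      Quotient.mk (invSetoid z hz) i) ↔ ((x ^ m) i = i ∨ (x ^ m) i = z i) := by
    intro m i
    rw [orbHom_pow_mk, mk_eq_iff]
    constructor
    · rintro (h | h)
      · exact Or.inl h.symm
      · right
        calc (x ^ m) i = z (z ((x ^ m) i)) := (hz _).symm
          _ = z i := by rw [← h]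
    · rintro (h | h)
      · exact Or.inl h.symm
      · right; change i = z ((x ^ m) i); rw [h, hz]
  intro q q' hne hm
  induction q using Quotient.inductionOn with
  | h i =>
  induction q' using Quotient.inductionOn with
  | h j =>
  have e1 := fun m => (hq m i)
  have e2 := fun m => (hq m j)
  have hne1 : ¬ ((x ^ 1) i = i ∨ (x ^ 1) i = z i) := by
    rw [← e1 1, pow_one]; exact hne
  have hne2 : ¬ ((x ^ 1) j = j ∨ (x ^ 1) j = z j) := by
    rw [← e2 1, ← hm 1, pow_one]; exact hne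
  rw [pow_one, not_or] at hne1 hne2
  have hm' : ∀ m : ℕ, ((x ^ m) i = i ∨ (x ^ m) i = z i) ↔ ((x ^ m) j = j ∨ (x ^ m) j = z j) := by
    intro m
    rw [← e1, ← e2]
    exact hm m
  have hdbl : ∀ (i : α), x i ≠ i → ∀ m : ℕ, (x ^ (2 * m)) i = i ↔ ((x ^ m) i = i ∨ (x ^ m) i = z i) := by
    intro i hi m
    constructor
    · exact half hz hz1 hc hD hi
    · rintro (h | h)
      · rw [two_mul, pow_add, Perm.mul_apply, h, h]
      · rw [two_mul, pow_add, Perm.mul_apply, h, pow_apply_comm hc, h, hz]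
  obtain ⟨l, hl⟩ := hD i j hne1.1 (by
    intro m
    rcases Nat.even_or_odd' m with ⟨m', rfl | rfl⟩
    · rw [hdbl i hne1.1, hdbl j hne2.1]
      exact hm' m'
    · constructor
      · intro h
        exact absurd (odd_pow hx ⟨m', rfl⟩ h) hne1.1
      · intro h
        exact absurd (odd_pow hx ⟨m', rfl⟩ h) hne2.1)
  refine ⟨l, ?_⟩
  rw [orbHom_pow_mk]
  change Quotient.mk (invSetoid z hz) ((x ^ l) i) = _
  rw [hl]

theorem descend_F (hz : ∀ i, z (z i) = i) (hz1 : ∀ i j, z i = i → z j = j → i = j)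
    (hxc : x ∈ Subgroup.centralizer ({z} : Set (Perm α)))
    (hD : DD x) (hF : FF x) : FF (orbHom z hz ⟨x, hxc⟩) := by
  have hc : ∀ i, x (z i) = z (x i) := fun i =>
    Equiv.congr_fun (Subgroup.mem_centralizer_singleton_iff.1 hxc) i
  -- two `x`-fixed points are in one orbit of `z`
  have t1 : ∀ i j, x i = i → x j = j → (j = i ∨ j = z i) := by
    intro i j hi hj
    rcases hF i (z i) j hi (by rw [hc, hi]) hj with h | h | h
    · rcases hF j (z j) i hj (by rw [hc, hj]) hi with h' | h' | h'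
      · exact Or.inl (hz1 i j h.symm h'.symm).symm
      · right; rw [← h', hz]
      · exact Or.inl h'
    · exact Or.inr h.symm
    · exact Or.inl h.symm
  -- two points in 2-cycles of `x` which are `z`-orbits are in one orbit of `z`
  have t2 : ∀ i j, x i ≠ i → x i = z i → x j ≠ j → x j = z j → (j = i ∨ j = z i) := by
    have hev : ∀ i, x i = z i → ∀ m : ℕ, (x ^ (2 * m)) i = i := by
      intro i hi m
      induction m with
      | zero => rfl
      | succ m ih =>
        rw [show 2 * (m + 1) = 2 * m + 2 by ring, pow_add, Perm.mul_apply, pow_two, Perm.mul_apply, hi, hc, hi, hz, ih]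
    have hod : ∀ i, x i = z i → ∀ m : ℕ, (x ^ (2 * m + 1)) i = z i := by
      intro i hi m
      rw [add_comm, pow_add, Perm.mul_apply, hev i hi, pow_one, hi]
    intro i j hi hi' hj hj'
    obtain ⟨l, hl⟩ := hD i j hi (by
      intro m
      rcases Nat.even_or_odd' m with ⟨m', rfl | rfl⟩
      · rw [hev i hi', hev j hj']; simp
      · rw [hod i hi', hod j hj', ← hi', ← hj']
        exact ⟨fun h => absurd h hi, fun h => absurd h hj⟩)
    rcases Nat.even_or_odd' l with ⟨m', rfl | rfl⟩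
    · rw [hev i hi'] at hl; exact Or.inl hl.symm
    · rw [hod i hi'] at hl; exact Or.inr hl.symm
  have hq : ∀ (i : α), (orbHom z hz ⟨x, hxc⟩ (Quotient.mk (invSetoid z hz) i) =
      Quotient.mk (invSetoid z hz) i) → (x i = i ∨ (x i ≠ i ∧ x i = z i)) := by
    intro i h
    by_cases hi : x i = i
    · exact Or.inl hi
    right
    refine ⟨hi, ?_⟩
    rw [orbHom_mk, mk_eq_iff] at h
    rcases h with h | h
    · exact absurd h.symm hi
    · calc x i = z (z (x i)) := (hz _).symm
        _ = z i := by rw [← h]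
  intro q1 q2 q3 h1 h2 h3
  induction q1 using Quotient.inductionOn with
  | h i1 =>
  induction q2 using Quotient.inductionOn with
  | h i2 =>
  induction q3 using Quotient.inductionOn with
  | h i3 =>
  have e : ∀ i j : α, (j = i ∨ j = z i) → Quotient.mk (invSetoid z hz) i = Quotient.mk (invSetoid z hz) j :=
    fun i j h => (mk_eq_iff z hz).2 h
  rcases hq i1 h1 with a1 | a1 <;> rcases hq i2 h2 with a2 | a2 <;> rcases hq i3 h3 with a3 | a3
  · exact Or.inl (e _ _ (t1 _ _ a1 a2))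
  · exact Or.inl (e _ _ (t1 _ _ a1 a2))
  · exact Or.inr (Or.inr (e _ _ (t1 _ _ a1 a3)))
  · exact Or.inr (Or.inl (e _ _ (t2 _ _ a2.1 a2.2 a3.1 a3.2)))
  · exact Or.inr (Or.inl (e _ _ (t1 _ _ a2 a3)))
  · exact Or.inr (Or.inr (e _ _ (t2 _ _ a1.1 a1.2 a3.1 a3.2)))
  · exact Or.inl (e _ _ (t2 _ _ a1.1 a1.2 a2.1 a2.2))
  · exact Or.inl (e _ _ (t2 _ _ a1.1 a1.2 a2.1 a2.2))

end

/-- A 2-element with at most two fixed points and distinct nontrivial cycle lengths lies in at most one Sylow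
2-subgroup of the symmetric group. -/
theorem main (n : ℕ) : ∀ (α : Type) [Fintype α] [DecidableEq α], Fintype.card α = n → ∀ x : Perm α,
    (∃ k, x ^ 2 ^ k = 1) → DD x → FF x → ∀ P Q : Sylow 2 (Perm α), x ∈ P → x ∈ Q → P = Q := by
  induction n using Nat.strong_induction_on with
  | _ n ih =>
  intro α _ _ hn x hx hD hF P Q hP hQ
  obtain ⟨k, hx⟩ := hx
  rcases subsingleton_or_nontrivial α with hs | hs
  · apply Sylow.ext
    apply Subsingleton.elim
  obtain ⟨z, hz, hz1, hPz⟩ := exists_inv (P : Subgroup (Perm α)) P.isPGroup'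
  obtain ⟨z', hz', hz1', hQz'⟩ := exists_inv (Q : Subgroup (Perm α)) Q.isPGroup'
  have hxz := hPz hP
  have hxz' := hQz' hQ
  have hc : ∀ i, x (z i) = z (x i) := fun i =>
    Equiv.congr_fun (Subgroup.mem_centralizer_singleton_iff.1 hxz) i
  have hc' : ∀ i, x (z' i) = z' (x i) := fun i =>
    Equiv.congr_fun (Subgroup.mem_centralizer_singleton_iff.1 hxz') i
  have hzz : z = z' := unique_inv hz hz1 hc hz' hz1' hc' hD hF
  subst hzz
  refine sylow_eq_of_le (Subgroup.centralizer ({z} : Set (Perm α))) hxz ?_ P Q hP hQ hPz hQz'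
  intro R R' hR hR'
  refine sylow_eq_of_hom (orbHom z hz) (ker_orbHom z hz) ?_ R R' hR hR'
  classical
  have hlt : Fintype.card (Orb z hz) < n := by
    rw [← hn]
    obtain ⟨i, hi⟩ : ∃ i, z i ≠ i := by
      by_contra hcon
      push Not at hcon
      obtain ⟨i, j, hij⟩ := exists_pair_ne α
      exact hij (hz1 i j (hcon i) (hcon j))
    exact Fintype.card_lt_of_surjective_not_injective (Quotient.mk (invSetoid z hz)) Quotient.mk_surjective
      (fun h => hi (h ((mk_eq_iff z hz).2 (Or.inr rfl))).symm)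
  have h1 : (⟨x, hxz⟩ : Subgroup.centralizer ({z} : Set (Perm α))) ^ 2 ^ k = 1 := Subtype.ext hx
  exact ih _ hlt (Orb z hz) rfl _ ⟨k, by rw [← map_pow, h1, map_one]⟩
    (descend_D hz hz1 hxz hx hD) (descend_F hz hz1 hxz hD hF)

end Cfsg.Agent.H572.SymSylow
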