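import Cfsg.Agent.H572.SymSylowC

set_option autoImplicit false

namespace Cfsg.Agent.H572.SymSylow

open Equiv Equiv.Perm

theorem mem_closure_isPGroup {G : Type*} [Group G] {x w : G} {a b : ℕ}
    (hx : x ^ 2 ^ a = 1) (hw : w ^ 2 ^ b = 1) (hc : x * w = w * x) :
    ∃ P : Sylow 2 G, x ∈ P ∧ w ∈ P := by
  have h1 : ∀ {y : G} {c : ℕ}, y ^ 2 ^ c = 1 → IsPGroup 2 (Subgroup.zpowers y) := by
    intro y c hy
    rintro ⟨u, hu⟩
    refine ⟨c, ?_⟩
    obtain ⟨n, rfl⟩ := Subgroup.mem_zpowers_iff.1 hu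
    apply Subtype.ext
    change (y ^ n) ^ 2 ^ c = 1
    rw [← zpow_natCast, ← zpow_mul, mul_comm n, zpow_mul, zpow_natCast, hy, one_zpow]
  have h2 : IsPGroup 2 (Subgroup.zpowers x ⊔ Subgroup.zpowers w : Subgroup G) := by
    apply (h1 hx).to_sup_of_normal_right' (h1 hw)
    rw [Subgroup.zpowers_le]
    rw [Subgroup.mem_normalizer_iff]
    intro u
    have hcx : ∀ u ∈ Subgroup.zpowers w, x * u * x⁻¹ = u := by
      intro u hu
      obtain ⟨n, rfl⟩ := Subgroup.mem_zpowers_iff.1 hu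
      rw [mul_inv_eq_iff_eq_mul]
      exact ((show Commute x w from hc).zpow_right n).eq
    have hcx' : ∀ u ∈ Subgroup.zpowers w, x⁻¹ * u * x = u := by
      intro u hu
      have := hcx u hu
      rw [mul_inv_eq_iff_eq_mul] at this
      rw [mul_assoc, ← this, inv_mul_cancel_left]
    constructor
    · intro hu
      rw [hcx u hu]; exact hu
    · intro hu
      have := hcx' _ hu
      have h3 : u = x * u * x⁻¹ := by
        calc u = x⁻¹ * (x * u * x⁻¹) * x := by group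
          _ = _ := this
      rw [h3]; exact hu
  obtain ⟨P, hP⟩ := h2.exists_le_sylow
  exact ⟨P, hP (le_sup_left (α := Subgroup G) (Subgroup.mem_zpowers x)),
    hP (le_sup_right (α := Subgroup G) (Subgroup.mem_zpowers w))⟩

/-- Three fixed points give two Sylow 2-subgroups. -/
theorem FF_of_unique {α : Type*} [Fintype α] [DecidableEq α] {x : Perm α} {k : ℕ} (hx : x ^ 2 ^ k = 1)
    (hu : ∀ P Q : Sylow 2 (Perm α), x ∈ P → x ∈ Q → P = Q) : FF x := by
  intro i j l hi hj hl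
  by_contra hcon
  push Not at hcon
  obtain ⟨hij, hjl, hil⟩ := hcon
  have h1 : ∀ u v : α, x u = u → x v = v → x * swap u v = swap u v * x := by
    intro u v hu hv
    rw [mul_swap_eq_swap_mul, hu, hv]
  have h2 : ∀ u v : α, (swap u v : Perm α) ^ 2 ^ 1 = 1 := by
    intro u v
    rw [pow_one, pow_two, swap_mul_self]
  obtain ⟨P, hP1, hP2⟩ := mem_closure_isPGroup hx (h2 i j) (h1 i j hi hj)
  obtain ⟨Q, hQ1, hQ2⟩ := mem_closure_isPGroup hx (h2 i l) (h1 i l hi hl)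
  have hPQ := hu P Q hP1 hQ1
  subst hPQ
  have h3 := isThreeCycle_swap_mul_swap_same hij hil hjl
  have h4 : (swap i j * swap i l) ^ 3 = 1 := by rw [← h3.orderOf]; exact pow_orderOf_eq_one _
  have h5 := eq_one_of_cube P.isPGroup' (Subgroup.mul_mem _ hP2 hQ2) h4
  have h6 := h3.orderOf
  rw [h5, orderOf_one] at h6
  omega

section tau

variable {α : Type*} (x : Perm α) (p q : α)

open Classical in
/-- The map exchanging `x ^ m p` and `x ^ m q`. -/
noncomputable def tauFun (i : α) : α :=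
  if h : ∃ m : ℕ, (x ^ m) p = i then (x ^ h.choose) q
  else if h : ∃ m : ℕ, (x ^ m) q = i then (x ^ h.choose) p else i

variable {x p q}

theorem pow_eq_pow (hs : ∀ m : ℕ, (x ^ m) p = p ↔ (x ^ m) q = q) (a b : ℕ) :
    (x ^ a) p = (x ^ b) p ↔ (x ^ a) q = (x ^ b) q := by
  rcases le_total a b with h | h
  · obtain ⟨c, rfl⟩ := Nat.exists_eq_add_of_le h
    rw [pow_add, Perm.mul_apply, Perm.mul_apply, (x ^ a).injective.eq_iff, (x ^ a).injective.eq_iff, eq_comm, hs,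
      eq_comm]
  · obtain ⟨c, rfl⟩ := Nat.exists_eq_add_of_le h
    rw [pow_add, Perm.mul_apply, Perm.mul_apply, (x ^ b).injective.eq_iff, (x ^ b).injective.eq_iff, hs]

theorem tauFun_p (hs : ∀ m : ℕ, (x ^ m) p = p ↔ (x ^ m) q = q) (m : ℕ) :
    tauFun x p q ((x ^ m) p) = (x ^ m) q := by
  have h : ∃ m' : ℕ, (x ^ m') p = (x ^ m) p := ⟨m, rfl⟩
  rw [tauFun, dif_pos h]
  exact (pow_eq_pow hs _ _).1 h.choose_spec

theorem not_orb {k : ℕ} (hx : x ^ 2 ^ k = 1) (hne : ∀ m : ℕ, (x ^ m) p ≠ q) (a b : ℕ) : (x ^ a) p ≠ (x ^ b) q := by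
  intro h
  obtain ⟨c, hc⟩ : ∃ c : ℕ, (x ^ (c + b)) = 1 := by
    refine ⟨2 ^ k * b - b, ?_⟩
    have : 2 ^ k * b - b + b = 2 ^ k * b := Nat.sub_add_cancel (Nat.le_mul_of_pos_left b (by positivity))
    rw [this, pow_mul, hx, one_pow]
  apply hne (c + a)
  rw [pow_add, Perm.mul_apply, h, ← Perm.mul_apply, ← pow_add, hc]
  rfl

theorem tauFun_q {k : ℕ} (hx : x ^ 2 ^ k = 1) (hne : ∀ m : ℕ, (x ^ m) p ≠ q)
    (hs : ∀ m : ℕ, (x ^ m) p = p ↔ (x ^ m) q = q) (m : ℕ) :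
    tauFun x p q ((x ^ m) q) = (x ^ m) p := by
  have h0 : ¬ ∃ m' : ℕ, (x ^ m') p = (x ^ m) q := by
    rintro ⟨m', h⟩
    exact not_orb hx hne _ _ h
  have h : ∃ m' : ℕ, (x ^ m') q = (x ^ m) q := ⟨m, rfl⟩
  rw [tauFun, dif_neg h0, dif_pos h]
  exact (pow_eq_pow hs _ _).2 h.choose_spec

theorem tauFun_o {i : α} (h1 : ∀ m : ℕ, (x ^ m) p ≠ i) (h2 : ∀ m : ℕ, (x ^ m) q ≠ i) :
    tauFun x p q i = i := by
  rw [tauFun, dif_neg (by push Not; exact h1), dif_neg (by push Not; exact h2)]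

theorem tauFun_invol {k : ℕ} (hx : x ^ 2 ^ k = 1) (hne : ∀ m : ℕ, (x ^ m) p ≠ q)
    (hs : ∀ m : ℕ, (x ^ m) p = p ↔ (x ^ m) q = q) (i : α) :
    tauFun x p q (tauFun x p q i) = i := by
  by_cases h1 : ∃ m : ℕ, (x ^ m) p = i
  · obtain ⟨m, rfl⟩ := h1
    rw [tauFun_p hs, tauFun_q hx hne hs]
  by_cases h2 : ∃ m : ℕ, (x ^ m) q = i
  · obtain ⟨m, rfl⟩ := h2
    rw [tauFun_q hx hne hs, tauFun_p hs]
  push Not at h1 h2
  rw [tauFun_o h1 h2, tauFun_o h1 h2]

end tau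

theorem DD_of_unique {α : Type*} [Fintype α] [DecidableEq α] {x : Perm α} {k : ℕ} (hx : x ^ 2 ^ k = 1)
    (hu : ∀ P Q : Sylow 2 (Perm α), x ∈ P → x ∈ Q → P = Q) : DD x := by
  intro p q hp hs
  by_contra hne
  push Not at hne
  -- the involution exchanging the two orbits
  let τ : Perm α := ⟨tauFun x p q, tauFun x p q, tauFun_invol hx hne hs, tauFun_invol hx hne hs⟩
  have τp : ∀ m : ℕ, τ ((x ^ m) p) = (x ^ m) q := tauFun_p hs
  have τq : ∀ m : ℕ, τ ((x ^ m) q) = (x ^ m) p := tauFun_q hx hne hs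
  have τo : ∀ i, (∀ m : ℕ, (x ^ m) p ≠ i) → (∀ m : ℕ, (x ^ m) q ≠ i) → τ i = i := fun i => tauFun_o
  have hτ : ∀ i, τ (τ i) = i := tauFun_invol hx hne hs
  -- three kinds of points
  have hcase : ∀ i, (∃ m : ℕ, (x ^ m) p = i) ∨ (∃ m : ℕ, (x ^ m) q = i) ∨
      ((∀ m : ℕ, (x ^ m) p ≠ i) ∧ (∀ m : ℕ, (x ^ m) q ≠ i)) := by
    intro i
    by_cases h1 : ∃ m : ℕ, (x ^ m) p = i
    · exact Or.inl h1
    by_cases h2 : ∃ m : ℕ, (x ^ m) q = i
    · exact Or.inr (Or.inl h2)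
    push Not at h1 h2
    exact Or.inr (Or.inr ⟨h1, h2⟩)
  have hsucc : ∀ (m : ℕ) (i : α), x ((x ^ m) i) = (x ^ (m + 1)) i := by
    intro m i
    rw [pow_succ', Perm.mul_apply]
  have hout : ∀ i, ((∀ m : ℕ, (x ^ m) p ≠ i) ∧ (∀ m : ℕ, (x ^ m) q ≠ i)) →
      ((∀ m : ℕ, (x ^ m) p ≠ x i) ∧ (∀ m : ℕ, (x ^ m) q ≠ x i)) := by
    have key : ∀ r i : α, (∀ m : ℕ, (x ^ m) r ≠ i) → ∀ m : ℕ, (x ^ m) r ≠ x i := by
      intro r i h m hm
      apply h (2 ^ k - 1 + m)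
      have h1 : (x ^ (2 ^ k - 1)) (x i) = i := by
        rw [← Perm.mul_apply, ← pow_succ, Nat.sub_add_cancel Nat.one_le_two_pow, hx]; rfl
      rw [pow_add, Perm.mul_apply, hm, h1]
    rintro i ⟨h1, h2⟩
    exact ⟨key p i h1, key q i h2⟩
  have hxτ : ∀ i, x (τ i) = τ (x i) := by
    intro i
    rcases hcase i with ⟨m, rfl⟩ | ⟨m, rfl⟩ | h
    · rw [τp, hsucc, hsucc, τp]
    · rw [τq, hsucc, hsucc, τq]
    · rw [τo i h.1 h.2, τo (x i) (hout i h).1 (hout i h).2]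
  -- the 2-element `y`
  have hpq : ¬ SameCycle x p q := by
    intro h
    obtain ⟨m, -, -, hm⟩ := h.exists_pow_eq
    exact hne m hm
  let c : Perm α := cycleOf x q
  have cp : ∀ m : ℕ, c ((x ^ m) p) = (x ^ m) p := by
    intro m
    apply cycleOf_apply_of_not_sameCycle
    intro h
    apply hpq
    exact (sameCycle_pow_right.1 h).symm
  have cq : ∀ m : ℕ, c ((x ^ m) q) = (x ^ (m + 1)) q := by
    intro m
    rw [← hsucc]
    apply SameCycle.cycleOf_apply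
    exact sameCycle_pow_right.2 (SameCycle.refl _ _)
  have co : ∀ i, (∀ m : ℕ, (x ^ m) q ≠ i) → c i = i := by
    intro i h
    apply cycleOf_apply_of_not_sameCycle
    intro h'
    obtain ⟨m, -, -, hm⟩ := h'.exists_pow_eq
    exact h m hm
  obtain ⟨y, hydef⟩ : ∃ y : Perm α, y = τ * c := ⟨_, rfl⟩
  have yp : ∀ m : ℕ, y ((x ^ m) p) = (x ^ m) q := by
    intro m
    rw [hydef, Perm.mul_apply, cp, τp]
  have yq : ∀ m : ℕ, y ((x ^ m) q) = (x ^ (m + 1)) p := by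
    intro m
    rw [hydef, Perm.mul_apply, cq, τq]
  have yo : ∀ i, (∀ m : ℕ, (x ^ m) p ≠ i) → (∀ m : ℕ, (x ^ m) q ≠ i) → y i = i := by
    intro i h1 h2
    rw [hydef, Perm.mul_apply, co i h2, τo i h1 h2]
  have hxy : x * y = y * x := by
    ext i
    change x (y i) = y (x i)
    rcases hcase i with ⟨m, rfl⟩ | ⟨m, rfl⟩ | h
    · rw [yp, hsucc, hsucc, yp]
    · rw [yq, hsucc, hsucc, yq]
    · rw [yo i h.1 h.2, yo (x i) (hout i h).1 (hout i h).2]
  have hy2 : ∀ (n : ℕ) (i : α), ((y ^ (2 * n)) i = (x ^ n) i) ∨ ((y ^ (2 * n)) i = i ∧ y i = i) := by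
    intro n i
    rcases hcase i with ⟨m, rfl⟩ | ⟨m, rfl⟩ | h
    · left
      induction n with
      | zero => rfl
      | succ n ih =>
        rw [show 2 * (n + 1) = 1 + (1 + 2 * n) by ring, pow_add, pow_one, Perm.mul_apply, pow_add, pow_one,
          Perm.mul_apply, ih, ← Perm.mul_apply (x ^ n), ← pow_add, yp, yq, ← Perm.mul_apply, ← pow_add]
        congr 2
        ring
    · left
      induction n with
      | zero => rfl
      | succ n ih =>
        rw [show 2 * (n + 1) = 1 + (1 + 2 * n) by ring, pow_add, pow_one, Perm.mul_apply, pow_add, pow_one,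
          Perm.mul_apply, ih, ← Perm.mul_apply (x ^ n), ← pow_add, yq, yp, ← Perm.mul_apply, ← pow_add]
        congr 2
        ring
    · right
      have h1 := yo i h.1 h.2
      refine ⟨?_, h1⟩
      exact Perm.pow_apply_eq_self_of_apply_eq_self h1 _
  have hy : y ^ 2 ^ (k + 1) = 1 := by
    ext i
    rw [pow_succ', ]
    rcases hy2 (2 ^ k) i with h | h
    · rw [h, hx]
    · rw [h.1]; rfl
  obtain ⟨P, hP1, hP2⟩ := mem_closure_isPGroup hx hy hxy
  -- the second Sylow subgroup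
  let w : Perm α := swap p q
  have hpq' : p ≠ q := fun h => hne 0 (by rw [pow_zero]; exact h)
  have τp0 : τ p = q := τp 0
  have τq0 : τ q = p := τq 0
  have hwτ : w ∈ Subgroup.centralizer ({τ} : Set (Perm α)) := by
    rw [Subgroup.mem_centralizer_singleton_iff]
    change swap p q * τ = τ * swap p q
    rw [mul_swap_eq_swap_mul, τp0, τq0, swap_comm]
  have hxτ' : x ∈ Subgroup.centralizer ({τ} : Set (Perm α)) := by
    rw [Subgroup.mem_centralizer_singleton_iff]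
    ext i
    exact hxτ i
  have hwk : orbHom τ hτ ⟨w, hwτ⟩ = 1 := by
    ext r
    induction r using Quotient.inductionOn with
    | h i =>
    rw [orbHom_mk, Perm.one_apply, mk_eq_iff]
    change i = swap p q i ∨ i = τ (swap p q i)
    by_cases h1 : i = p
    · right; rw [h1, swap_apply_left, τq0]
    by_cases h2 : i = q
    · right; rw [h2, swap_apply_right, τp0]
    left
    rw [swap_apply_of_ne_of_ne h1 h2]
  obtain ⟨Q, hQ1, hQ2⟩ : ∃ Q : Sylow 2 (Perm α), x ∈ Q ∧ w ∈ Q := by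
    have h1 : IsPGroup 2 (Subgroup.zpowers (orbHom τ hτ ⟨x, hxτ'⟩)) := by
      rintro ⟨u, hu⟩
      refine ⟨k, ?_⟩
      obtain ⟨n, rfl⟩ := Subgroup.mem_zpowers_iff.1 hu
      apply Subtype.ext
      change (orbHom τ hτ ⟨x, hxτ'⟩ ^ n) ^ 2 ^ k = 1
      have h0 : (⟨x, hxτ'⟩ : Subgroup.centralizer ({τ} : Set (Perm α))) ^ 2 ^ k = 1 := Subtype.ext hx
      rw [← zpow_natCast, ← zpow_mul, mul_comm n, zpow_mul, zpow_natCast, ← map_pow, h0, map_one, one_zpow]
    have h2 := (h1.comap_of_ker_isPGroup (orbHom τ hτ) (ker_orbHom τ hτ)).map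
      (Subgroup.subtype (Subgroup.centralizer ({τ} : Set (Perm α))))
    obtain ⟨Q, hQ⟩ := h2.exists_le_sylow
    refine ⟨Q, hQ ⟨⟨x, hxτ'⟩, Subgroup.mem_zpowers _, rfl⟩, hQ ⟨⟨w, hwτ⟩, ?_, rfl⟩⟩
    change orbHom τ hτ ⟨w, hwτ⟩ ∈ Subgroup.zpowers _
    rw [hwk]
    exact Subgroup.one_mem _
  have hPQ := hu P Q hP1 hQ1
  subst hPQ
  -- an element of order 3
  have hconj : y * w * y⁻¹ = swap q (x p) := by
    change y * swap p q * y⁻¹ = _
    rw [mul_swap_eq_swap_mul, mul_assoc, mul_inv_cancel, mul_one]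
    have e1 : y p = q := yp 0
    have e2 : y q = x p := by
      have := yq 0
      rw [pow_zero, zero_add, pow_one] at this
      exact this
    rw [e1, e2]
  have hm1 : swap q p * swap q (x p) ∈ P := by
    apply Subgroup.mul_mem
    · rw [swap_comm]; exact hQ2
    · rw [← hconj]
      exact Subgroup.mul_mem _ (Subgroup.mul_mem _ hP2 hQ2) (Subgroup.inv_mem _ hP2)
  have hqx : q ≠ x p := fun h => hne 1 (by rw [pow_one]; exact h.symm)
  have h3 := isThreeCycle_swap_mul_swap_same hpq'.symm hqx (Ne.symm hp)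
  have h4 : (swap q p * swap q (x p)) ^ 3 = 1 := by rw [← h3.orderOf]; exact pow_orderOf_eq_one _
  have h5 := eq_one_of_cube P.isPGroup' hm1 h4
  have h6 := h3.orderOf
  rw [h5, orderOf_one] at h6
  omega

end Cfsg.Agent.H572.SymSylow
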