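import Cfsg.Agent.H572.SymSylowD

set_option autoImplicit false

namespace Cfsg.Agent.H572.SymSylow

open Equiv Equiv.Perm

theorem FF_iff {n : ℕ} (x : Perm (Fin n)) : FF x ↔ n ≤ x.support.card + 2 := by
  have h1 : x.supportᶜ.card = n - x.support.card := by rw [Finset.card_compl, Fintype.card_fin]
  have h2 : x.support.card ≤ n := by
    have := Finset.card_le_univ x.support
    rwa [Fintype.card_fin] at this
  have h3 : n ≤ x.support.card + 2 ↔ ¬ 2 < x.supportᶜ.card := by omega
  rw [h3, Finset.two_lt_card]
  constructor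
  · rintro h ⟨i, hi, j, hj, k, hk, hij, hik, hjk⟩
    rw [Finset.mem_compl, notMem_support] at hi hj hk
    rcases h i j k hi hj hk with e | e | e
    · exact hij e
    · exact hjk e
    · exact hik e
  · intro h i j k hi hj hk
    by_contra hcon
    push Not at hcon
    apply h
    refine ⟨i, ?_, j, ?_, k, ?_, hcon.1, hcon.2.2, hcon.2.1⟩ <;> rw [Finset.mem_compl, notMem_support] <;>
      assumption

theorem pow_apply_eq_self_iff {α : Type*} [Fintype α] [DecidableEq α] (x : Perm α) {i : α} (hi : x i ≠ i) (m : ℕ) :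
    (x ^ m) i = i ↔ (cycleOf x i).support.card ∣ m := by
  have hc := isCycle_cycleOf x hi
  rw [← hc.orderOf, orderOf_dvd_iff_pow_eq_one, hc.pow_eq_one_iff' (x := i)]
  · rw [cycleOf_pow_apply_self]
  · rw [cycleOf_apply_self]; exact hi

theorem DD_iff {α : Type*} [Fintype α] [DecidableEq α] (x : Perm α) : DD x ↔ x.cycleType.Nodup := by
  rw [cycleType_def, Multiset.nodup_map_iff_inj_on x.cycleFactorsFinset.nodup]
  constructor
  · intro h c hc c' hc' he
    have hc : c ∈ x.cycleFactorsFinset := hc
    have hc' : c' ∈ x.cycleFactorsFinset := hc'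
    obtain ⟨i, hi⟩ := (mem_cycleFactorsFinset_iff.1 hc).1.nonempty_support
    obtain ⟨j, hj⟩ := (mem_cycleFactorsFinset_iff.1 hc').1.nonempty_support
    have hci := cycle_is_cycleOf hi hc
    have hcj := cycle_is_cycleOf hj hc'
    have hxi : x i ≠ i := mem_support.1 (mem_cycleFactorsFinset_support_le hc hi)
    have hxj : x j ≠ j := mem_support.1 (mem_cycleFactorsFinset_support_le hc' hj)
    obtain ⟨k, hk⟩ := h i j hxi (by
      intro m
      rw [pow_apply_eq_self_iff x hxi, pow_apply_eq_self_iff x hxj, ← hci, ← hcj]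
      change c.support.card = c'.support.card at he
      rw [he])
    have hs : SameCycle x i j := ⟨k, by rw [zpow_natCast]; exact hk⟩
    rw [hci, hcj]
    exact hs.cycleOf_eq
  · intro h i j hi hm
    have hj : x j ≠ j := by
      have := hm 1
      rw [pow_one] at this
      exact fun h' => hi (this.2 h')
    have h1 : (cycleOf x i).support.card = (cycleOf x j).support.card := by
      apply Nat.dvd_antisymm
      · rw [← pow_apply_eq_self_iff x hi, hm, pow_apply_eq_self_iff x hj]
      · rw [← pow_apply_eq_self_iff x hj, ← hm, pow_apply_eq_self_iff x hi]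
    have h2 : cycleOf x i = cycleOf x j := by
      apply h
      · exact cycleOf_mem_cycleFactorsFinset_iff.2 (mem_support.2 hi)
      · exact cycleOf_mem_cycleFactorsFinset_iff.2 (mem_support.2 hj)
      · exact h1
    have h3 : SameCycle x i j :=
      (sameCycle_iff_cycleOf_eq_of_mem_support (mem_support.2 hi) (mem_support.2 hj)).2 h2
    obtain ⟨m, -, -, hm⟩ := h3.exists_pow_eq
    exact ⟨m, hm⟩

end Cfsg.Agent.H572.SymSylow
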