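import Mathlib
import Cfsg.Agent.H572.SzModH

/-!
# Martineau's theorem for the Suzuki groups, part I: `F5`-modules that are 2-groups have exponent two
-/

set_option autoImplicit false

universe u v

namespace Cfsg.Agent.H572.SzMod

open scoped Matrix
open Cfsg.Agent.LieRecognition.SzMatrix
open Cfsg.Agent.ThreePrime

variable {F : Type u} [Field F] {θ : F →+* F} {e : ℕ}

attribute [local instance] finite_quot

theorem exp_two_aux (H : Good F θ e) [Finite F] (hθ : ∃ x : F, θ x ≠ x) (n : ℕ) :
    ∀ (A : Type v) [AddCommGroup A] [Module (Rg F e) A] [Finite A], Nat.card A ≤ n →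
      (∀ v : A, ∃ k : ℕ, (2 ^ k) • v = 0) → F5 H A → E2 A := by
  induction n with
  | zero =>
    intro A _ _ _ hA _ _
    have := Nat.card_pos (α := A)
    omega
  | succ n ih =>
    intro A _ _ _ hA hp h5
    rcases subsingleton_or_nontrivial A with hs | hs
    · intro v
      exact Subsingleton.elim _ _
    obtain ⟨X, hX⟩ := exists_atom (F := F) (e := e) (A := A)
    have hXs : IsSimpleModule (Rg F e) X := isSimpleModule_iff_isAtom.2 hX
    -- the submodule of elements of order at most two
    let Y : Submodule (Rg F e) A := LinearMap.ker (LinearMap.id + LinearMap.id : A →ₗ[Rg F e] A)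
    have hY : ∀ v : A, v ∈ Y ↔ v + v = 0 := fun v => Iff.rfl
    have hXY : X ≤ Y := by
      have h1 : X ⊓ Y ≠ ⊥ := by
        obtain ⟨x, hx, hx0⟩ := (Submodule.ne_bot_iff X).1 hX.1
        have hk := hp x
        classical
        set k := Nat.find hk with hkdef
        have hk1 : (2 ^ k) • x = 0 := Nat.find_spec hk
        have hk0 : k ≠ 0 := by
          intro h0
          rw [h0, pow_zero, one_smul] at hk1
          exact hx0 hk1
        obtain ⟨l, hl⟩ := Nat.exists_eq_succ_of_ne_zero hk0
        have hk2 : (2 ^ l) • x ≠ 0 := Nat.find_min hk (by rw [← hkdef, hl]; exact Nat.lt_succ_self l)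
        rw [Submodule.ne_bot_iff]
        refine ⟨(2 ^ l) • x, ⟨X.toAddSubgroup.nsmul_mem hx _, ?_⟩, hk2⟩
        rw [SetLike.mem_coe, hY, ← two_nsmul, ← mul_smul, ← pow_succ']
        rw [hl] at hk1
        exact hk1
      have h2 : X ⊓ Y = X := by
        rcases hX.le_iff.1 (inf_le_left : X ⊓ Y ≤ X) with h | h
        · exact absurd h h1
        · exact h
      rw [← h2]
      exact inf_le_right
    have hX2 : E2 X := fun v => Subtype.ext (hXY v.2)
    have hXn : IsNat F e X := simple_isNat H hX2 (h5.sub X)
    have hQ2 : E2 (A ⧸ X) := ih (A ⧸ X) (by have := card_quot_lt hX.1; omega) (by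
      intro v
      obtain ⟨v, rfl⟩ := X.mkQ_surjective v
      obtain ⟨k, hk⟩ := hp v
      refine ⟨k, ?_⟩
      rw [← map_nsmul, hk, map_zero]) (h5.quot X)
    have hdX : ∀ v : A, v + v ∈ X := by
      intro v
      have h1 := hQ2 (X.mkQ v)
      rwa [← map_add, Submodule.mkQ_apply, Submodule.Quotient.mk_eq_zero] at h1
    by_contra hE
    unfold E2 at hE
    push Not at hE
    obtain ⟨v0, hv0⟩ := hE
    obtain ⟨ι, hι⟩ := hXn
    have hj : ∀ x ∈ X, ∃ z, x = (ι z : A) := by
      intro x hx
      refine ⟨ι.symm ⟨x, hx⟩, ?_⟩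
      rw [AddEquiv.apply_symm_apply]
    -- the doubling map
    let π : A →+ (Fin 4 → F) :=
      { toFun := fun v => ι.symm ⟨v + v, hdX v⟩
        map_zero' := by
          have : (⟨(0 : A) + 0, hdX 0⟩ : X) = 0 := Subtype.ext (add_zero 0)
          rw [this, map_zero]
        map_add' := by
          intro v w
          rw [← map_add]
          congr 1
          apply Subtype.ext
          show v + w + (v + w) = v + v + (w + w)
          abel }
    have hπ : ∀ v, (ι (π v) : A) = v + v := by
      intro v
      show (ι (ι.symm ⟨v + v, hdX v⟩) : A) = v + v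
      rw [AddEquiv.apply_symm_apply]
    have hπa : ∀ (g : ↥(Cfsg.Lie.Sz F e)) (v : A), π (gr g • v) = mv g (π v) := by
      intro g w
      apply ι.injective
      apply Subtype.ext
      rw [hπ, hι]
      show _ = gr g • (ι (π w) : A)
      rw [hπ, smul_add]
    have hQ0 : ∀ a b v, rr H a • rr H b • X.mkQ v = 0 := fun a b v => rr_rr_zero H hQ2 (h5.quot X) a b _
    let E : Ext H A :=
      { j := (X.subtype.toAddMonoidHom).comp ι.toAddMonoidHom
        j_inj := X.subtype_injective.comp ι.injective
        j_act := fun g z => congrArg Subtype.val (hι g z)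
        π := π
        π_surj := by
          have h1 : π.range = ⊤ := by
            refine inv_subgroup H π.range ?_ (z := π v0) ⟨v0, rfl⟩ ?_
            · rintro g z ⟨w, rfl⟩
              exact ⟨gr g • w, hπa g w⟩
            · intro h
              apply hv0
              rw [← hπ, h, map_zero]
              rfl
          exact AddMonoidHom.range_eq_top.1 h1
        π_act := hπa
        πj := by
          intro z
          apply ι.injective
          apply Subtype.ext
          rw [hπ, map_zero]
          exact hXY (ι z).2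
        h1 := by
          intro a b w
          have h3 := hQ0 a b w
          rw [← map_smul, ← map_smul, Submodule.mkQ_apply, Submodule.Quotient.mk_eq_zero] at h3
          exact hj _ h3
        h2 := by
          intro a b w hw
          have h3 : w ∈ Y := by
            rw [hY, ← hπ, hw, map_zero]
            rfl
          have hY2 : E2 Y := fun v => Subtype.ext v.2
          exact congrArg Subtype.val (rr_rr_zero H hY2 (h5.sub Y) a b ⟨w, h3⟩) }
    have hEπ : ∀ v : A, E.j (E.π v) = v + v := hπ
    obtain ⟨ψ, c, hs⟩ := E.exists_shape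
    obtain ⟨b, hb⟩ := hθ
    have hb0 : b ≠ 0 := by
      rintro rfl
      exact hb (map_zero θ)
    have hb1 : b ≠ 1 := by
      rintro rfl
      exact hb (map_one θ)
    obtain ⟨v, hv⟩ := E.π_surj ![0, 0, 0, 1]
    have h4 : ∃ v' z, rr H b • v = rr H 1 • v' + E.j z := by
      obtain ⟨w', hw'⟩ := ker_rr H hQ2 (h5.quot X) one_ne_zero (hQ0 1 b v)
      obtain ⟨w', rfl⟩ := X.mkQ_surjective w'
      rw [← map_smul, ← map_smul, ← sub_eq_zero, ← map_sub, Submodule.mkQ_apply,
        Submodule.Quotient.mk_eq_zero] at hw'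
      obtain ⟨z, hz⟩ := hj _ hw'
      refine ⟨w', z, ?_⟩
      show rr H b • v = rr H 1 • w' + (ι z : A)
      rw [← hz]
      abel
    obtain ⟨v', ξ, h4⟩ := h4
    have hneg : ∀ z, -(E.j z) = E.j z := fun z => neg_eq_of_add_eq_zero_left (E.j_two z)
    have e1 := congrArg (fun w => rr H 1 • w) h4
    have e2 := congrArg (fun w => rr H b • w) h4
    have e3 := congrArg E.π h4
    simp only [smul_add] at e1 e2
    rw [rr_self_smul, ← hEπ, E.π_rr, hneg, hs, E.j_rr, ← map_add] at e1
    rw [rr_self_smul, ← hEπ, E.π_rr, hneg, rr_comm_smul, hs, E.j_rr, ← map_add] at e2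
    rw [map_add, E.π_rr, E.π_rr, E.πj, add_zero] at e3
    have f1 := congrFun (E.j_inj e1) 1
    have f2 := congrFun (E.j_inj e2) 1
    have f3 := congrFun e3 1
    rw [hv] at f1 f2 f3
    simp [rv] at f1 f2 f3
    -- `f1 : c = z' + ξ`, `f2 : b = c z' + b ξ`, `f3 : b = z'`
    apply hb1
    have h6 : b * (b - 1) = 0 := by
      rw [f1, ← f3] at f2
      linear_combination -f2 - b * ξ 3 * H.two
    rcases mul_eq_zero.mp h6 with h7 | h7
    · exact absurd h7 hb0
    · exact sub_eq_zero.mp h7

/-- **a module which is a 2-group has exponent two** -/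
theorem exp_two (H : Good F θ e) [Finite F] (hθ : ∃ x : F, θ x ≠ x) {A : Type v} [AddCommGroup A]
    [Module (Rg F e) A] [Finite A] (hp : ∀ v : A, ∃ k : ℕ, (2 ^ k) • v = 0) (h5 : F5 H A) : E2 A :=
  exp_two_aux H hθ _ A le_rfl hp h5

end Cfsg.Agent.H572.SzMod
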