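import Mathlib
import Cfsg.Agent.H572.SzModI

/-!
# Martineau's theorem for the Suzuki groups, part J: the group theoretic statement

`martineau`: let `p : G → Sz(F)` be a surjective homomorphism of finite groups whose kernel `Q` is a 2-group on which
every element of order 5 acts without nontrivial fixed points. Then `Q` is elementary abelian.
-/

set_option autoImplicit false

universe u v

namespace Cfsg.Agent.H572.SzMod

open scoped Matrix
open Cfsg.Agent.LieRecognition.SzMatrix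
open Cfsg.Agent.ThreePrime

section abm

variable {S : Type*} {N : Type v} [Group S] [Group N]

/-- an abelian group with an action by automorphisms, as a module over the group ring -/
def AbM (_h : ∀ x y : N, x * y = y * x) (_ρ : S →* MulAut N) : Type v := N

variable (h : ∀ x y : N, x * y = y * x) (ρ : S →* MulAut N)

noncomputable instance AbM.addCommGroup : AddCommGroup (AbM h ρ) :=
  let _ : CommGroup N := { (inferInstance : Group N) with mul_comm := h }
  inferInstanceAs (AddCommGroup (Additive N))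

/-- the element of the module given by `x` -/
def AbM.of (x : N) : AbM h ρ := x

/-- the group element underlying an element of the module -/
def AbM.to (x : AbM h ρ) : N := x

theorem AbM.of_mul (x y : N) : AbM.of h ρ (x * y) = AbM.of h ρ x + AbM.of h ρ y := rfl

theorem AbM.of_one : AbM.of h ρ 1 = 0 := rfl

theorem AbM.of_pow (x : N) (n : ℕ) : AbM.of h ρ (x ^ n) = n • AbM.of h ρ x := by
  induction n with
  | zero => rw [pow_zero, zero_smul]; rfl
  | succ n ih => rw [pow_succ, AbM.of_mul, ih, succ_nsmul]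

/-- the action as a representation -/
noncomputable def AbM.rep : S →* Module.End ℤ (AbM h ρ) where
  toFun g := AddMonoidHom.toIntLinearMap
    { toFun := fun x => AbM.of h ρ (ρ g (AbM.to h ρ x))
      map_zero' := map_one (ρ g)
      map_add' := map_mul (ρ g) }
  map_one' := by
    ext x
    show AbM.of h ρ (ρ 1 (AbM.to h ρ x)) = x
    rw [map_one]
    rfl
  map_mul' g k := by
    ext x
    show AbM.of h ρ (ρ (g * k) (AbM.to h ρ x)) = AbM.of h ρ (ρ g (ρ k (AbM.to h ρ x)))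
    rw [map_mul]
    rfl

noncomputable instance AbM.module : Module (MonoidAlgebra ℤ S) (AbM h ρ) :=
  Module.compHom (AbM h ρ) (MonoidAlgebra.lift ℤ (Module.End ℤ (AbM h ρ)) S (AbM.rep h ρ)).toRingHom

theorem AbM.smul_def (g : S) (x : N) : MonoidAlgebra.of ℤ S g • AbM.of h ρ x = AbM.of h ρ (ρ g x) := by
  have h1 : MonoidAlgebra.of ℤ S g • AbM.of h ρ x =
    (MonoidAlgebra.lift ℤ (Module.End ℤ (AbM h ρ)) S (AbM.rep h ρ)) (MonoidAlgebra.of ℤ S g) (AbM.of h ρ x) := rfl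
  rw [h1, MonoidAlgebra.lift_of]
  rfl

end abm

/-- lifting elements of order 5 -/
theorem exists_lift5 {G K : Type*} [Group G] [Group K] (f : G →* K) (hf : Function.Surjective f)
    (hk : IsPGroup 2 f.ker) {s : K} (hs : orderOf s = 5) : ∃ g, f g = s ∧ orderOf g = 5 := by
  obtain ⟨g0, hg0⟩ := hf s
  have h1 : g0 ^ 5 ∈ f.ker := by
    rw [MonoidHom.mem_ker, map_pow, hg0, ← hs, pow_orderOf_eq_one]
  obtain ⟨k, hk1⟩ := hk ⟨g0 ^ 5, h1⟩
  have hk2 : (g0 ^ 5) ^ 2 ^ k = 1 := congrArg Subtype.val hk1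
  have h16 : 16 ^ k % 5 = 1 := by
    rw [Nat.pow_mod]
    simp
  have h3 : s ^ (16 ^ k) = s := by
    conv_rhs => rw [← pow_one s]
    rw [pow_inj_mod, hs, h16]
  have h4 : 16 ^ k = 2 ^ k * 8 ^ k := by
    rw [← Nat.mul_pow]
  refine ⟨g0 ^ (16 ^ k), ?_, ?_⟩
  · rw [map_pow, hg0, h3]
  · have : Fact (Nat.Prime 5) := ⟨by norm_num⟩
    apply orderOf_eq_prime
    · rw [← pow_mul, mul_comm, pow_mul, h4, pow_mul, hk2, one_pow]
    · intro h5
      have h6 := congrArg f h5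
      rw [map_pow, hg0, h3, map_one] at h6
      rw [h6, orderOf_one] at hs
      norm_num at hs

variable {F : Type u} [Field F] {θ : F →+* F} {e : ℕ}

theorem mv_faithful {g : ↥(Cfsg.Lie.Sz F e)} (h : ∀ z, mv g z = z) : g = 1 := by
  apply Subtype.ext
  apply Units.ext
  show g.1.1 = (1 : GL (Fin 4) F).1
  rw [Units.val_one]
  apply Matrix.mulVec_injective
  funext z
  rw [Matrix.one_mulVec]
  exact h z

theorem yy_pow (H : Good F θ e) : yy H ^ 5 = 1 := by
  have h0 := H.two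
  apply mv_faithful
  intro z
  rw [pow_succ, pow_succ, pow_succ, pow_succ, pow_one, mv_mul, mv_mul, mv_mul, mv_mul, mv_y, mv_y, mv_y, mv_y, mv_y]
  ext i
  fin_cases i
  · simp
    linear_combination (z 1 + z 2 + 2 * z 3 + (4 * z 3 + z 1 + 2 * z 0 + 2 * z 2)) * h0
  · simp
    linear_combination (z 3 + z 0 + z 2 + (2 * z 2 + z 0 + 2 * z 3)) * h0
  · simp
    linear_combination (z 0 + z 1 + 2 * z 3 + z 2 + (2 * z 1 + 6 * z 3 + 2 * z 0 + 2 * z 2)) * h0
  · simp
    linear_combination (z 0 + z 1 + 2 * z 3 + z 2 + (5 * z 0 + 7 * z 2 + 9 * z 3 + 2 * z 1)) * h0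

theorem yy_order (H : Good F θ e) : orderOf (yy H) = 5 := by
  have : Fact (Nat.Prime 5) := ⟨by norm_num⟩
  apply orderOf_eq_prime (yy_pow H)
  intro h
  have h1 := mv_y1 H
  rw [h, mv_one] at h1
  have h2 := congrFun h1 0
  simp [e0] at h2

/-- the action on a normal subgroup centralised by the kernel -/
theorem exists_rho {G S : Type*} [Group G] [Group S] (p : G →* S) (hp : Function.Surjective p) (N : Subgroup G)
    [N.Normal] (hN : ∀ g ∈ p.ker, ∀ x ∈ N, g * x = x * g) :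
    ∃ ρ : S →* MulAut N, ∀ (g : G) (x : N), ((ρ (p g) x : N) : G) = g * x * g⁻¹ := by
  have hk : p.ker ≤ (MulAut.conjNormal (H := N)).ker := by
    intro g hg
    rw [MonoidHom.mem_ker]
    ext x
    rw [MulAut.conjNormal_apply, hN g hg x x.2, mul_inv_cancel_right]
    rfl
  refine ⟨p.liftOfRightInverse (Function.surjInv hp) (Function.rightInverse_surjInv hp)
    ⟨MulAut.conjNormal (H := N), hk⟩, ?_⟩
  intro g x
  rw [MonoidHom.liftOfRightInverse_comp_apply]
  exact MulAut.conjNormal_apply g x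

section main

variable {G : Type v} [Group G]

/-- free action of the elements of order 5 -/
def Free5 (Q : Subgroup G) : Prop := ∀ g : G, orderOf g = 5 → ∀ x ∈ Q, g * x = x * g → x = 1

theorem f5_of_free (H : Good F θ e) (p : G →* ↥(Cfsg.Lie.Sz F e)) (hp : Function.Surjective p)
    (hk : IsPGroup 2 p.ker) (hf : Free5 p.ker) {N : Subgroup G} (hNk : N ≤ p.ker)
    (hc : ∀ x y : N, x * y = y * x) (ρ : ↥(Cfsg.Lie.Sz F e) →* MulAut N)
    (hρ : ∀ (g : G) (x : N), ((ρ (p g) x : N) : G) = g * x * g⁻¹) : F5 H (AbM hc ρ) := by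
  obtain ⟨g, hg, hg5⟩ := exists_lift5 p hp hk (yy_order H)
  -- the norm of `x`
  suffices key : ∀ x : N, AbM.of hc ρ x + MonoidAlgebra.of ℤ _ (yy H) • AbM.of hc ρ x +
      MonoidAlgebra.of ℤ _ (yy H ^ 2) • AbM.of hc ρ x + MonoidAlgebra.of ℤ _ (yy H ^ 3) • AbM.of hc ρ x +
      MonoidAlgebra.of ℤ _ (yy H ^ 4) • AbM.of hc ρ x = 0 from fun x => key (AbM.to hc ρ x)
  intro x
  set y := yy H with hy
  rw [AbM.smul_def, AbM.smul_def, AbM.smul_def, AbM.smul_def, ← AbM.of_mul, ← AbM.of_mul, ← AbM.of_mul,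
    ← AbM.of_mul, ← AbM.of_one]
  congr 1
  set m := x * ρ y x * ρ (y ^ 2) x * ρ (y ^ 3) x * ρ (y ^ 4) x with hm
  have h1 : ρ y m = m := by
    have hs : ∀ k : ℕ, ρ y (ρ (y ^ k) x) = ρ (y ^ (k + 1)) x := by
      intro k
      rw [pow_succ', map_mul]
      rfl
    have s1 : ρ y (ρ y x) = ρ (y ^ 2) x := by
      rw [pow_two, map_mul]
      rfl
    have s2 : ρ y (ρ (y ^ 2) x) = ρ (y ^ 3) x := hs 2
    have s3 : ρ y (ρ (y ^ 3) x) = ρ (y ^ 4) x := hs 3
    have s4 : ρ y (ρ (y ^ 4) x) = x := by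
      rw [hs 4]
      show ρ (y ^ 5) x = x
      rw [hy, yy_pow, map_one]
      rfl
    rw [hm, map_mul, map_mul, map_mul, map_mul, s1, s2, s3, s4]
    rw [hc _ x, ← mul_assoc, ← mul_assoc, ← mul_assoc]
  have h2 := hρ g m
  rw [hg, h1] at h2
  have h3 : g * (m : G) = m * g := by
    conv_rhs => rw [h2]
    rw [inv_mul_cancel_right]
  apply Subtype.ext
  exact hf g hg5 m (hNk m.2) h3

/-- an abelian kernel has exponent two -/
theorem exp_two_of_comm (H : Good F θ e) [Finite F] (hθ : ∃ x : F, θ x ≠ x) [Finite G]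
    (p : G →* ↥(Cfsg.Lie.Sz F e)) (hp : Function.Surjective p)
    (hk : IsPGroup 2 p.ker) (hf : Free5 p.ker) (N : Subgroup G) [N.Normal] (hNk : N ≤ p.ker)
    (hN : ∀ g ∈ p.ker, ∀ x ∈ N, g * x = x * g) (x : G) (hx : x ∈ N) : x * x = 1 := by
  have hc : ∀ x y : N, x * y = y * x := fun x y => Subtype.ext (hN x (hNk x.2) y y.2)
  obtain ⟨ρ, hρ⟩ := exists_rho p hp N hN
  have h5 := f5_of_free H p hp hk hf hNk hc ρ hρ
  have hfin : Finite (AbM hc ρ) := inferInstanceAs (Finite N)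
  have h2 : E2 (AbM hc ρ) := by
    refine exp_two H hθ ?_ h5
    suffices key : ∀ x : N, ∃ k : ℕ, (2 ^ k) • AbM.of hc ρ x = 0 from fun x => key (AbM.to hc ρ x)
    intro x
    obtain ⟨k, hk1⟩ := hk ⟨x, hNk x.2⟩
    refine ⟨k, ?_⟩
    have hk2 : (x : G) ^ 2 ^ k = 1 := congrArg Subtype.val hk1
    have hk3 : x ^ 2 ^ k = 1 := Subtype.ext hk2
    rw [← AbM.of_pow, hk3, AbM.of_one]
  have h3 := h2 (AbM.of hc ρ ⟨x, hx⟩)
  exact congrArg Subtype.val h3

/-- free action passes to quotients -/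
theorem free5_quot [Finite G] {Q Z : Subgroup G} [Z.Normal] (hZQ : Z ≤ Q) (hQ : IsPGroup 2 Q)
    (hZc : ∀ x ∈ Q, ∀ z ∈ Z, x * z = z * x) (hf : Free5 Q) :
    Free5 (Q.map (QuotientGroup.mk' Z)) := by
  rintro gb hg5 xb ⟨x, hx, rfl⟩ hcomm
  have hkZ : IsPGroup 2 (QuotientGroup.mk' Z).ker := by
    rw [QuotientGroup.ker_mk']
    exact hQ.to_le hZQ
  obtain ⟨g, rfl, hg⟩ := exists_lift5 (QuotientGroup.mk' Z) (QuotientGroup.mk'_surjective Z) hkZ hg5
  -- `z0 = x⁻¹ g x g⁻¹`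
  have hz0 : x⁻¹ * (g * x * g⁻¹) ∈ Z := by
    rw [← QuotientGroup.ker_mk' Z, MonoidHom.mem_ker, map_mul, map_mul, map_mul, hcomm, map_inv, map_inv,
      mul_inv_cancel_right, inv_mul_cancel]
  -- `z ↦ z⁻¹ g z g⁻¹` is surjective on `Z`
  have hsurj : Function.Surjective (fun z : Z => (⟨(z : G)⁻¹ * (g * z * g⁻¹),
      Z.mul_mem (Z.inv_mem z.2) (Subgroup.Normal.conj_mem inferInstance _ z.2 g)⟩ : Z)) := by
    apply Finite.surjective_of_injective
    intro z w hzw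
    have h1 : (z : G)⁻¹ * (g * z * g⁻¹) = (w : G)⁻¹ * (g * w * g⁻¹) := congrArg Subtype.val hzw
    have h2 : g * ((z : G) * (w : G)⁻¹) = ((z : G) * (w : G)⁻¹) * g := by
      have h3 : g * z * g⁻¹ = z * (w : G)⁻¹ * (g * w * g⁻¹) := by
        rw [mul_assoc (z : G), ← h1]
        group
      have h4 : g * ((z : G) * (w : G)⁻¹) * g⁻¹ = z * (w : G)⁻¹ := by
        calc g * ((z : G) * (w : G)⁻¹) * g⁻¹ = g * (z : G) * g⁻¹ * (g * w * g⁻¹)⁻¹ := by group
          _ = _ := by rw [h3, mul_inv_cancel_right]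
      exact mul_inv_eq_iff_eq_mul.mp h4
    have h5 := hf g hg _ (hZQ (Z.mul_mem z.2 (Z.inv_mem w.2))) h2
    exact Subtype.ext (mul_inv_eq_one.mp h5)
  obtain ⟨z, hz⟩ := hsurj ⟨(x⁻¹ * (g * x * g⁻¹))⁻¹, Z.inv_mem hz0⟩
  have hz1 : (z : G)⁻¹ * (g * z * g⁻¹) = (x⁻¹ * (g * x * g⁻¹))⁻¹ := congrArg Subtype.val hz
  have h6 : g * (x * z) = (x * z) * g := by
    have h7 : g * z * g⁻¹ = z * (x⁻¹ * (g * x * g⁻¹))⁻¹ := by
      rw [← hz1]; group
    have h8 : g * x * g⁻¹ = x * (x⁻¹ * (g * x * g⁻¹)) := by group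
    have h9 : g * (x * z) * g⁻¹ = x * z := by
      calc g * (x * z) * g⁻¹ = (g * x * g⁻¹) * (g * z * g⁻¹) := by group
        _ = x * (x⁻¹ * (g * x * g⁻¹)) * (z * (x⁻¹ * (g * x * g⁻¹))⁻¹) := by rw [h7]; group
        _ = x * ((x⁻¹ * (g * x * g⁻¹)) * z) * (x⁻¹ * (g * x * g⁻¹))⁻¹ := by group
        _ = x * (z * (x⁻¹ * (g * x * g⁻¹))) * (x⁻¹ * (g * x * g⁻¹))⁻¹ := by
            rw [hZc (x⁻¹ * (g * x * g⁻¹)) (hZQ hz0) z z.2]
        _ = x * z := by group
    exact mul_inv_eq_iff_eq_mul.mp h9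
  have h10 := hf g hg _ (Q.mul_mem hx (hZQ z.2)) h6
  have h11 : x = (z : G)⁻¹ := mul_eq_one_iff_eq_inv.mp h10
  rw [h11, ← MonoidHom.mem_ker, QuotientGroup.ker_mk']
  exact Z.inv_mem z.2

end main

end Cfsg.Agent.H572.SzMod
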